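import Groth.Agent.GrpSchLib.BCPoints
import Groth.Agent.GrpSchLib.MultTypeBC
import Groth.Agent.TransLib.MultEssFree
import Groth.Agent.MultTypeLib.CoverType
import Groth.Agent.MultTypeLib.Build
import Groth.Agent.MultTypeLib.SmoothLift
import Groth.Prelude.Def_TwC

/-!
# Groups of multiplicative type over an affine base as spectra of Hopf algebras of multiplicative type
-/

universe u

open CategoryTheory CategoryTheory.Limits MonoidalCategory CartesianMonoidalCategory MonObj GrpObj AlgebraicGeometry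
open TensorProduct

set_option backward.isDefEq.respectTransparency false
set_option linter.style.haveILetI false

noncomputable section

namespace Groth.Agent.MultDefLib

open GrpSchLib.AffineHopf (sp spMap)

/-- Splitting data fpqc locally. -/
abbrev MultLoc {S : Scheme.{u}} (H : Over S) [GrpObj H] : Prop :=
  TwC.Locally S TwC.Topology.fpqc (fun S' f =>
    ∃ (M : Type) (_ : AddCommGroup M), Nonempty (Grp.mk (Red.bc f H) ≅ Grp.mk (Red.DS S' M)))

theorem multLoc_of_multTypeFT {S : Scheme.{u}} {H : Over S} [GrpObj H] (h : SGA3x.IsMultTypeFT H) : MultLoc H := by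
  obtain ⟨S', f, h1, h2, h3, h4⟩ := h
  exact ⟨S', f, h1, h2, h3, fun s' => by
    obtain ⟨U, hU, M, i, -, hi⟩ := h4 s'
    exact ⟨U, hU, M, i, hi⟩⟩

/-- The underlying isomorphism. -/
def overIso {S : Scheme.{u}} {X Y : Over S} [GrpObj X] [GrpObj Y] (e : Grp.mk X ≅ Grp.mk Y) : X ≅ Y :=
  ⟨e.hom.hom.hom, e.inv.hom.hom, congrArg (fun h => h.hom.hom) e.hom_inv_id,
    congrArg (fun h => h.hom.hom) e.inv_hom_id⟩

/-- An isomorphism of spectra of Hopf algebras comes from an equivalence of bialgebras. -/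
theorem bialgEquiv_of_grpIso {R A B : Type u} [CommRing R] [CommRing A] [HopfAlgebra R A] [CommRing B]
    [HopfAlgebra R B] (e : Grp.mk (sp R A) ≅ Grp.mk (sp R B)) : Nonempty (A ≃ₐc[R] B) := by
  haveI : IsMonHom (overIso e).hom := e.hom.hom.isMonHom_hom
  haveI : IsMonHom (overIso e).inv := e.inv.hom.isMonHom_hom
  obtain ⟨f, hf⟩ := GrpSchLib.AffineHopf.exists_bialgHom (overIso e).hom
  obtain ⟨g, hg⟩ := GrpSchLib.AffineHopf.exists_bialgHom (overIso e).inv
  have h1 : (f : B →ₐ[R] A).comp (g : A →ₐ[R] B) = AlgHom.id R A := by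
    refine GrpSchLib.AffineHopf.spMap_injective (R := R) ?_
    rw [← GrpSchLib.AffineHopf.spMap_comp, ← hf, ← hg, Iso.hom_inv_id, GrpSchLib.AffineHopf.spMap_id]
  have h2 : (g : A →ₐ[R] B).comp (f : B →ₐ[R] A) = AlgHom.id R B := by
    refine GrpSchLib.AffineHopf.spMap_injective (R := R) ?_
    rw [← GrpSchLib.AffineHopf.spMap_comp, ← hf, ← hg, Iso.inv_hom_id, GrpSchLib.AffineHopf.spMap_id]
  exact ⟨BialgEquiv.ofBijective g
    ⟨Function.LeftInverse.injective (g := f) (AlgHom.congr_fun h1),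
      Function.RightInverse.surjective (g := f) (AlgHom.congr_fun h2)⟩⟩

variable {R : Type u} [CommRing R]

/-- A group of multiplicative type over an affine base is the spectrum of a Hopf algebra of
multiplicative type. -/
theorem exists_hopf_multType {H : Over (Spec (CommRingCat.of R))} [GrpObj H] (hH : MultLoc H) :
    ∃ (A : Type u) (_ : CommRing A) (_ : HopfAlgebra R A),
      SGA3b.IsMultType R A ∧ Nonempty (Grp.mk (sp R A) ≅ Grp.mk H) := by
  classical
  obtain ⟨S', f, hflat, hsurj, hqc, hloc⟩ := hH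
  choose O hO M hM hiso using hloc
  have hex : ∀ s' : S', ∃ B : S'.Opens, IsAffineOpen B ∧ s' ∈ B ∧ B ≤ O s' := fun s' => by
    obtain ⟨B, hB, hs, hle⟩ := exists_isAffineOpen_mem_and_subset (hO s')
    exact ⟨B, hB, hs, hle⟩
  choose B hB hsB hBO using hex
  have hsplit : ∀ s' : S', Nonempty
      (Grp.mk (Red.bc ((hB s').fromSpec ≫ f) H) ≅ Grp.mk (Red.DS (Spec Γ(S', B s')) (M s'))) := fun s' => by
    let t := (hB s').isoSpec.inv ≫ S'.homOfLE (hBO s')
    have ht : t ≫ (O s').ι ≫ f = (hB s').fromSpec ≫ f := by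
      simp [t, IsAffineOpen.isoSpec_inv_ι_assoc]
    obtain ⟨e₁⟩ := GrpSchLib.MultTypeBC.bc_congr ht H
    obtain ⟨e₂⟩ := GrpSchLib.MultTypeBC.bc_bc t ((O s').ι ≫ f) H
    obtain ⟨i⟩ := hiso s'
    obtain ⟨e₃⟩ := GrpSchLib.MultTypeBC.bc_iso t i
    obtain ⟨e₄⟩ := GrpSchLib.MultTypeBC.bc_DS t (M s')
    exact ⟨e₁.symm ≪≫ e₂.symm ≪≫ e₃ ≪≫ e₄⟩
  -- affineness
  haveI := EtFound.fpqc_isAffineHom.{u}
  have hcov : FpqcDescLib.Covers f :=
    FpqcDescLib.covers_of_hcov f ⟨S', f, 𝟙 _, Category.id_comp _, hsurj, hflat, hqc⟩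
  haveI : IsAffineHom H.hom := by
    refine hcov.descends @IsAffineHom H.hom (pullback.snd H.hom f) (pullback.fst H.hom f)
      (IsPullback.of_hasPullback H.hom f).flip ?_
    refine IsZariskiLocalAtTarget.of_forall_exists_morphismRestrict fun s' => ?_
    refine ⟨B s', hsB s', ?_⟩
    obtain ⟨i⟩ := hsplit s'
    haveI : IsAffine (Spec Γ(S', B s')) := inferInstance
    haveI := (TransLib.exists_chart_DS (T := Spec Γ(S', B s')) (M s')).1
    let k : pullback H.hom ((hB s').fromSpec ≫ f) ≅ (Red.DS (Spec Γ(S', B s')) (M s')).left :=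
      (Over.forget _).mapIso (overIso i)
    haveI : IsAffine (pullback H.hom ((hB s').fromSpec ≫ f)) := .of_isIso k.hom
    haveI : IsAffine (B s' : Scheme.{u}) := hB s'
    have H1 : IsPullback ((pullback.snd H.hom f ⁻¹ᵁ B s').ι ≫ pullback.fst H.hom f) (pullback.snd H.hom f ∣_ B s')
        H.hom ((B s').ι ≫ f) :=
      (isPullback_morphismRestrict _ _).flip.paste_horiz (IsPullback.of_hasPullback H.hom f)
    haveI : IsAffine (pullback H.hom ((B s').ι ≫ f)) := by
      have hw : (hB s').isoSpec.hom ≫ (hB s').fromSpec ≫ f = (B s').ι ≫ f := by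
        rw [IsAffineOpen.isoSpec_hom_fromSpec_assoc]
      exact .of_isIso (pullback.map H.hom ((B s').ι ≫ f) H.hom ((hB s').fromSpec ≫ f) (𝟙 _) (hB s').isoSpec.hom
        (𝟙 _) (by simp) (by rw [Category.comp_id, hw]))
    haveI : IsAffine (pullback.snd H.hom f ⁻¹ᵁ B s' : Scheme.{u}) := .of_isIso H1.isoPullback.hom
    infer_instance
  haveI : IsAffine H.left := isAffine_of_isAffineHom H.hom
  obtain ⟨A, i₁, i₂, ⟨e⟩⟩ := GrpSchLib.AffineHopf.exists_hopf H
  refine ⟨A, i₁, i₂, ?_, ⟨e⟩⟩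
  -- the splitting
  obtain ⟨W, hWc, hWU⟩ := hqc ⊤ (isAffineOpen_top _)
  obtain ⟨t, ht⟩ := hWc.elim_finite_subcover (fun w => (B w : Set S')) (fun w => (B w).2)
    fun w _ => Set.mem_iUnion.mpr ⟨w, hsB w⟩
  let φ : ∀ w : S', R →+* Γ(S', B w) := fun w => (Spec.preimage ((hB w).fromSpec ≫ f)).hom
  letI : ∀ w : t, Algebra R Γ(S', B w.1) := fun w => (φ w.1).toAlgebra
  have hφ : ∀ w : t, Spec.map (CommRingCat.ofHom (algebraMap R Γ(S', B w.1))) = (hB w.1).fromSpec ≫ f :=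
    fun w => Spec.map_preimage _
  haveI : ∀ w : t, Module.Flat R Γ(S', B w.1) := fun w => by
    have : Flat (Spec.map (CommRingCat.ofHom (algebraMap R Γ(S', B w.1)))) := by rw [hφ]; infer_instance
    exact (RingHom.flat_algebraMap_iff).mp (Flat.SpecMap_iff.mp this)
  refine MultTypeLib.isMultType_of_flatCover (fun w : t => Γ(S', B w.1)) (fun p hp => ?_) fun w => ?_
  · obtain ⟨y, hy, hyp⟩ : (⟨p, hp⟩ : PrimeSpectrum R) ∈ f.base '' (W : Set S') := hWU ▸ trivial
    obtain ⟨w, hw, hyw⟩ := Set.mem_iUnion₂.mp (ht hy)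
    obtain ⟨z, hz⟩ : y ∈ Set.range (hB w).fromSpec := (hB w).range_fromSpec ▸ hyw
    refine ⟨⟨w, hw⟩, z.asIdeal, z.isPrime, ?_⟩
    have : (Spec.map (CommRingCat.ofHom (algebraMap R Γ(S', B (⟨w, hw⟩ : t).1)))).base z = f.base y := by
      rw [hφ ⟨w, hw⟩, ← hz]; rfl
    rw [hyp] at this
    exact congrArg PrimeSpectrum.asIdeal this
  · obtain ⟨e₁⟩ := GrpSchLib.AffineHopf.nonempty_bc_sp (R := R) Γ(S', B w.1) A
    obtain ⟨e₂⟩ := GrpSchLib.MultTypeBC.bc_iso (Spec.map (CommRingCat.ofHom (algebraMap R Γ(S', B w.1)))) e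
    obtain ⟨e₃⟩ := GrpSchLib.MultTypeBC.bc_congr (hφ w) H
    obtain ⟨e₄⟩ := hsplit w.1
    obtain ⟨e₅⟩ := GrpSchLib.AffineHopf.nonempty_DS_iso Γ(S', B w.1) (M w.1)
    obtain ⟨β⟩ := bialgEquiv_of_grpIso (e₁.symm ≪≫ e₂ ≪≫ e₃ ≪≫ e₄ ≪≫ e₅.symm)
    refine ⟨ULift.{u} (Multiplicative (M w.1)), inferInstance, ⟨β.trans ?_⟩⟩
    let u : Multiplicative (M w.1) ≃* ULift.{u} (Multiplicative (M w.1)) := MulEquiv.ulift.symm
    refine BialgEquiv.ofBijective (MonoidAlgebra.mapDomainBialgHom Γ(S', B w.1) u.toMonoidHom)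
      (Function.bijective_iff_has_inverse.mpr
        ⟨MonoidAlgebra.mapDomainBialgHom Γ(S', B w.1) u.symm.toMonoidHom, fun x => ?_, fun x => ?_⟩) <;>
      rw [MonoidAlgebra.mapDomainBialgHom_mapDomainBialgHom] <;> simp

end Groth.Agent.MultDefLib

end
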