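import Groth.Agent.DSPtsLib.Basic

/-!
# Points of base changes as points over the base: functoriality and group laws
-/

universe u

open CategoryTheory CategoryTheory.Limits MonoidalCategory CartesianMonoidalCategory MonObj GrpObj AlgebraicGeometry

noncomputable section

namespace Groth.Agent.MultDefLib

open DSPtsLib (theta theta_left theta_comp theta_mul theta_bijective)

variable {S U : Scheme.{u}} (b : U ⟶ S) {H G : Over S} {Y : Over U}

theorem theta_map (a : Y ⟶ Red.bc b H) (u : H ⟶ G) :
    theta b (a ≫ (Over.pullback b).map u) = theta b a ≫ u :=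
  (Over.mapPullbackAdj b).homEquiv_naturality_right_symm a u

/-- Points of a base change as a monoid homomorphism. -/
def thetaHom [GrpObj G] : (Y ⟶ Red.bc b G) →* ((Over.map b).obj Y ⟶ G) := MonoidHom.mk' (theta b) (theta_mul b)

theorem theta_inv [GrpObj G] (a : Y ⟶ Red.bc b G) : theta b a⁻¹ = (theta b a)⁻¹ := map_inv (thetaHom b) a

theorem theta_one [GrpObj G] : theta b (1 : Y ⟶ Red.bc b G) = 1 := map_one (thetaHom b)

theorem theta_surjective (w : (Over.map b).obj Y ⟶ H) : ∃ a : Y ⟶ Red.bc b H, theta b a = w :=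
  (theta_bijective b).2 w

/-- An object over `S` mapping to an object over `U` comes from `U`. -/
theorem exists_lift_over {X' : Over S} (x : X' ⟶ (Over.map b).obj Y) :
    ∃ (X'' : Over U) (y : X'' ⟶ Y) (e : X' ⟶ (Over.map b).obj X'') (e' : (Over.map b).obj X'' ⟶ X'),
      e ≫ e' = 𝟙 _ ∧ e ≫ (Over.map b).map y = x := by
  have hw : (x.left ≫ Y.hom) ≫ b = X'.hom := (Category.assoc _ _ _).trans (Over.w x)
  refine ⟨Over.mk (x.left ≫ Y.hom), Over.homMk x.left rfl, Over.homMk (𝟙 X'.left) ?_, Over.homMk (𝟙 X'.left) ?_, ?_, ?_⟩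
  · exact (Category.id_comp _).trans hw
  · exact (Category.id_comp _).trans hw.symm
  · exact Over.OverMorphism.ext (Category.id_comp _)
  · exact Over.OverMorphism.ext (Category.id_comp _)

end Groth.Agent.MultDefLib

end
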