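import Groth.Agent.MultDefLib.Conj
import Groth.Agent.MultDefLib.Theta
import Groth.Agent.GrpSchLib.MonoSubgroup
import Groth.Agent.TransLib.Universal
import Groth.Agent.TransLib.MultEssFree
import Groth.Agent.GrpSchLib.MultTypeBC
import Groth.Agent.S4599

/-!
# The transporter of two homomorphisms out of a group of multiplicative type
-/

universe u

open CategoryTheory CategoryTheory.Limits MonoidalCategory CartesianMonoidalCategory MonObj GrpObj AlgebraicGeometry

set_option linter.style.haveILetI false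

noncomputable section

namespace Groth.Agent.MultDefLib

open DSPtsLib (theta theta_left theta_comp theta_mul theta_bijective)

variable {S : Scheme.{u}} {H G : Over S} [GrpObj G]

/-- The point `g` conjugates `u` to `v`, universally. -/
def Transp (u v : H ⟶ G) {X : Over S} (g : X ⟶ G) : Prop :=
  ∀ (X' : Over S) (x : X' ⟶ X) (h : X' ⟶ H), (x ≫ g) * (h ≫ u) * (x ≫ g)⁻¹ = h ≫ v

theorem Transp.comp {u v : H ⟶ G} {X Y : Over S} {g : X ⟶ G} (hg : Transp u v g) (y : Y ⟶ X) :
    Transp u v (y ≫ g) := fun X' x h => by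
  have := hg X' (x ≫ y) h
  simpa using this

theorem transp_iff {u v : H ⟶ G} {X : Over S} (g : X ⟶ G) :
    Transp u v g ↔ (snd H X ≫ g) * (fst H X ≫ u) * (snd H X ≫ g)⁻¹ = fst H X ≫ v := by
  refine ⟨fun h => h _ (snd H X) (fst H X), fun h X' x y => ?_⟩
  have := congrArg (fun z => lift y x ≫ z) h
  simpa [MonObj.comp_mul, GrpObj.comp_inv] using this

instance isClosedImmersion_diag (X : Over S) [IsSeparated X.hom] :
    IsClosedImmersion (lift (𝟙 X) (𝟙 X)).left := by
  have : (lift (𝟙 X) (𝟙 X)).left = pullback.diagonal X.hom := pullback.hom_ext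
    ((congrArg (fun f => Over.Hom.left f) (lift_fst (𝟙 X) (𝟙 X))).trans (pullback.diagonal_fst _).symm)
    ((congrArg (fun f => Over.Hom.left f) (lift_snd (𝟙 X) (𝟙 X))).trans (pullback.diagonal_snd _).symm)
  rw [this]
  infer_instance

theorem lfp_diag (X : Over S) [LocallyOfFiniteType X.hom] :
    LocallyOfFinitePresentation (lift (𝟙 X) (𝟙 X)).left := by
  have : (lift (𝟙 X) (𝟙 X)).left = pullback.diagonal X.hom := pullback.hom_ext
    ((congrArg (fun f => Over.Hom.left f) (lift_fst (𝟙 X) (𝟙 X))).trans (pullback.diagonal_fst _).symm)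
    ((congrArg (fun f => Over.Hom.left f) (lift_snd (𝟙 X) (𝟙 X))).trans (pullback.diagonal_snd _).symm)
  rw [this]
  exact Groth.Agent.S4599.result X.hom

/-- Closed loci of equality of two families of points. -/
theorem exists_equality_locus {W X Y : Over S} (hW : SGA3x.IsEssentiallyFree W.hom) [QuasiCompact W.hom]
    [IsSeparated Y.hom] [LocallyOfFiniteType Y.hom] (a b : W ⊗ X ⟶ Y) :
    ∃ (Z : Over S) (c : Z ⟶ X), IsClosedImmersion c.left ∧ LocallyOfFinitePresentation c.left ∧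
      ∀ {P : Over S} (x : P ⟶ X), (∃ z : P ⟶ Z, z ≫ c = x) ↔ (W ◁ x) ≫ a = (W ◁ x) ≫ b := by
  obtain ⟨Z, c, hc, hfp, h⟩ := TransLib.exists_closed_universal_essFree hW (lift a b) (lift (𝟙 Y) (𝟙 Y))
  refine ⟨Z, c, hc, hfp inferInstance (lfp_diag Y), fun {P} x => (h x).trans ⟨?_, fun hx => ?_⟩⟩
  · rintro ⟨l, hl⟩
    have h1 := congrArg (· ≫ fst Y Y) hl
    have h2 := congrArg (· ≫ snd Y Y) hl
    simp only [Category.assoc, lift_fst, lift_snd, Category.comp_id] at h1 h2
    rw [← h1, ← h2]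
  · exact ⟨(W ◁ x) ≫ a, by rw [comp_lift, Category.comp_id, comp_lift, ← hx]⟩

/-- The transporter of two homomorphisms is a closed subscheme. -/
theorem exists_transporter (hH : SGA3x.IsEssentiallyFree H.hom) [QuasiCompact H.hom] [IsSeparated G.hom]
    [LocallyOfFiniteType G.hom] (u v : H ⟶ G) :
    ∃ (T : Over S) (t : T ⟶ G), IsClosedImmersion t.left ∧ LocallyOfFinitePresentation t.left ∧
      ∀ (X : Over S) (g : X ⟶ G), (∃ z : X ⟶ T, z ≫ t = g) ↔ Transp u v g := by
  obtain ⟨T, t, ht, hfp, h⟩ := exists_equality_locus hH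
    (snd H G * (fst H G ≫ u) * (snd H G)⁻¹) (fst H G ≫ v)
  refine ⟨T, t, ht, hfp, fun X g => (h g).trans ?_⟩
  rw [transp_iff]
  simp [MonObj.comp_mul, GrpObj.comp_inv]

theorem smooth_of_isFormallySmoothHom {X Y : Scheme.{u}} (f : X ⟶ Y) [LocallyOfFinitePresentation f]
    (h : MoreMor.IsFormallySmoothHom f) : Smooth f := by
  rw [HasRingHomProperty.iff_appLE (P := @Smooth)]
  intro V U e
  have hfp := HasRingHomProperty.appLE @LocallyOfFinitePresentation f ‹_› V U e
  have hfs := MorLib.formallySmooth_appLE_of_isFormallySmoothHom f h U V U.2 V.2 e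
  exact @Algebra.Smooth.mk _ _ _ _ (f.appLE V U e).hom.toAlgebra hfs hfp

variable [GrpObj H]

theorem multLoc_bc {T : Scheme.{u}} (g : T ⟶ S) (hH : SGA3x.IsMultTypeFT H) : MultLoc (Red.bc g H) :=
  multLoc_of_multTypeFT (GrpSchLib.MultTypeBC.isMultTypeFT_bc g hH)

/-- Formal smoothness of the transporter. -/
theorem smooth_transporter (hH : SGA3x.IsMultTypeFT H) [Smooth G.hom] (u v : H ⟶ G) [IsMonHom u] [IsMonHom v]
    {T : Over S} (t : T ⟶ G) [Mono t.left] [LocallyOfFinitePresentation t.left]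
    (hT : ∀ (X : Over S) (g : X ⟶ G), (∃ z : X ⟶ T, z ≫ t = g) ↔ Transp u v g) : Smooth T.hom := by
  haveI : LocallyOfFinitePresentation T.hom := by
    rw [← Over.w t]
    infer_instance
  refine smooth_of_isFormallySmoothHom _ ?_
  intro A _ I hI a b w
  let u' := (Over.pullback b).map u
  let v' := (Over.pullback b).map v
  haveI : IsMonHom u' := inferInstanceAs (IsMonHom ((Over.pullback b).map u))
  haveI : IsMonHom v' := inferInstanceAs (IsMonHom ((Over.pullback b).map v))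
  haveI : Smooth (Red.bc b G).hom := inferInstanceAs (Smooth (pullback.snd _ _))
  let P : (Over.map b).obj (S₀ I) ⟶ T := Over.homMk a w.symm
  obtain ⟨g₀, hg₀⟩ := theta_surjective b (P ≫ t)
  have hP : Transp u v (P ≫ t) := (hT _ _).mp ⟨P, rfl⟩
  have h0 : ∀ (X : Over (Spec (CommRingCat.of A))) (p : X ⟶ S₀ I) (h : X ⟶ Red.bc b H),
      h ≫ v' = (p ≫ g₀) * (h ≫ u') * (p ≫ g₀)⁻¹ := fun X p h => by
    apply (theta_bijective b).1
    rw [theta_mul, theta_mul, theta_inv, theta_map, theta_map, theta_comp, hg₀]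
    exact (hP _ ((Over.map b).map p) (theta b h)).symm
  obtain ⟨g, hg, hgv⟩ := exists_conj_lift (multLoc_bc b hH) ⟨2, hI⟩ u' v' g₀ h0
  have hg' : Transp u v (theta b g) := by
    intro X' x h
    obtain ⟨X'', y, e, e', he, rfl⟩ := exists_lift_over b x
    obtain ⟨h'', hh''⟩ := theta_surjective b (e' ≫ h)
    have h1 := congrArg (theta b) (hgv X'' h'')
    rw [theta_mul, theta_mul, theta_inv, theta_map, theta_map, theta_comp, hh''] at h1
    have h2 := congrArg (fun z => e ≫ z) h1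
    simp only [MonObj.comp_mul, GrpObj.comp_inv, ← Category.assoc, he, Category.id_comp] at h2
    rw [Subsingleton.elim (α := X'' ⟶ 𝟙_ (Over (Spec (CommRingCat.of A)))) y (toUnit X'')]
    simpa only [Category.assoc] using h2.symm
  obtain ⟨z, hz⟩ := (hT _ _).mpr hg'
  refine ⟨z.left, ?_, Over.w z |>.trans (Category.id_comp _)⟩
  rw [← cancel_mono t.left]
  have h3 : z.left ≫ t.left = g.left ≫ pullback.fst G.hom b :=
    ((congrArg (fun f => Over.Hom.left f) hz : (z ≫ t).left = _)).trans (theta_left b g)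
  have h4 : Spec.map (CommRingCat.ofHom (Ideal.Quotient.mk I)) ≫ g.left = g₀.left :=
    congrArg (fun f => Over.Hom.left f) hg
  have h5 : g₀.left ≫ pullback.fst G.hom b = a ≫ t.left :=
    (theta_left b g₀).symm.trans (congrArg (fun f => Over.Hom.left f) hg₀)
  exact (Category.assoc _ _ _).trans ((congrArg (_ ≫ ·) h3).trans
    ((Category.assoc _ _ _).symm.trans ((congrArg (· ≫ _) h4).trans h5)))

/-- A subobject whose points are closed under the group operations is a subgroup. -/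
theorem exists_grpObj_of_locus {C : Type*} [Category C] [CartesianMonoidalCategory C] {K P : C} [GrpObj K]
    (j : P ⟶ K) [Mono j] (Q : ∀ (X : C), (X ⟶ K) → Prop)
    (hQ : ∀ (X : C) (g : X ⟶ K), (∃ z : X ⟶ P, z ≫ j = g) ↔ Q X g)
    (h1 : ∀ X, Q X 1) (hmul : ∀ X g g', Q X g → Q X g' → Q X (g * g')) (hinv : ∀ X g, Q X g → Q X g⁻¹) :
    ∃ str : GrpObj P, @IsMonHom C _ _ P K str.toMonObj _ j := by
  have hj : ∀ {X : C} (z : X ⟶ P), Q X (z ≫ j) := fun {X} z => (hQ _ _).mp ⟨z, rfl⟩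
  obtain ⟨e, he⟩ := (hQ _ _).mpr (h1 (𝟙_ C))
  obtain ⟨m, hm⟩ := (hQ _ _).mpr (hmul _ _ _ (hj (fst P P)) (hj (snd P P)))
  obtain ⟨v, hv⟩ := (hQ _ _).mpr (hinv _ _ (hj (𝟙 P)))
  exact GrpSchLib.exists_grpObj_of_mono j e
    (he.trans (by rw [Hom.one_def, toUnit_unique (toUnit (𝟙_ C)) (𝟙 _), Category.id_comp])) m hm v
    (hv.trans (by rw [Category.id_comp]))

omit [GrpObj H] in
theorem transp_self_iff (u : H ⟶ G) {X : Over S} (g : X ⟶ G) :
    Transp u u g ↔ ∀ (X' : Over S) (x : X' ⟶ X) (h : X' ⟶ H), (x ≫ g) * (h ≫ u) = (h ≫ u) * (x ≫ g) :=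
  ⟨fun hg X' x h => by
      have := hg X' x h
      rwa [mul_inv_eq_iff_eq_mul] at this,
    fun hg X' x h => by rw [mul_inv_eq_iff_eq_mul]; exact hg X' x h⟩

/-- The transporter is representable by a closed subscheme smooth over the base. -/
theorem exists_transporter_smooth (hH : SGA3x.IsMultTypeFT H) [Smooth G.hom] [IsAffineHom G.hom]
    (u v : H ⟶ G) [IsMonHom u] [IsMonHom v] :
    ∃ (T : Over S) (t : T ⟶ G), IsClosedImmersion t.left ∧ Smooth T.hom ∧
      ∀ (X : Over S) (g : X ⟶ G), (∃ z : X ⟶ T, z ≫ t = g) ↔ Transp u v g := by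
  obtain ⟨ha, he⟩ := TransLib.multTypeFT_essFree hH
  obtain ⟨T, t, hc, hfp, hT⟩ := exists_transporter he u v
  exact ⟨T, t, hc, smooth_transporter hH u v t hT, hT⟩

/-- The centraliser is representable by a closed subgroup smooth over the base. -/
theorem exists_centralizer_smooth (hH : SGA3x.IsMultTypeFT H) [Smooth G.hom] [IsAffineHom G.hom]
    (u : H ⟶ G) [IsMonHom u] :
    ∃ (Z : Over S) (_ : GrpObj Z) (j : Z ⟶ G), Red.IsCentralizerOf u j ∧ IsClosedImmersion j.left ∧ Smooth Z.hom := by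
  obtain ⟨Z, j, hc, hs, hZ⟩ := exists_transporter_smooth hH u u
  haveI : Mono j := Over.mono_of_mono_left j
  have hC : ∀ (X : Over S) (g : X ⟶ G), (∃ z : X ⟶ Z, z ≫ j = g) ↔
      ∀ (X' : Over S) (x : X' ⟶ X) (h : X' ⟶ H), Commute (x ≫ g) (h ≫ u) :=
    fun X g => (hZ X g).trans (transp_self_iff u g)
  obtain ⟨str, hj⟩ := exists_grpObj_of_locus j (fun X g =>
      ∀ (X' : Over S) (x : X' ⟶ X) (h : X' ⟶ H), Commute (x ≫ g) (h ≫ u)) hC
    (fun X X' x h => by rw [MonObj.comp_one]; exact Commute.one_left _)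
    (fun X g g' a b X' x h => by rw [MonObj.comp_mul]; exact (a X' x h).mul_left (b X' x h))
    (fun X g a X' x h => by rw [GrpObj.comp_inv]; exact (a X' x h).inv_left)
  exact ⟨Z, str, j, ⟨hj, inferInstance, hC⟩, hc, hs⟩

end Groth.Agent.MultDefLib

end
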