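import Groth.Agent.MultDefLib.NormLift
import Groth.Agent.MultDefLib.Transp
import Groth.Agent.RedSub30.TorusClosed
import Groth.Agent.TransLib.Field
import Groth.Agent.AlgSpPts.Sep

/-!
# The transporter of subgroups of multiplicative type and the normaliser
-/

universe u

open CategoryTheory CategoryTheory.Limits MonoidalCategory CartesianMonoidalCategory MonObj GrpObj AlgebraicGeometry

set_option backward.isDefEq.respectTransparency false
set_option linter.style.haveILetI false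

noncomputable section

namespace Groth.Agent.MultDefLib

open DSPtsLib (theta theta_left theta_comp theta_mul theta_bijective)

theorem lfp_DS (T : Scheme.{u}) (M : Type) [AddCommGroup M] [AddGroup.FG M] :
    LocallyOfFinitePresentation (Red.DS T M).hom := by
  haveI : AddMonoid.FG M := AddGroup.fg_iff_addMonoid_fg.mp ‹_›
  haveI : Monoid.FG (Multiplicative M) := Monoid.fg_of_addMonoid_fg
  haveI : IsNoetherianRing (ULift.{u} ℤ) := isNoetherianRing_of_ringEquiv ℤ ULift.ringEquiv.symm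
  haveI : LocallyOfFinitePresentation (Red.diag (ULift.{u} ℤ) M).hom := by
    refine (HasRingHomProperty.Spec_iff (P := @LocallyOfFinitePresentation)).mpr ?_
    exact RingHom.FinitePresentation.of_finiteType.mp (RingHom.finiteType_algebraMap.mpr
      (inferInstance : Algebra.FiniteType (ULift.{u} ℤ) (MonoidAlgebra (ULift.{u} ℤ) (Multiplicative M))))
  exact inferInstanceAs (LocallyOfFinitePresentation (pullback.snd (Red.diag (ULift.{u} ℤ) M).hom _))

variable {S : Scheme.{u}} {H H₁ H₂ G : Over S} [GrpObj G]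

/-- A group of multiplicative type and of finite type is locally of finite presentation. -/
theorem lfp_multTypeFT [GrpObj H] (hH : SGA3x.IsMultTypeFT H) : LocallyOfFinitePresentation H.hom := by
  obtain ⟨S', f, hflat, hsurj, hqc, hloc⟩ := hH
  choose O hO M hM hfg hiso using hloc
  have hcov : FpqcDescLib.Covers f :=
    FpqcDescLib.covers_of_hcov f ⟨S', f, 𝟙 _, Category.id_comp _, hsurj, hflat, hqc⟩
  refine hcov.descends @LocallyOfFinitePresentation H.hom (pullback.snd H.hom f) (pullback.fst H.hom f)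
    (IsPullback.of_hasPullback H.hom f).flip ?_
  refine IsZariskiLocalAtTarget.of_forall_exists_morphismRestrict fun s' => ⟨O s', hO s', ?_⟩
  obtain ⟨i⟩ := hiso s'
  haveI := hfg s'
  haveI := lfp_DS (O s' : Scheme.{u}) (M s')
  have H1 : IsPullback ((pullback.snd H.hom f ⁻¹ᵁ O s').ι ≫ pullback.fst H.hom f)
      (pullback.snd H.hom f ∣_ O s') H.hom ((O s').ι ≫ f) :=
    (isPullback_morphismRestrict _ _).flip.paste_horiz (IsPullback.of_hasPullback H.hom f)
  rw [← H1.isoPullback_hom_snd]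
  haveI : IsIso i.hom.hom.hom.left :=
    ⟨i.inv.hom.hom.left, congrArg (fun h => h.hom.hom.left) i.hom_inv_id,
      congrArg (fun h => h.hom.hom.left) i.inv_hom_id⟩
  haveI : LocallyOfFinitePresentation (pullback.snd H.hom ((O s').ι ≫ f)) := by
    have hw : i.hom.hom.hom.left ≫ (Red.DS (O s' : Scheme.{u}) (M s')).hom = pullback.snd H.hom ((O s').ι ≫ f) :=
      Over.w i.hom.hom.hom
    rw [← hw]
    infer_instance
  infer_instance

/-- `g` conjugates the first subgroup onto the second, universally. -/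
def SubTransp (i₁ : H₁ ⟶ G) (i₂ : H₂ ⟶ G) {X : Over S} (g : X ⟶ G) : Prop :=
  ∀ (X' : Over S) (x : X' ⟶ X),
    (∀ h₁ : X' ⟶ H₁, ∃ h₂ : X' ⟶ H₂, (x ≫ g) * (h₁ ≫ i₁) * (x ≫ g)⁻¹ = h₂ ≫ i₂) ∧
    (∀ h₂ : X' ⟶ H₂, ∃ h₁ : X' ⟶ H₁, (x ≫ g)⁻¹ * (h₂ ≫ i₂) * (x ≫ g) = h₁ ≫ i₁)

/-- The locus where a family of points of `G` lies in a closed subscheme. -/
theorem exists_conj_locus (hH₁ : SGA3x.IsEssentiallyFree H₁.hom) [QuasiCompact H₁.hom]
    (i₁ : H₁ ⟶ G) (i₂ : H₂ ⟶ G) [IsClosedImmersion i₂.left] [LocallyOfFinitePresentation i₂.left] (c : G ⟶ G) :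
    ∃ (T : Over S) (t : T ⟶ G), IsClosedImmersion t.left ∧ LocallyOfFinitePresentation t.left ∧
      ∀ (X : Over S) (g : X ⟶ G), (∃ z : X ⟶ T, z ≫ t = g) ↔ ∀ (X' : Over S) (x : X' ⟶ X) (h₁ : X' ⟶ H₁),
        ∃ h₂ : X' ⟶ H₂, (x ≫ g ≫ c) * (h₁ ≫ i₁) * (x ≫ g ≫ c)⁻¹ = h₂ ≫ i₂ := by
  obtain ⟨T, t, ht, hfp, h⟩ := TransLib.exists_closed_universal_essFree hH₁
    ((snd H₁ G ≫ c) * (fst H₁ G ≫ i₁) * (snd H₁ G ≫ c)⁻¹) i₂
  refine ⟨T, t, ht, hfp inferInstance inferInstance, fun X g => (h g).trans ⟨?_, fun hx => ?_⟩⟩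
  · rintro ⟨l, hl⟩ X' x h₁
    exact ⟨lift h₁ x ≫ l, by simp [hl, MonObj.comp_mul, GrpObj.comp_inv]⟩
  · obtain ⟨l, hl⟩ := hx _ (snd H₁ X) (fst H₁ X)
    exact ⟨l, by simp [← hl, MonObj.comp_mul, GrpObj.comp_inv]⟩

variable [GrpObj H₁] [GrpObj H₂]

theorem smooth_subTransporter (hH₁ : SGA3x.IsMultTypeFT H₁) (hH₂ : SGA3x.IsMultTypeFT H₂) [Smooth G.hom]
    (i₁ : H₁ ⟶ G) [IsMonHom i₁] [Mono i₁] (i₂ : H₂ ⟶ G) [IsMonHom i₂] [Mono i₂]
    {T : Over S} (t : T ⟶ G) [Mono t.left] [LocallyOfFinitePresentation t.left]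
    (hT : ∀ (X : Over S) (g : X ⟶ G), (∃ z : X ⟶ T, z ≫ t = g) ↔ SubTransp i₁ i₂ g) : Smooth T.hom := by
  haveI : LocallyOfFinitePresentation T.hom := by
    rw [← Over.w t]
    infer_instance
  refine smooth_of_isFormallySmoothHom _ ?_
  intro A _ I hI a b w
  let j₁ := (Over.pullback b).map i₁
  let j₂ := (Over.pullback b).map i₂
  haveI : IsMonHom j₁ := inferInstanceAs (IsMonHom ((Over.pullback b).map i₁))
  haveI : IsMonHom j₂ := inferInstanceAs (IsMonHom ((Over.pullback b).map i₂))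
  haveI : Mono j₁ := inferInstanceAs (Mono ((Over.pullback b).map i₁))
  haveI : Mono j₂ := inferInstanceAs (Mono ((Over.pullback b).map i₂))
  haveI : Smooth (Red.bc b G).hom := inferInstanceAs (Smooth (pullback.snd _ _))
  let P : (Over.map b).obj (S₀ I) ⟶ T := Over.homMk a w.symm
  obtain ⟨g₀, hg₀⟩ := theta_surjective b (P ≫ t)
  have hP : SubTransp i₁ i₂ (P ≫ t) := (hT _ _).mp ⟨P, rfl⟩
  obtain ⟨g, φ, -, hg, hgv⟩ := exists_conj_lift_subgroup (multLoc_bc b hH₁) (multLoc_bc b hH₂) ⟨2, hI⟩ j₁ j₂ g₀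
    fun X p => by
      refine ⟨fun h => ?_, fun h => ?_⟩
      · obtain ⟨h', hh'⟩ := (hP _ ((Over.map b).map p)).1 (theta b h)
        obtain ⟨h'', rfl⟩ := theta_surjective b h'
        refine ⟨h'', (theta_bijective b).1 ?_⟩
        rwa [theta_mul, theta_mul, theta_inv, theta_map, theta_map, theta_comp, hg₀]
      · obtain ⟨h', hh'⟩ := (hP _ ((Over.map b).map p)).2 (theta b h)
        obtain ⟨h'', rfl⟩ := theta_surjective b h'
        refine ⟨h'', (theta_bijective b).1 ?_⟩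
        rwa [theta_mul, theta_mul, theta_inv, theta_map, theta_map, theta_comp, hg₀]
  have hg' : SubTransp i₁ i₂ (theta b g) := by
    intro X' x
    obtain ⟨X'', y, e, e', he, rfl⟩ := exists_lift_over b x
    refine ⟨fun h => ?_, fun h => ?_⟩
    · obtain ⟨h'', hh''⟩ := theta_surjective b (e' ≫ h)
      have h1 := congrArg (theta b) (hgv X'' h'')
      rw [theta_mul, theta_mul, theta_inv, theta_map, theta_map, theta_comp, hh''] at h1
      have h2 := congrArg (fun z => e ≫ z) h1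
      simp only [MonObj.comp_mul, GrpObj.comp_inv, ← Category.assoc, he, Category.id_comp] at h2
      refine ⟨e ≫ theta b (h'' ≫ φ.hom), ?_⟩
      rw [Subsingleton.elim (α := X'' ⟶ 𝟙_ (Over (Spec (CommRingCat.of A)))) y (toUnit X'')]
      simpa only [Category.assoc] using h2
    · obtain ⟨h'', hh''⟩ := theta_surjective b (e' ≫ h)
      have h1 := congrArg (theta b) (hgv X'' (h'' ≫ φ.inv))
      rw [Category.assoc h'' φ.inv φ.hom, Iso.inv_hom_id, Category.comp_id] at h1
      rw [theta_mul, theta_mul, theta_inv, theta_map, theta_map, theta_comp, hh''] at h1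
      have h2 := congrArg (fun z => e ≫ z) h1
      simp only [MonObj.comp_mul, GrpObj.comp_inv, ← Category.assoc, he, Category.id_comp] at h2
      refine ⟨e ≫ theta b (h'' ≫ φ.inv), ?_⟩
      rw [Subsingleton.elim (α := X'' ⟶ 𝟙_ (Over (Spec (CommRingCat.of A)))) y (toUnit X''), ← h2]
      simp only [Category.assoc]
      group
  obtain ⟨z, hz⟩ := (hT _ _).mpr hg'
  refine ⟨z.left, ?_, Over.w z |>.trans (Category.id_comp _)⟩
  rw [← cancel_mono t.left]
  have h3 : z.left ≫ t.left = g.left ≫ pullback.fst G.hom b :=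
    ((congrArg (fun f => Over.Hom.left f) hz : (z ≫ t).left = _)).trans (theta_left b g)
  have h4 : Spec.map (CommRingCat.ofHom (Ideal.Quotient.mk I)) ≫ g.left = g₀.left :=
    congrArg (fun f => Over.Hom.left f) hg
  have h5 : g₀.left ≫ pullback.fst G.hom b = a ≫ t.left :=
    (theta_left b g₀).symm.trans (congrArg (fun f => Over.Hom.left f) hg₀)
  exact (Category.assoc _ _ _).trans ((congrArg (_ ≫ ·) h3).trans
    ((Category.assoc _ _ _).symm.trans ((congrArg (· ≫ _) h4).trans h5)))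

/-- The transporter of subgroups is representable by a closed subscheme smooth over the base. -/
theorem exists_subTransporter_smooth (hH₁ : SGA3x.IsMultTypeFT H₁) (hH₂ : SGA3x.IsMultTypeFT H₂) [Smooth G.hom]
    [IsAffineHom G.hom] (i₁ : H₁ ⟶ G) [IsMonHom i₁] [Mono i₁] (i₂ : H₂ ⟶ G) [IsMonHom i₂] [Mono i₂] :
    ∃ (T : Over S) (t : T ⟶ G), IsClosedImmersion t.left ∧ Smooth T.hom ∧
      ∀ (X : Over S) (g : X ⟶ G), (∃ z : X ⟶ T, z ≫ t = g) ↔ SubTransp i₁ i₂ g := by
  obtain ⟨ha₁, he₁⟩ := TransLib.multTypeFT_essFree hH₁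
  obtain ⟨ha₂, he₂⟩ := TransLib.multTypeFT_essFree hH₂
  haveI := RedSub30.TorusClosed.isClosedImmersion_of_mono i₁ hH₁
  haveI := RedSub30.TorusClosed.isClosedImmersion_of_mono i₂ hH₂
  have hfp : ∀ {K : Over S} [GrpObj K] (i : K ⟶ G), SGA3x.IsMultTypeFT K → LocallyOfFinitePresentation i.left :=
    fun {K} _ i hK => by
      haveI := lfp_multTypeFT hK
      haveI : LocallyOfFinitePresentation (i.left ≫ G.hom) := by rw [Over.w i]; infer_instance
      exact AlgSpPts.locallyOfFinitePresentation_of_comp i.left G.hom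
  haveI := hfp i₁ hH₁
  haveI := hfp i₂ hH₂
  obtain ⟨T₁, t₁, hc₁, hf₁, hT₁⟩ := exists_conj_locus he₁ i₁ i₂ (𝟙 G)
  obtain ⟨T₂, t₂, hc₂, hf₂, hT₂⟩ := exists_conj_locus he₂ i₂ i₁ (𝟙 G)⁻¹
  -- the intersection
  let T : Over S := Over.mk (pullback.fst t₁.left t₂.left ≫ T₁.hom)
  let t : T ⟶ G := (Over.homMk (pullback.fst t₁.left t₂.left) rfl : T ⟶ T₁) ≫ t₁
  haveI : IsClosedImmersion t.left := inferInstanceAs (IsClosedImmersion (pullback.fst t₁.left t₂.left ≫ t₁.left))
  haveI : LocallyOfFinitePresentation t.left :=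
    inferInstanceAs (LocallyOfFinitePresentation (pullback.fst t₁.left t₂.left ≫ t₁.left))
  have hT : ∀ (X : Over S) (g : X ⟶ G), (∃ z : X ⟶ T, z ≫ t = g) ↔ SubTransp i₁ i₂ g := fun X g => by
    have h12 : (∃ z : X ⟶ T, z ≫ t = g) ↔ (∃ z, z ≫ t₁ = g) ∧ ∃ z, z ≫ t₂ = g := by
      refine ⟨?_, ?_⟩
      · rintro ⟨z, rfl⟩
        refine ⟨⟨_, Category.assoc _ _ _⟩, ⟨z ≫ Over.homMk (pullback.snd t₁.left t₂.left) ?_, ?_⟩⟩
        · show _ = pullback.fst t₁.left t₂.left ≫ T₁.hom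
          rw [← Over.w t₂, ← pullback.condition_assoc, Over.w t₁]
        · rw [Category.assoc]
          congr 1
          exact Over.OverMorphism.ext pullback.condition.symm
      · rintro ⟨⟨p, hp⟩, ⟨q, hq⟩⟩
        refine ⟨Over.homMk (pullback.lift p.left q.left (congrArg CommaMorphism.left (hp.trans hq.symm))) ?_, ?_⟩
        · show _ ≫ pullback.fst t₁.left t₂.left ≫ T₁.hom = _
          rw [pullback.lift_fst_assoc, Over.w p]
        · apply Over.OverMorphism.ext
          show pullback.lift p.left q.left _ ≫ pullback.fst t₁.left t₂.left ≫ t₁.left = g.left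
          rw [pullback.lift_fst_assoc, ← Over.comp_left, hp]
    rw [h12, hT₁, hT₂]
    refine ⟨fun ⟨a, c⟩ X' x => ⟨fun h => ?_, fun h => ?_⟩, fun h => ⟨fun X' x h₁ => ?_, fun X' x h₂ => ?_⟩⟩
    · simpa using a X' x h
    · simpa [GrpObj.comp_inv] using c X' x h
    · simpa using (h X' x).1 h₁
    · simpa [GrpObj.comp_inv] using (h X' x).2 h₂
  exact ⟨T, t, inferInstance, smooth_subTransporter hH₁ hH₂ i₁ i₂ t hT, hT⟩

/-- The normaliser of a subgroup of multiplicative type is a closed subgroup smooth over the base. -/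
theorem exists_normalizer_smooth [GrpObj H] (hH : SGA3x.IsMultTypeFT H) [Smooth G.hom] [IsAffineHom G.hom]
    (i : H ⟶ G) [IsMonHom i] [Mono i] :
    ∃ (N : Over S) (_ : GrpObj N) (j : N ⟶ G), Red.IsNormalizerOf i j ∧ IsClosedImmersion j.left ∧ Smooth N.hom := by
  obtain ⟨N, j, hc, hs, hN⟩ := exists_subTransporter_smooth hH hH i i
  haveI : Mono j := Over.mono_of_mono_left j
  obtain ⟨str, hj⟩ := exists_grpObj_of_locus j (fun X g => SubTransp i i g) hN
    (fun X X' x => ⟨fun h => ⟨h, by simp⟩, fun h => ⟨h, by simp⟩⟩)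
    (fun X g g' a b X' x => ⟨fun h => by
        obtain ⟨h', e'⟩ := (b X' x).1 h
        obtain ⟨h'', e''⟩ := (a X' x).1 h'
        refine ⟨h'', ?_⟩
        rw [← e'', ← e', MonObj.comp_mul]
        group,
      fun h => by
        obtain ⟨h', e'⟩ := (a X' x).2 h
        obtain ⟨h'', e''⟩ := (b X' x).2 h'
        refine ⟨h'', ?_⟩
        rw [← e'', ← e', MonObj.comp_mul]
        group⟩)
    (fun X g a X' x => ⟨fun h => by simpa [GrpObj.comp_inv] using (a X' x).2 h,
      fun h => by simpa [GrpObj.comp_inv] using (a X' x).1 h⟩)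
  exact ⟨N, str, j, ⟨hj, inferInstance, fun X g => (hN X g).trans
    ⟨fun h X' x k => ⟨(h X' x).1 k, (h X' x).2 k⟩, fun h X' x => ⟨fun k => (h X' x k).1, fun k => (h X' x k).2⟩⟩⟩,
    hc, hs⟩

end Groth.Agent.MultDefLib

end
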