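import Groth.Agent.FpqcDescLib.Basic

/-!
# Morphisms over a base glue along fpqc covering families
-/

universe u

open CategoryTheory CategoryTheory.Limits AlgebraicGeometry Opposite

set_option backward.isDefEq.respectTransparency false

noncomputable section

namespace Groth.Agent.MultDefLib

variable {S : Scheme.{u}} {ι : Type u} {W : Over S} {P : ι → Over S} (q : ∀ i, P i ⟶ W)

/-- The family `q` is an fpqc covering of `W`. -/
def IsCover : Prop := Presieve.ofArrows (fun i => (P i).left) (fun i => (q i).left) ∈ Scheme.fpqcPrecoverage W.left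

variable {q}

theorem IsCover.isSheafFor (hq : IsCover q) (K : Scheme.{u}) :
    Presieve.IsSheafFor (yoneda.obj K) (Presieve.ofArrows (fun i => (P i).left) (fun i => (q i).left)) := by
  exact Presieve.IsSheaf.isSheafFor
    (GrothendieckTopology.Subcanonical.isSheaf_of_isRepresentable (J := Scheme.fpqcPrecoverage.toGrothendieck) _) _
    (Precoverage.generate_mem_toGrothendieck hq)

/-- Morphisms which agree on a covering are equal. -/
theorem IsCover.hom_ext (hq : IsCover q) {K : Over S} {a b : W ⟶ K} (h : ∀ i, q i ≫ a = q i ≫ b) : a = b := by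
  refine Over.OverMorphism.ext ((hq.isSheafFor K.left).isSeparatedFor.ext fun _ _ hf => ?_)
  obtain ⟨i⟩ := hf
  exact congrArg (fun m => Over.Hom.left m) (h i)

/-- Compatible morphisms on a covering glue. -/
theorem IsCover.exists_glue (hq : IsCover q) {K : Over S} (k : ∀ i, P i ⟶ K)
    (hk : ∀ (i j : ι) (T : Over S) (a : T ⟶ P i) (b : T ⟶ P j), a ≫ q i = b ≫ q j → a ≫ k i = b ≫ k j) :
    ∃ g : W ⟶ K, ∀ i, q i ≫ g = k i := by
  have hc : Presieve.Arrows.Compatible (yoneda.obj K.left) (fun i => (q i).left) (fun i => (k i).left) := by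
    intro i j Z gi gj hg
    let T : Over S := Over.mk (gi ≫ (P i).hom)
    let a : T ⟶ P i := Over.homMk gi rfl
    let b : T ⟶ P j := Over.homMk gj (by
      show gj ≫ (P j).hom = gi ≫ (P i).hom
      rw [← Over.w (q j), ← Over.w (q i), ← Category.assoc, ← hg, Category.assoc])
    exact congrArg (fun m => Over.Hom.left m) (hk i j T a b (Over.OverMorphism.ext hg))
  obtain ⟨g, hg, -⟩ := (Presieve.isSheafFor_arrows_iff _ _).mp (hq.isSheafFor K.left) _ hc
  have hg' : ∀ i, (q i).left ≫ g = (k i).left := hg
  refine ⟨Over.homMk g ?_, fun i => Over.OverMorphism.ext (hg' i)⟩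
  refine (hq.isSheafFor S).isSeparatedFor.ext fun _ _ hf => ?_
  obtain ⟨i⟩ := hf
  show (q i).left ≫ g ≫ K.hom = (q i).left ≫ W.hom
  rw [← Category.assoc, hg' i, Over.w (k i), Over.w (q i)]

/-- Coverings pull back. -/
theorem IsCover.of_isPullback (hq : IsCover q) {W' : Over S} {P' : ι → Over S} (q' : ∀ i, P' i ⟶ W') (g : W' ⟶ W)
    (g' : ∀ i, P' i ⟶ P i) (H : ∀ i, IsPullback (q' i).left (g' i).left g.left (q i).left) : IsCover q' :=
  Precoverage.mem_coverings_of_isPullback _ hq g.left _ (fun i => (g' i).left) H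

/-- An open cover is a covering. -/
theorem isCover_of_openCover (h : ∀ i, IsOpenImmersion (q i).left) (hs : ∀ x : W.left, ∃ i y, (q i).left y = x) :
    IsCover q := by
  refine Scheme.zariskiPrecoverage_le_fpqcPrecoverage _ ?_
  rw [Scheme.ofArrows_mem_precoverage_iff]
  exact ⟨fun x => hs x, h⟩

end Groth.Agent.MultDefLib

end
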