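import Groth.Agent.MultTypeLib.FiniteMult

/-! # Groups of multiplicative type are flat -/

universe u

open TensorProduct

namespace Groth.Agent.MultDefLib

open MultTypeLib

variable {R : Type u} [CommRing R] {A : Type u} [CommRing A] [HopfAlgebra R A]

/-- The algebra of a group of multiplicative type is flat. -/
theorem flat_of_isMultType (hA : SGA3b.IsMultType R A) : Module.Flat R A := by
  classical
  obtain ⟨c⟩ := exists_cover hA
  have hfree : ∀ i, Module.Free (c.split i).S ((c.split i).S ⊗[R] A) := fun i => (c.split i).free
  refine Module.Flat.iff_lTensor_preserves_injective_linearMap.mpr fun N N' _ _ _ _ g hg => ?_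
  refine (injective_iff_map_eq_zero _).mpr fun x hx => c.module_ext x fun i => ?_
  let S := (c.split i).S
  have : Module.Flat R (S ⊗[R] A) := Module.Flat.trans R S (S ⊗[R] A)
  have hinj := Module.Flat.lTensor_preserves_injective_linearMap (M := S ⊗[R] A) g hg
  let e₁ := TensorProduct.assoc R S A N
  let e₂ := TensorProduct.assoc R S A N'
  have hcomm : ∀ z, e₂ (LinearMap.lTensor (S ⊗[R] A) g z) = LinearMap.lTensor S (LinearMap.lTensor A g) (e₁ z) := by
    intro z
    induction z using TensorProduct.induction_on with
    | zero => simp
    | add a b ha hb => simp only [map_add, ha, hb]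
    | tmul y m =>
      induction y using TensorProduct.induction_on with
      | zero => simp
      | add a b ha hb => simp only [TensorProduct.add_tmul, map_add, ha, hb]
      | tmul s a => simp [e₁, e₂]
  apply e₁.symm.injective
  rw [map_zero]
  apply hinj
  rw [map_zero]
  apply e₂.injective
  rw [map_zero, hcomm, LinearEquiv.apply_symm_apply, LinearMap.lTensor_tmul, hx, TensorProduct.tmul_zero]

/-- A quasi-isotrivial group is of multiplicative type. -/
theorem isMultType_of_quasiIsotrivial (h : SGA3b.IsQuasiIsotrivial R A) : SGA3b.IsMultType R A := by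
  obtain ⟨s, hs, h⟩ := h
  refine ⟨s, hs, fun f hf => ?_⟩
  obtain ⟨R', i₁, i₂, -, hff, hd⟩ := h f hf
  exact ⟨R', i₁, i₂, hff, hd⟩

end Groth.Agent.MultDefLib
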