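import Groth.Agent.MultDefLib.HomFam
import Groth.Agent.MultDefLib.Mult

/-!
# Homomorphism families on base changes as homomorphism families over the base
-/

universe u

open CategoryTheory CategoryTheory.Limits MonoidalCategory CartesianMonoidalCategory MonObj GrpObj AlgebraicGeometry

set_option backward.isDefEq.respectTransparency false
set_option linter.style.haveILetI false

noncomputable section

namespace Groth.Agent.MultDefLib

open DSPtsLib (theta theta_left theta_comp theta_mul theta_bijective)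

variable {S X : Scheme.{u}} (f : X ⟶ S) {H G : Over S}

/-- The product with the base change, mapped to the base. -/
def fromBcProd (H : Over S) (T : Over X) :
    (Over.map f).obj (Red.bc f H ⊗ T) ⟶ H ⊗ (Over.map f).obj T :=
  lift (theta f (fst (Red.bc f H) T)) ((Over.map f).map (snd (Red.bc f H) T))

theorem map_lift_fromBcProd {Y T : Over X} (h : Y ⟶ Red.bc f H) (t : Y ⟶ T) :
    (Over.map f).map (lift h t) ≫ fromBcProd f H T = lift (theta f h) ((Over.map f).map t) := by
  apply CartesianMonoidalCategory.hom_ext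
  · simp [fromBcProd, ← theta_comp]
  · simp [fromBcProd, ← Functor.map_comp]

/-- Any point of the product comes from a point of the base change. -/
theorem exists_bcProd_pt {Y : Over S} {T : Over X} (p : Y ⟶ H ⊗ (Over.map f).obj T) :
    ∃ q : Y ⟶ (Over.map f).obj (Red.bc f H ⊗ T), q ≫ fromBcProd f H T = p := by
  obtain ⟨Y', t, e, e', he, ht⟩ := exists_lift_over f (p ≫ snd _ _)
  obtain ⟨h, hh⟩ := theta_surjective f (e' ≫ p ≫ fst _ _)
  refine ⟨e ≫ (Over.map f).map (lift h t), ?_⟩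
  rw [Category.assoc, map_lift_fromBcProd, comp_lift, hh, ht, ← Category.assoc, he, Category.id_comp,
    ← comp_lift, lift_fst_snd, Category.comp_id]

theorem fromBcProd_injective {T : Over X} {Y : Over S} (q q' : Y ⟶ (Over.map f).obj (Red.bc f H ⊗ T))
    (h : q ≫ fromBcProd f H T = q' ≫ fromBcProd f H T) : q = q' := by
  have h1 := congrArg (fun m => Over.Hom.left (m ≫ fst _ _)) h
  have h2 := congrArg (fun m => Over.Hom.left (m ≫ snd _ _)) h
  simp only [fromBcProd, Category.assoc, lift_fst, lift_snd, Over.comp_left, theta_left, Over.map_map_left] at h1 h2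
  refine Over.OverMorphism.ext (pullback.hom_ext (pullback.hom_ext ?_ ?_) ?_)
  · simp only [Category.assoc]
    exact h1
  · have h3 : ∀ r : Y ⟶ (Over.map f).obj (Red.bc f H ⊗ T),
        (r.left ≫ pullback.fst (Red.bc f H).hom T.hom) ≫ pullback.snd H.hom f = (r.left ≫ (snd (Red.bc f H) T).left) ≫ T.hom := fun r =>
      (Category.assoc _ _ _).trans ((congrArg (r.left ≫ ·) pullback.condition).trans (Category.assoc _ _ _).symm)
    rw [h3, h3, h2]
  · exact h2

theorem isIso_fromBcProd (H : Over S) (T : Over X) : IsIso (fromBcProd f H T) := by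
  obtain ⟨r, hr⟩ := exists_bcProd_pt f (𝟙 (H ⊗ (Over.map f).obj T))
  exact ⟨r, fromBcProd_injective f _ _ (by rw [Category.assoc, hr, Category.comp_id, Category.id_comp]), hr⟩

variable [GrpObj H] [GrpObj G]

/-- Representability on base changes gives representability over the base. -/
theorem exists_repOn {H' G' A : Over X} [GrpObj H'] [GrpObj G'] (eH : Grp.mk H' ≅ Grp.mk (Red.bc f H))
    (eG : Grp.mk G' ≅ Grp.mk (Red.bc f G)) (υ' : H' ⊗ A ⟶ G') (hrep : AutFam.RepresentsHom H' G' A υ') :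
    ∃ υ : H ⊗ (Over.map f).obj A ⟶ G, RepOn f A υ := by
  let εH := overIso eH
  let εG := overIso eG
  haveI : IsMonHom εH.hom := eH.hom.hom.isMonHom_hom
  haveI : IsMonHom εH.inv := eH.inv.hom.isMonHom_hom
  haveI : IsMonHom εG.hom := eG.hom.hom.isMonHom_hom
  haveI : IsMonHom εG.inv := eG.inv.hom.isMonHom_hom
  haveI := fun T : Over X => isIso_fromBcProd f H T
  let dn : ∀ {T : Over X}, (H' ⊗ T ⟶ G') → (H ⊗ (Over.map f).obj T ⟶ G) := fun {T} φ =>
    inv (fromBcProd f H T) ≫ theta f ((εH.inv ▷ T) ≫ φ ≫ εG.hom)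
  have hdn : ∀ {T Y : Over X} (φ : H' ⊗ T ⟶ G') (h : Y ⟶ Red.bc f H) (t : Y ⟶ T),
      lift (theta f h) ((Over.map f).map t) ≫ dn φ = theta f ((lift (h ≫ εH.inv) t ≫ φ) ≫ εG.hom) := by
    intro T Y φ h t
    rw [← map_lift_fromBcProd]
    simp only [dn, Category.assoc, IsIso.hom_inv_id_assoc, ← theta_comp]
    rw [← Category.assoc (lift h t), lift_whiskerRight]
  have hfam : ∀ {T : Over X} (φ : H' ⊗ T ⟶ G'), AutFam.IsHomFamily H' G' φ →
      AutFam.IsHomFamily H G (dn φ) := by
    intro T φ hφ Y g₁ g₂ t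
    obtain ⟨Y', t', e, e', he, rfl⟩ := exists_lift_over f t
    obtain ⟨h₁, hh₁⟩ := theta_surjective f (e' ≫ g₁)
    obtain ⟨h₂, hh₂⟩ := theta_surjective f (e' ≫ g₂)
    have hg₁ : g₁ = e ≫ theta f h₁ := by rw [hh₁, ← Category.assoc, he, Category.id_comp]
    have hg₂ : g₂ = e ≫ theta f h₂ := by rw [hh₂, ← Category.assoc, he, Category.id_comp]
    rw [hg₁, hg₂, ← MonObj.comp_mul, ← theta_mul, ← comp_lift, ← comp_lift, ← comp_lift, Category.assoc,
      Category.assoc, Category.assoc, hdn, hdn, hdn, ← MonObj.comp_mul, ← theta_mul, MonObj.mul_comp, hφ,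
      MonObj.mul_comp]
  refine ⟨dn υ', hfam υ' hrep.1, fun T ψ hψ => ?_⟩
  -- the family over `X`
  obtain ⟨φ₁, hφ₁⟩ := theta_surjective f (fromBcProd f H T ≫ ψ)
  let φ : H' ⊗ T ⟶ G' := (εH.hom ▷ T) ≫ φ₁ ≫ εG.inv
  have hφe : ∀ {Y : Over X} (h : Y ⟶ H') (t : Y ⟶ T),
      theta f ((lift h t ≫ φ) ≫ εG.hom) = lift (theta f (h ≫ εH.hom)) ((Over.map f).map t) ≫ ψ := fun {Y} h t => by
    rw [← map_lift_fromBcProd]
    simp only [φ, Category.assoc, Iso.inv_hom_id, Category.comp_id, lift_whiskerRight_assoc]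
    rw [theta_comp, hφ₁]
  have hφfam : AutFam.IsHomFamily H' G' φ := fun Y h₁ h₂ t => by
    apply (@cancel_mono _ _ _ _ _ εG.hom (IsIso.mono_of_iso _) _ _).mp
    apply (theta_bijective f).1
    rw [MonObj.mul_comp, theta_mul, hφe, hφe, hφe, MonObj.mul_comp, theta_mul, hψ]
  have hdnφ : dn φ = ψ := by
    obtain ⟨r, hr⟩ := exists_bcProd_pt f (𝟙 (H ⊗ (Over.map f).obj T))
    have hu : (Over.map f).map (𝟙 (Red.bc f H ⊗ T)) ≫ fromBcProd f H T ≫ dn φ =
        (Over.map f).map (𝟙 (Red.bc f H ⊗ T)) ≫ fromBcProd f H T ≫ ψ := by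
      rw [← lift_fst_snd, reassoc_of% map_lift_fromBcProd, reassoc_of% map_lift_fromBcProd, hdn, hφe, Category.assoc,
        Iso.inv_hom_id, Category.comp_id]
    have h2 := congrArg (r ≫ ·) hu
    simp only [CategoryTheory.Functor.map_id, Category.id_comp, ← Category.assoc, hr] at h2
    exact h2
  have hcomp : ∀ {T' : Over X} (a : T' ⟶ A), (H ◁ (Over.map f).map a) ≫ dn υ' = dn ((H' ◁ a) ≫ υ') := by
    intro T' a
    rw [← cancel_epi (fromBcProd f H T')]
    have e : fromBcProd f H T' = lift (theta f (fst (Red.bc f H) T')) ((Over.map f).map (snd (Red.bc f H) T')) := rfl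
    rw [e, lift_whiskerLeft_assoc, ← Functor.map_comp, hdn, hdn, lift_whiskerLeft_assoc]
  have hinj : ∀ {T' : Over X} (φ φ' : H' ⊗ T' ⟶ G'), dn φ = dn φ' → φ = φ' := by
    intro T' φ φ' h
    simp only [dn, cancel_epi] at h
    exact (cancel_epi (εH.inv ▷ T')).mp (by simpa using (theta_bijective f).1 h)
  obtain ⟨a, ha, hu⟩ := hrep.2 T φ hφfam
  refine ⟨a, ((hcomp a).trans (congrArg dn ha)).trans hdnφ, fun a' ha' => hu a' (hinj _ _ ?_)⟩
  rw [← hcomp, ha', hdnφ]

end Groth.Agent.MultDefLib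

end
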