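import Groth.Agent.MultDefLib.CoverGlue
import Groth.Agent.MultDefLib.Theta
import Groth.Agent.GrpSchLib.Coincidence
import Groth.Agent.DescLib.IndQAEff
import Groth.Prelude.Def_AutFam
import Groth.Prelude.Def_DescFam

/-!
# Representability of functors of homomorphisms is local for the fpqc topology
-/

universe u

open CategoryTheory CategoryTheory.Limits MonoidalCategory CartesianMonoidalCategory MonObj GrpObj AlgebraicGeometry

set_option backward.isDefEq.respectTransparency false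
set_option linter.style.haveILetI false

noncomputable section

namespace Groth.Agent.MultDefLib

variable {S : Scheme.{u}} {H G : Over S} [GrpObj H] [GrpObj G]

theorem isHomFamily_comp {T T' : Over S} {φ : H ⊗ T ⟶ G} (hφ : AutFam.IsHomFamily H G φ) (a : T' ⟶ T) :
    AutFam.IsHomFamily H G ((H ◁ a) ≫ φ) := fun X g₁ g₂ t => by
  simpa only [lift_whiskerLeft_assoc] using hφ X g₁ g₂ (t ≫ a)

/-- `A` over `X` with its family represents homomorphism families on schemes over `X`. -/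
structure RepOn {X : Scheme.{u}} (f : X ⟶ S) (A : Over X) (υ : H ⊗ (Over.map f).obj A ⟶ G) : Prop where
  fam : AutFam.IsHomFamily H G υ
  univ : ∀ (T : Over X) (φ : H ⊗ (Over.map f).obj T ⟶ G), AutFam.IsHomFamily H G φ →
    ∃! a : T ⟶ A, (H ◁ (Over.map f).map a) ≫ υ = φ

section Descent

variable {κ : Type u} {X : κ → Scheme.{u}} (f : ∀ i, X i ⟶ S) (A : ∀ i, Over (X i))
  (υ : ∀ i, H ⊗ (Over.map (f i)).obj (A i) ⟶ G)

/-- A lift as a point over the base. -/
def ptOf {i : κ} {T : Scheme.{u}} {x : T ⟶ X i} {t : T ⟶ S} (hx : x ≫ f i = t) (v : Desc.Lifts (A i) x) :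
    Over.mk t ⟶ (Over.map (f i)).obj (A i) :=
  Over.homMk v.1 (by
    show v.1 ≫ (A i).hom ≫ f i = t
    rw [← Category.assoc, v.2, hx])

/-- The family of a lift. -/
def evOf {i : κ} {T : Scheme.{u}} {x : T ⟶ X i} {t : T ⟶ S} (hx : x ≫ f i = t) (v : Desc.Lifts (A i) x) :
    H ⊗ Over.mk t ⟶ G := (H ◁ ptOf f A hx v) ≫ υ i

variable {f A υ} (hrep : ∀ i, RepOn (f i) (A i) (υ i))
include hrep

theorem evOf_fam {i : κ} {T : Scheme.{u}} {x : T ⟶ X i} {t : T ⟶ S} (hx : x ≫ f i = t) (v : Desc.Lifts (A i) x) :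
    AutFam.IsHomFamily H G (evOf f A υ hx v) := isHomFamily_comp (hrep i).fam _

theorem evOf_bijective {i : κ} {T : Scheme.{u}} {x : T ⟶ X i} {t : T ⟶ S} (hx : x ≫ f i = t) :
    ∀ φ : H ⊗ Over.mk t ⟶ G, AutFam.IsHomFamily H G φ →
      ∃! v : Desc.Lifts (A i) x, evOf f A υ hx v = φ := by
  subst hx
  intro φ hφ
  obtain ⟨a, ha, hu⟩ := (hrep i).univ (Over.mk x) φ hφ
  refine ⟨⟨a.left, Over.w a⟩, ?_, fun v hv => ?_⟩
  · refine Eq.trans ?_ ha
    show (H ◁ _) ≫ υ i = (H ◁ _) ≫ υ i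
    congr 2
  · have h1 : (Over.homMk v.1 v.2 : Over.mk x ⟶ A i) = a := hu _ (by
      refine Eq.trans ?_ hv
      show (H ◁ _) ≫ υ i = (H ◁ _) ≫ υ i
      congr 2)
    exact Subtype.ext (congrArg (fun m => Over.Hom.left m) h1)

theorem evOf_injective {i : κ} {T : Scheme.{u}} {x : T ⟶ X i} {t : T ⟶ S} (hx : x ≫ f i = t)
    (v v' : Desc.Lifts (A i) x) (h : evOf f A υ hx v = evOf f A υ hx v') : v = v' :=
  ((evOf_bijective hrep hx) _ (evOf_fam hrep hx v')).unique h rfl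

/-- Transport of lifts between the members of the covering. -/
def phiFun {T : Scheme.{u}} {i j : κ} (x₀ : T ⟶ X i) (x₁ : T ⟶ X j) (h : x₀ ≫ f i = x₁ ≫ f j)
    (v : Desc.Lifts (A i) x₀) : Desc.Lifts (A j) x₁ :=
  (evOf_bijective hrep (i := j) (t := x₀ ≫ f i) h.symm _ (evOf_fam hrep rfl v)).choose

theorem phiFun_spec {T : Scheme.{u}} {i j : κ} (x₀ : T ⟶ X i) (x₁ : T ⟶ X j) (h : x₀ ≫ f i = x₁ ≫ f j)
    (v : Desc.Lifts (A i) x₀) {t : T ⟶ S} (h₀ : x₀ ≫ f i = t) (h₁ : x₁ ≫ f j = t) :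
    evOf f A υ h₁ (phiFun hrep x₀ x₁ h v) = evOf f A υ h₀ v := by
  subst h₀
  exact (evOf_bijective hrep (i := j) (t := x₀ ≫ f i) h.symm _ (evOf_fam hrep rfl v)).choose_spec.1

theorem phiFun_eq {T : Scheme.{u}} {i j : κ} (x₀ : T ⟶ X i) (x₁ : T ⟶ X j) (h : x₀ ≫ f i = x₁ ≫ f j)
    (v : Desc.Lifts (A i) x₀) (w : Desc.Lifts (A j) x₁) {t : T ⟶ S} (h₀ : x₀ ≫ f i = t) (h₁ : x₁ ≫ f j = t)
    (hw : evOf f A υ h₁ w = evOf f A υ h₀ v) : phiFun hrep x₀ x₁ h v = w :=
  evOf_injective hrep h₁ _ _ ((phiFun_spec hrep x₀ x₁ h v h₀ h₁).trans hw.symm)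

omit hrep in
omit [GrpObj H] [GrpObj G] in
theorem evOf_pull {i : κ} {T T' : Scheme.{u}} (g : T' ⟶ T) {x : T ⟶ X i} {y : T' ⟶ X i} (hy : g ≫ x = y)
    {t : T ⟶ S} (hx : x ≫ f i = t) (v : Desc.Lifts (A i) x) (v' : Desc.Lifts (A i) y) (hv : v'.1 = g ≫ v.1) :
    evOf f A υ (show y ≫ f i = g ≫ t by rw [← hy, Category.assoc, hx]) v' =
      (H ◁ (Over.homMk g rfl : Over.mk (g ≫ t) ⟶ Over.mk t)) ≫ evOf f A υ hx v := by
  unfold evOf
  have h1 : ptOf f A (show y ≫ f i = g ≫ t by rw [← hy, Category.assoc, hx]) v' =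
      (Over.homMk g rfl : Over.mk (g ≫ t) ⟶ Over.mk t) ≫ ptOf f A hx v := Over.OverMorphism.ext hv
  refine (congrArg (fun m => (H ◁ m) ≫ υ i) h1).trans ?_
  refine Eq.trans ?_ (Category.assoc _ _ _)
  exact congrArg (· ≫ υ i) (MonoidalCategory.whiskerLeft_comp H _ _)

/-- The descent datum. -/
def descDatum : Desc.SchDDFam f where
  obj := A
  φ T i j x₀ x₁ h :=
    { toFun := phiFun hrep x₀ x₁ h
      invFun := phiFun hrep x₁ x₀ h.symm
      left_inv := fun v => phiFun_eq hrep x₁ x₀ h.symm _ v h.symm rfl (phiFun_spec hrep x₀ x₁ h v rfl h.symm).symm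
      right_inv := fun v => phiFun_eq hrep x₀ x₁ h _ v h rfl (phiFun_spec hrep x₁ x₀ h.symm v rfl h).symm }
  φ_natural T T' g i j x₀ x₁ h y₀ y₁ hy₀ hy₁ h' v v' hv' := by
    let w : Desc.Lifts (A j) y₁ := ⟨g ≫ (phiFun hrep x₀ x₁ h v).1, by
      rw [Category.assoc, (phiFun hrep x₀ x₁ h v).2, hy₁]⟩
    show (phiFun hrep y₀ y₁ h' v').1 = g ≫ (phiFun hrep x₀ x₁ h v).1
    rw [phiFun_eq hrep y₀ y₁ h' v' w (t := g ≫ x₀ ≫ f i) (by rw [← hy₀, Category.assoc])
      (by rw [← hy₁, Category.assoc, ← h])]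
    rw [evOf_pull (υ := υ) g hy₁ h.symm (phiFun hrep x₀ x₁ h v) w rfl,
      evOf_pull (υ := υ) g hy₀ rfl v v' hv', phiFun_spec hrep x₀ x₁ h v rfl h.symm]
  φ_self T i x v := phiFun_eq hrep x x rfl v v rfl rfl rfl
  φ_comp T i j k x₀ x₁ x₂ h₀₁ h₁₂ v := (phiFun_eq hrep x₀ x₂ (h₀₁.trans h₁₂) v _ (t := x₁ ≫ f j) h₀₁ h₁₂.symm (by
    show evOf f A υ _ (phiFun hrep x₁ x₂ h₁₂ (phiFun hrep x₀ x₁ h₀₁ v)) = _
    rw [phiFun_spec hrep x₁ x₂ h₁₂ _ rfl h₁₂.symm, phiFun_spec hrep x₀ x₁ h₀₁ v h₀₁ rfl])).symm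

omit hrep

/-- The piece of a scheme over the base over a member of the covering. -/
abbrev piece (f : ∀ i, X i ⟶ S) (W : Over S) (i : κ) : Over S :=
  (Over.map (f i)).obj (Over.mk (pullback.fst (f i) W.hom))

/-- The map from a piece. -/
def pieceι (f : ∀ i, X i ⟶ S) (W : Over S) (i : κ) : piece f W i ⟶ W :=
  Over.homMk (pullback.snd (f i) W.hom) pullback.condition.symm

theorem isCover_piece (hf : Presieve.ofArrows X f ∈ Scheme.fpqcPrecoverage S) (W : Over S) :
    IsCover (pieceι f W) :=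
  Precoverage.mem_coverings_of_isPullback _ hf W.hom _ (fun i => pullback.fst (f i) W.hom)
    fun i => (IsPullback.of_hasPullback (f i) W.hom).flip

omit [GrpObj H] in
theorem isCover_whisker (hf : Presieve.ofArrows X f ∈ Scheme.fpqcPrecoverage S) (W : Over S) :
    IsCover (fun i => H ◁ pieceι f W i) :=
  IsCover.of_isPullback (isCover_piece hf W) _ (snd H W) (fun i => snd H (piece f W i))
    fun i => GrpSchLib.isPullback_whiskerLeft (W := H) (pieceι f W i)

/-- Functoriality of pieces. -/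
def pieceMap {W W' : Over S} (a : W' ⟶ W) (i : κ) :
    (Over.mk (pullback.fst (f i) W'.hom) : Over (X i)) ⟶ Over.mk (pullback.fst (f i) W.hom) :=
  Over.homMk (pullback.lift (pullback.fst _ _) (pullback.snd _ _ ≫ a.left)
    (by rw [Category.assoc, Over.w a, pullback.condition])) (pullback.lift_fst _ _ _)

theorem pieceMap_ι {W W' : Over S} (a : W' ⟶ W) (i : κ) :
    (Over.map (f i)).map (pieceMap a i) ≫ pieceι f W i = pieceι f W' i ≫ a :=
  Over.OverMorphism.ext (pullback.lift_snd _ _ _)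

set_option maxHeartbeats 800000 in
/-- Representability is local for fpqc coverings, for ind-quasi-affine representing schemes. -/
theorem exists_representsHom_of_cover (hf : Presieve.ofArrows X f ∈ Scheme.fpqcPrecoverage S)
    (hrep : ∀ i, RepOn (f i) (A i) (υ i)) (hA : ∀ i, MoreMor.IsIndQuasiAffineHom (A i).hom) :
    ∃ (U : Over S) (υU : H ⊗ U ⟶ G), AutFam.RepresentsHom H G U υU ∧
      ∀ i, Nonempty (Over.mk (pullback.fst (f i) U.hom) ≅ A i) := by
  obtain ⟨U, ⟨E⟩⟩ := DescLib.IndQA.isEffective_of_indQA f hf (descDatum hrep) hA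
  let e : ∀ i, (Over.mk (pullback.fst (f i) U.hom) : Over (X i)) ≅ A i := fun i =>
    ⟨E.hom.hom i, E.inv.hom i, congrArg (fun m => Desc.SchDDFam.Hom.hom m i) E.hom_inv_id,
      congrArg (fun m => Desc.SchDDFam.Hom.hom m i) E.inv_hom_id⟩
  let k : ∀ i, H ⊗ piece f U i ⟶ G := fun i => (H ◁ (Over.map (f i)).map (e i).hom) ≫ υ i
  -- two points of the pieces with the same image
  have key : ∀ (i j : κ) (T : Over S) (a : T ⟶ piece f U i) (b : T ⟶ piece f U j),
      a ≫ pieceι f U i = b ≫ pieceι f U j → (H ◁ a) ≫ k i = (H ◁ b) ≫ k j := by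
    intro i j T a b hab
    let x₀ : T.left ⟶ X i := a.left ≫ pullback.fst (f i) U.hom
    let x₁ : T.left ⟶ X j := b.left ≫ pullback.fst (f j) U.hom
    have h₀ : x₀ ≫ f i = T.hom := (Category.assoc _ _ _).trans (Over.w a)
    have h₁ : x₁ ≫ f j = T.hom := (Category.assoc _ _ _).trans (Over.w b)
    let v : Desc.Lifts (Over.mk (pullback.fst (f i) U.hom)) x₀ := ⟨a.left, rfl⟩
    let w : Desc.Lifts (A i) x₀ := E.hom.push v
    have hc := E.hom.comm x₀ x₁ (h₀.trans h₁.symm) v w rfl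
    have hcan : (((Desc.toDDFam f).obj U).φ x₀ x₁ (h₀.trans h₁.symm) v).1 = b.left :=
      pullback.hom_ext (pullback.lift_fst _ _ _) ((pullback.lift_snd _ _ _).trans
        (congrArg (fun m => Over.Hom.left m) hab))
    rw [hcan] at hc
    have hs := phiFun_spec hrep x₀ x₁ (h₀.trans h₁.symm) w h₀ h₁
    have ea : (H ◁ a) ≫ k i = evOf f A υ h₀ w := by
      show (H ◁ a) ≫ (H ◁ _) ≫ υ i = _
      rw [← Category.assoc, ← MonoidalCategory.whiskerLeft_comp]
      rfl
    have eb : (H ◁ b) ≫ k j = evOf f A υ h₁ (phiFun hrep x₀ x₁ (h₀.trans h₁.symm) w) := by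
      show (H ◁ b) ≫ (H ◁ _) ≫ υ j = _
      rw [← Category.assoc, ← MonoidalCategory.whiskerLeft_comp, evOf]
      congr 2
      exact Over.OverMorphism.ext hc.symm
    rw [ea, eb, hs]
  obtain ⟨υU, hυ⟩ := (isCover_whisker hf U).exists_glue k fun i j T a b hab => by
    have h1 : a ≫ fst _ _ = b ≫ fst _ _ := by simpa using congrArg (fun m => m ≫ fst H U) hab
    have h2 : (a ≫ snd _ _) ≫ pieceι f U i = (b ≫ snd _ _) ≫ pieceι f U j := by
      simpa using congrArg (fun m => m ≫ snd H U) hab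
    have h3 := congrArg (fun m => lift (a ≫ fst _ _) (𝟙 T) ≫ m) (key i j T _ _ h2)
    have ha : lift (a ≫ fst _ _) (𝟙 T) ≫ (H ◁ (a ≫ snd _ _)) = a := by
      rw [lift_whiskerLeft, Category.id_comp]
      exact (comp_lift a _ _).symm.trans (by rw [lift_fst_snd, Category.comp_id])
    have hb : lift (a ≫ fst _ _) (𝟙 T) ≫ (H ◁ (b ≫ snd _ _)) = b := by
      rw [h1, lift_whiskerLeft, Category.id_comp]
      exact (comp_lift b _ _).symm.trans (by rw [lift_fst_snd, Category.comp_id])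
    simp only [← Category.assoc] at h3
    rwa [ha, hb] at h3
  have hυ' : ∀ i, (H ◁ pieceι f U i) ≫ υU = k i := hυ
  have hfam : AutFam.IsHomFamily H G υU := fun Y g₁ g₂ t => by
    refine (isCover_piece hf Y).hom_ext fun i => ?_
    have e1 : ∀ g : Y ⟶ H, pieceι f Y i ≫ lift g t ≫ υU =
        lift (pieceι f Y i ≫ g) ((Over.map (f i)).map (pieceMap t i ≫ (e i).hom)) ≫ υ i := fun g => by
      rw [← Category.assoc, comp_lift, show pieceι f Y i ≫ t = (Over.map (f i)).map (pieceMap t i) ≫ pieceι f U i from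
        (pieceMap_ι t i).symm, ← lift_whiskerLeft, Category.assoc, hυ']
      show lift _ _ ≫ (H ◁ _) ≫ υ i = _
      rw [lift_whiskerLeft_assoc, Functor.map_comp]
    rw [MonObj.comp_mul, e1, e1, e1, MonObj.comp_mul]
    exact (hrep i).fam _ _ _ _
  refine ⟨U, υU, ⟨hfam, fun T φ hφ => ?_⟩, fun i => ⟨e i⟩⟩
  choose a ha huniq using fun i => (hrep i).univ (Over.mk (pullback.fst (f i) T.hom)) ((H ◁ pieceι f T i) ≫ φ)
    (isHomFamily_comp hφ _)
  obtain ⟨t, ht⟩ := (isCover_piece hf T).exists_glue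
    (fun i => (Over.map (f i)).map (a i ≫ (e i).inv) ≫ pieceι f U i) fun i j Y p q hpq => by
      let x₀ : Y.left ⟶ X i := p.left ≫ pullback.fst (f i) T.hom
      let x₁ : Y.left ⟶ X j := q.left ≫ pullback.fst (f j) T.hom
      have h₀ : x₀ ≫ f i = Y.hom := (Category.assoc _ _ _).trans (Over.w p)
      have h₁ : x₁ ≫ f j = Y.hom := (Category.assoc _ _ _).trans (Over.w q)
      let v : Desc.Lifts (A i) x₀ := ⟨p.left ≫ (a i).left, (Category.assoc _ _ _).trans (congrArg (_ ≫ ·) (Over.w (a i)))⟩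
      let v' : Desc.Lifts (A j) x₁ := ⟨q.left ≫ (a j).left, (Category.assoc _ _ _).trans (congrArg (_ ≫ ·) (Over.w (a j)))⟩
      have ev1 : evOf f A υ h₀ v = (H ◁ (p ≫ pieceι f T i)) ≫ φ := by
        rw [MonoidalCategory.whiskerLeft_comp, Category.assoc, ← ha i, ← Category.assoc,
          ← MonoidalCategory.whiskerLeft_comp]
        rfl
      have ev2 : evOf f A υ h₁ v' = (H ◁ (q ≫ pieceι f T j)) ≫ φ := by
        rw [MonoidalCategory.whiskerLeft_comp, Category.assoc, ← ha j, ← Category.assoc,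
          ← MonoidalCategory.whiskerLeft_comp]
        rfl
      have hφv : phiFun hrep x₀ x₁ (h₀.trans h₁.symm) v = v' :=
        phiFun_eq hrep x₀ x₁ _ v v' h₀ h₁ (by rw [ev2, ev1, hpq])
      have hc := E.inv.comm x₀ x₁ (h₀.trans h₁.symm) v (E.inv.push v) rfl
      rw [show ((descDatum hrep).φ x₀ x₁ (h₀.trans h₁.symm) v) = v' from hφv] at hc
      refine Over.OverMorphism.ext ?_
      have hc' := congrArg (fun m => m ≫ pullback.snd (f j) U.hom) hc
      have hsnd : (((Desc.toDDFam f).obj U).φ x₀ x₁ (h₀.trans h₁.symm) (E.inv.push v)).1 ≫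
          pullback.snd (f j) U.hom = (E.inv.push v).1 ≫ pullback.snd (f i) U.hom := pullback.lift_snd _ _ _
      refine Eq.trans ?_ ((hsnd.symm.trans hc').trans ?_)
      · show p.left ≫ ((a i).left ≫ (E.inv.hom i).left) ≫ pullback.snd (f i) U.hom = _
        simp only [← Category.assoc]
        rfl
      · show ((q.left ≫ (a j).left) ≫ (E.inv.hom j).left) ≫ pullback.snd (f j) U.hom =
          q.left ≫ ((a j).left ≫ (E.inv.hom j).left) ≫ pullback.snd (f j) U.hom
        simp only [← Category.assoc]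
  refine ⟨t, (isCover_whisker hf T).hom_ext fun i => ?_, fun t' ht' => (isCover_piece hf T).hom_ext fun i => ?_⟩
  · rw [← Category.assoc, ← MonoidalCategory.whiskerLeft_comp, ht i, MonoidalCategory.whiskerLeft_comp,
      Category.assoc, hυ', ← Category.assoc, ← MonoidalCategory.whiskerLeft_comp, ← Functor.map_comp,
      Category.assoc, Iso.inv_hom_id, Category.comp_id, ha i]
  · have h1 : pieceMap t' i ≫ (e i).hom = a i := huniq i _ (by
      show (H ◁ (Over.map (f i)).map (pieceMap t' i ≫ (e i).hom)) ≫ υ i = _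
      rw [Functor.map_comp, MonoidalCategory.whiskerLeft_comp, Category.assoc,
        show (H ◁ (Over.map (f i)).map (e i).hom) ≫ υ i = k i from rfl, ← hυ', ← Category.assoc,
        ← MonoidalCategory.whiskerLeft_comp, pieceMap_ι, MonoidalCategory.whiskerLeft_comp, Category.assoc, ht'])
    rw [ht i, ← h1, Category.assoc, Iso.hom_inv_id, Category.comp_id, pieceMap_ι]

end Descent

end Groth.Agent.MultDefLib

end
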