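import Groth.Agent.MultDefLib.Hom
import Groth.Agent.MorLib.FSmoothSection
import Mathlib.RingTheory.Ideal.Quotient.Nilpotent
import Mathlib.AlgebraicGeometry.Morphisms.Smooth

/-!
# Smooth schemes lift points along nilpotent ideals
-/

universe u

open CategoryTheory CategoryTheory.Limits AlgebraicGeometry

noncomputable section

namespace Groth.Agent.MultDefLib

open GrpSchLib.AffineHopf (sp spMap)

theorem isFormallySmoothHom_of_smooth {X Y : Scheme.{u}} (f : X ⟶ Y) [Smooth f] :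
    MoreMor.IsFormallySmoothHom f :=
  MorLib.isFormallySmoothHom_of_appLE f fun U V hU hV hUV => by
    have := HasRingHomProperty.appLE @Smooth f ‹_› ⟨V, hV⟩ ⟨U, hU⟩ hUV
    exact @Algebra.Smooth.formallySmooth _ _ _ _ _ this

theorem exists_lift_of_nilpotent {X Y : Scheme.{u}} {f : X ⟶ Y} (hf : MoreMor.IsFormallySmoothHom f)
    {P : Type u} [CommRing P] (I : Ideal P) (hI : IsNilpotent I) (a : Spec (CommRingCat.of (P ⧸ I)) ⟶ X)
    (b : Spec (CommRingCat.of P) ⟶ Y) (w : Spec.map (CommRingCat.ofHom (Ideal.Quotient.mk I)) ≫ b = a ≫ f) :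
    ∃ l : Spec (CommRingCat.of P) ⟶ X,
      Spec.map (CommRingCat.ofHom (Ideal.Quotient.mk I)) ≫ l = a ∧ l ≫ f = b := by
  revert a b w
  apply Ideal.IsNilpotent.induction_on (S := P) I hI
  · intro S _ I hI a b w
    exact hf S I hI a b w
  · intro S _ I J hIJ h₁ h₂ a b w
    let e := (DoubleQuot.quotQuotEquivQuotOfLE hIJ)
    have he : e.toRingHom.comp ((Ideal.Quotient.mk (J.map (Ideal.Quotient.mk I))).comp (Ideal.Quotient.mk I)) =
        Ideal.Quotient.mk J := RingHom.ext fun x => DoubleQuot.quotQuotEquivQuotOfLE_quotQuotMk x hIJ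
    have key : Spec.map (CommRingCat.ofHom e.symm.toRingHom) ≫ Spec.map (CommRingCat.ofHom e.toRingHom) = 𝟙 _ := by
      rw [← Spec.map_comp, ← CommRingCat.ofHom_comp, show e.symm.toRingHom.comp e.toRingHom = RingHom.id _ from
        RingHom.ext e.symm_apply_apply, CommRingCat.ofHom_id, Spec.map_id]
    have key' : Spec.map (CommRingCat.ofHom e.toRingHom) ≫ Spec.map (CommRingCat.ofHom e.symm.toRingHom) = 𝟙 _ := by
      rw [← Spec.map_comp, ← CommRingCat.ofHom_comp, show e.toRingHom.comp e.symm.toRingHom = RingHom.id _ from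
        RingHom.ext e.apply_symm_apply, CommRingCat.ofHom_id, Spec.map_id]
    have hJ : Spec.map (CommRingCat.ofHom (Ideal.Quotient.mk J)) = Spec.map (CommRingCat.ofHom e.toRingHom) ≫
        Spec.map (CommRingCat.ofHom (Ideal.Quotient.mk (J.map (Ideal.Quotient.mk I)))) ≫
          Spec.map (CommRingCat.ofHom (Ideal.Quotient.mk I)) := by
      rw [← Spec.map_comp, ← Spec.map_comp, ← CommRingCat.ofHom_comp, ← CommRingCat.ofHom_comp, he]
    obtain ⟨l₂, hl₂, hl₂'⟩ := h₂ (Spec.map (CommRingCat.ofHom e.symm.toRingHom) ≫ a)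
      (Spec.map (CommRingCat.ofHom (Ideal.Quotient.mk I)) ≫ b) (by
        rw [Category.assoc, ← w, hJ, Category.assoc, Category.assoc, reassoc_of% key])
    obtain ⟨l₁, hl₁, hl₁'⟩ := h₁ l₂ b hl₂'.symm
    refine ⟨l₁, ?_, hl₁'⟩
    rw [hJ, Category.assoc, Category.assoc, hl₁, hl₂, reassoc_of% key']

theorem canLift_of_smooth {R : Type u} [CommRing R] {G : Over (Spec (CommRingCat.of R))} [Smooth G.hom]
    {K : Ideal R} (hK : IsNilpotent K) : CanLift G K := by
  intro P _ _ q
  obtain ⟨n, hn⟩ := hK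
  obtain ⟨l, hl, hl'⟩ := exists_lift_of_nilpotent (isFormallySmoothHom_of_smooth G.hom) (ext K P)
    ⟨n, by
      show (K.map (algebraMap R P)) ^ n = ⊥
      rw [← Ideal.map_pow, show K ^ n = ⊥ from hn, Ideal.map_bot]⟩
    q.left (sp R P).hom ((Over.w (spMap (red K P))).trans (Over.w q).symm)
  exact ⟨Over.homMk l hl', Over.OverMorphism.ext hl⟩

theorem isNilpotent_of_le {R : Type u} [CommRing R] {J K : Ideal R} (h : K ≤ J) (hJ : IsNilpotent J) :
    IsNilpotent K := by
  obtain ⟨n, hn⟩ := hJ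
  exact ⟨n, le_bot_iff.mp ((Ideal.pow_right_mono h n).trans hn.le)⟩

end Groth.Agent.MultDefLib

end
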