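import Groth.Agent.MultDefLib.Mult
import Groth.Agent.MultDefLib.Lift

/-!
# Homomorphisms out of groups of multiplicative type congruent modulo an ideal are conjugate
-/

universe u

open CategoryTheory CategoryTheory.Limits MonoidalCategory CartesianMonoidalCategory MonObj GrpObj AlgebraicGeometry

set_option backward.isDefEq.respectTransparency false
set_option linter.style.haveILetI false

noncomputable section

namespace Groth.Agent.MultDefLib

open GrpSchLib.AffineHopf (sp spMap spMap_comp spMap_id)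

variable {R : Type u} [CommRing R]

/-- The base as a spectrum. -/
def toBase : 𝟙_ (Over (Spec (CommRingCat.of R))) ⟶ sp R R :=
  Over.homMk (𝟙 _) (by
    show 𝟙 _ ≫ Spec.map (CommRingCat.ofHom (algebraMap R R)) = 𝟙 _
    simp)

theorem hom_base_ext {X : Over (Spec (CommRingCat.of R))} (a b : X ⟶ sp R R) : a = b := by
  refine Over.OverMorphism.ext ?_
  have h : ∀ c : X ⟶ sp R R, c.left = X.hom := fun c => by
    have := Over.w c
    rw [show (sp R R).hom = 𝟙 _ by
      show Spec.map (CommRingCat.ofHom (algebraMap R R)) = 𝟙 _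
      simp] at this
    exact (Category.comp_id _).symm.trans this
  rw [h a, h b]

variable {G : Over (Spec (CommRingCat.of R))} [GrpObj G] {H : Over (Spec (CommRingCat.of R))} [GrpObj H]

/-- The closed subscheme of an ideal as a spectrum of an algebra. -/
abbrev S₀ (J : Ideal R) : Over (Spec (CommRingCat.of R)) :=
  Over.mk (Spec.map (CommRingCat.ofHom (Ideal.Quotient.mk J)))

theorem quotientToRed_aux (J : Ideal R) (P : Type u) [CommRing P] [Algebra R P] :
    ∀ x ∈ J, Algebra.ofId R (P ⧸ ext J P) x = 0 := fun x hx => by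
  rw [Algebra.ofId_apply, IsScalarTower.algebraMap_apply R P (P ⧸ ext J P)]
  exact Ideal.Quotient.eq_zero_iff_mem.mpr (Ideal.mem_map_of_mem _ hx)

/-- The structure map of a reduction to the closed subscheme. -/
def toS₀ (J : Ideal R) (P : Type u) [CommRing P] [Algebra R P] : sp R (P ⧸ ext J P) ⟶ S₀ J :=
  spMap (Ideal.Quotient.liftₐ J (Algebra.ofId R (P ⧸ ext J P)) (quotientToRed_aux J P))

/-- Restriction to the closed subscheme determines the congruence class, and conversely. -/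
theorem congr_base_iff (J : Ideal R) (g g' : 𝟙_ (Over (Spec (CommRingCat.of R))) ⟶ G)
    (h : sp R R ⟶ G) (h' : sp R R ⟶ G) (hg : toBase ≫ h = g) (hg' : toBase ≫ h' = g') :
    Congr J h h' ↔ toUnit (S₀ J) ≫ g = toUnit (S₀ J) ≫ g' := by
  subst hg hg'
  have e : toUnit (S₀ J) ≫ toBase = spMap (Algebra.ofId R (R ⧸ J)) := hom_base_ext _ _
  constructor
  · intro hc
    let ρ : R ⧸ ext J R →ₐ[R] R ⧸ J := Ideal.Quotient.liftₐ _ (Algebra.ofId R (R ⧸ J)) fun x hx => by
      rw [ext, Algebra.algebraMap_self, Ideal.map_id] at hx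
      exact Ideal.Quotient.eq_zero_iff_mem.mpr hx
    rw [← Category.assoc, ← Category.assoc, e, Subsingleton.elim (Algebra.ofId R (R ⧸ J)) (ρ.comp (red J R))]
    refine (congrArg (· ≫ h) (spMap_comp ρ (red J R)).symm).trans ?_
    refine (Category.assoc _ _ _).trans ((congrArg (_ ≫ ·) hc).trans ?_)
    exact (Category.assoc _ _ _).symm.trans (congrArg (· ≫ h') (spMap_comp ρ (red J R)))
  · intro hc
    have hk : spMap (red J R) = toS₀ J R ≫ toUnit (S₀ J) ≫ toBase := hom_base_ext _ _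
    unfold Congr
    rw [hk, Category.assoc, Category.assoc, Category.assoc, Category.assoc, hc]

theorem comp_conj {X : Over (Spec (CommRingCat.of R))} {A : Type u} [CommRing A] [HopfAlgebra R A]
    (h : X ⟶ sp R A) (g : sp R R ⟶ G) (f : sp R A ⟶ G) :
    h ≫ conj g f = (toUnit X ≫ toBase ≫ g) * (h ≫ f) * (toUnit X ≫ toBase ≫ g)⁻¹ := by
  rw [conj, MonObj.comp_mul, MonObj.comp_mul, GrpObj.comp_inv, ofBase, ← Category.assoc, ← Category.assoc,
    hom_base_ext (h ≫ spMap (Algebra.ofId R A)) (toUnit X ≫ toBase)]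

/-- A point of the base as a point of the spectrum of the base. -/
theorem exists_base_point (g : 𝟙_ (Over (Spec (CommRingCat.of R))) ⟶ G) : ∃ h : sp R R ⟶ G, toBase ≫ h = g := by
  refine ⟨toUnit (sp R R) ≫ g, ?_⟩
  rw [← Category.assoc, toUnit_unique (toBase ≫ toUnit (sp R R)) (𝟙 _), Category.id_comp]

/-- The square zero case, for any group. -/
theorem exists_conj_of_agree (hH : MultLoc H) {J : Ideal R} (hJ : J ^ 2 = ⊥) (u v : H ⟶ G) [IsMonHom u] [IsMonHom v]
    (h0 : ∀ (X : Over (Spec (CommRingCat.of R))) (_ : X ⟶ S₀ J) (h : X ⟶ H), h ≫ u = h ≫ v) :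
    ∃ g : 𝟙_ (Over (Spec (CommRingCat.of R))) ⟶ G, toUnit (S₀ J) ≫ g = 1 ∧
      ∀ (X : Over (Spec (CommRingCat.of R))) (h : X ⟶ H),
        h ≫ v = (toUnit X ≫ g) * (h ≫ u) * (toUnit X ≫ g)⁻¹ := by
  obtain ⟨A, i₁, i₂, hA, ⟨e⟩⟩ := exists_hopf_multType hH
  obtain ⟨mn⟩ := MultTypeLib.exists_mean hA
  let ε := overIso e
  haveI : IsMonHom ε.hom := e.hom.hom.isMonHom_hom
  have hc : Congr J (ε.hom ≫ v) (ε.hom ≫ u) :=
    (Category.assoc _ _ _).symm.trans
      ((h0 _ (toS₀ J A) (spMap (red J A) ≫ ε.hom)).symm.trans (Category.assoc _ _ _))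
  obtain ⟨g, hg, hv⟩ := exists_conj_of_sq_zero mn (by rw [← pow_two, hJ])
    (isHom_of_isMonHom (ε.hom ≫ u)) (isHom_of_isMonHom (ε.hom ≫ v)) hc
  refine ⟨toBase ≫ g, ?_, fun X h => ?_⟩
  · have := (congr_base_iff J (toBase ≫ g) (toBase ≫ 1) g 1 rfl rfl).mp hg
    simpa using this
  · have := congrArg (fun z => h ≫ ε.inv ≫ z) hv
    simp only [Iso.inv_hom_id_assoc] at this
    rw [this, ← Category.assoc, comp_conj]
    simp

/-- The nilpotent case, for smooth groups. -/
theorem exists_conj_lift (hH : MultLoc H) [Smooth G.hom] {J : Ideal R} (hJ : IsNilpotent J) (u v : H ⟶ G)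
    [IsMonHom u] [IsMonHom v] (g₀ : S₀ J ⟶ G)
    (h0 : ∀ (X : Over (Spec (CommRingCat.of R))) (p : X ⟶ S₀ J) (h : X ⟶ H),
      h ≫ v = (p ≫ g₀) * (h ≫ u) * (p ≫ g₀)⁻¹) :
    ∃ g : 𝟙_ (Over (Spec (CommRingCat.of R))) ⟶ G, toUnit (S₀ J) ≫ g = g₀ ∧
      ∀ (X : Over (Spec (CommRingCat.of R))) (h : X ⟶ H),
        h ≫ v = (toUnit X ≫ g) * (h ≫ u) * (toUnit X ≫ g)⁻¹ := by
  obtain ⟨A, i₁, i₂, hA, ⟨e⟩⟩ := exists_hopf_multType hH
  obtain ⟨mn⟩ := MultTypeLib.exists_mean hA
  let ε := overIso e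
  haveI : IsMonHom ε.hom := e.hom.hom.isMonHom_hom
  obtain ⟨l, hl, hl'⟩ := exists_lift_of_nilpotent (isFormallySmoothHom_of_smooth G.hom) J hJ g₀.left (𝟙 _)
    ((Category.comp_id _).trans (Over.w g₀).symm)
  obtain ⟨g₁, hg₁⟩ := exists_base_point (G := G) (Over.homMk l hl')
  have hg₀ : toUnit (S₀ J) ≫ (Over.homMk l hl' : 𝟙_ (Over (Spec (CommRingCat.of R))) ⟶ G) = g₀ := Over.OverMorphism.ext hl
  have hc : Congr J (ε.hom ≫ v) (conj g₁ (ε.hom ≫ u)) := by
    have h2 := h0 _ (toS₀ J A) (spMap (red J A) ≫ ε.hom)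
    unfold Congr
    rw [← Category.assoc, h2, comp_conj, hg₁, ← hg₀, ← Category.assoc (toS₀ J A),
      toUnit_unique (toS₀ J A ≫ toUnit _) (toUnit _), Category.assoc]
  obtain ⟨g, hg, hv⟩ := exists_conj_nilpotent mn hJ (fun K hK => canLift_of_smooth (isNilpotent_of_le hK hJ))
    (isHom_conj (isHom_of_isMonHom (ε.hom ≫ u)) g₁) (isHom_of_isMonHom (ε.hom ≫ v)) hc
  rw [← conj_mul] at hv
  refine ⟨toBase ≫ (g * g₁), ?_, fun X h => ?_⟩
  · have := (congr_base_iff J (toBase ≫ g) (toBase ≫ 1) g 1 rfl rfl).mp hg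
    rw [MonObj.comp_mul, MonObj.comp_mul, this, hg₁, hg₀, MonObj.comp_one, MonObj.comp_one, _root_.one_mul]
  · have := congrArg (fun z => h ≫ ε.inv ≫ z) hv
    simp only [Iso.inv_hom_id_assoc] at this
    rw [this, ← Category.assoc, comp_conj]
    simp

end Groth.Agent.MultDefLib

end
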