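import Groth.Agent.MultDefLib.Subgroup
import Groth.Agent.MultDefLib.Theta
import Groth.Agent.MultTypeLib.MultNil

/-!
# Homomorphisms between groups of multiplicative type along nilpotent ideals, and lifting of
conjugations of subgroups of multiplicative type
-/

universe u

open CategoryTheory CategoryTheory.Limits MonoidalCategory CartesianMonoidalCategory MonObj GrpObj AlgebraicGeometry
open TensorProduct WithConv

set_option backward.isDefEq.respectTransparency false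
set_option linter.style.haveILetI false

noncomputable section

namespace Groth.Agent.MultDefLib

open GrpSchLib.AffineHopf (sp spMap spMap_comp spMap_id spMap_injective exists_bialgHom bcToSp toBc toBc_bcToSp
  toBc_comp_map extendScalars extendScalars_tmul)
open DSPtsLib (theta theta_comp theta_mul theta_bijective)

attribute [local instance] algRed

variable {R : Type u} [CommRing R] {J : Ideal R}

local notation "i₀" => Spec.map (CommRingCat.ofHom (algebraMap R (R ⧸ J)))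

theorem isMonHom_of_mul {C : Type*} [Category C] [CartesianMonoidalCategory C] {K P : C} [GrpObj K] [GrpObj P]
    (f : K ⟶ P) (h : ∀ (X : C) (x y : X ⟶ K), (x * y) ≫ f = (x ≫ f) * (y ≫ f)) : IsMonHom f := by
  refine ⟨?_, ?_⟩
  · have h1 := h _ (1 : 𝟙_ C ⟶ K) 1
    rw [_root_.mul_one, right_eq_mul] at h1
    have e : ∀ {Y : C} [GrpObj Y], (1 : 𝟙_ C ⟶ Y) = η[Y] := fun {Y} _ => by
      rw [Hom.one_def, toUnit_unique (toUnit (𝟙_ C)) (𝟙 _), Category.id_comp]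
    rwa [e, e] at h1
  · have h1 := h _ (fst K K) (snd K K)
    rw [Hom.mul_def, Hom.mul_def, lift_fst_snd, Category.id_comp] at h1
    rw [h1]
    congr 1
    ext <;> simp

section Affine

variable {A B : Type u} [CommRing A] [CommRing B] [HopfAlgebra R A] [HopfAlgebra R B]

theorem mem_smul_top_of_red {x y : A} (h : red J A x = red J A y) : x - y ∈ (J • ⊤ : Submodule R A) := by
  rw [Ideal.smul_top_eq_map, Submodule.restrictScalars_mem]
  exact Ideal.Quotient.eq.mp h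

theorem hom_ext_nil_sp (hJ : IsNilpotent J) (hA : SGA3b.IsMultType R A) (hB : SGA3b.IsMultType R B)
    (ψ ψ' : sp R A ⟶ sp R B) [IsMonHom ψ] [IsMonHom ψ']
    (h : (Over.pullback i₀).map ψ = (Over.pullback i₀).map ψ') : ψ = ψ' := by
  obtain ⟨φ, rfl⟩ := exists_bialgHom ψ
  obtain ⟨φ', rfl⟩ := exists_bialgHom ψ'
  have h1 := congrArg (fun z => down (toBc (S := R ⧸ J) (red J A) ≫ z)) h
  simp only [down_toBc, spMap_comp] at h1
  have h2 := spMap_injective h1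
  rw [MultTypeLib.bialgHom_ext_nil hJ hB hA φ φ' fun c => mem_smul_top_of_red (AlgHom.congr_fun h2 c)]

set_option maxHeartbeats 1000000 in
theorem exists_hom_lift_sp (hJ : IsNilpotent J) (hA : SGA3b.IsMultType R A) (hB : SGA3b.IsMultType R B)
    (ψ₀ : Red.bc i₀ (sp R A) ⟶ Red.bc i₀ (sp R B)) [IsMonHom ψ₀] :
    ∃ ψ : sp R A ⟶ sp R B, IsMonHom ψ ∧ (Over.pullback i₀).map ψ = ψ₀ := by
  have hiso : ∀ (C : Type u) [CommRing C] [HopfAlgebra R C],
      IsIso (bcToSp (R := R) (S := R ⧸ J) (A := C)) := fun C _ _ => by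
    haveI : IsIso (bcToSp (R := R) (S := R ⧸ J) (A := C)).left :=
      inferInstanceAs (IsIso (pullbackSymmetry .. ≪≫ pullbackSpecIso' R (R ⧸ J) C).hom)
    haveI : IsIso ((Over.forget _).map (bcToSp (R := R) (S := R ⧸ J) (A := C))) :=
      ‹IsIso (bcToSp (R := R) (S := R ⧸ J) (A := C)).left›
    exact isIso_of_reflects_iso _ (Over.forget _)
  haveI := hiso A
  haveI := hiso B
  let kA := asIso (bcToSp (R := R) (S := R ⧸ J) (A := A))
  haveI : IsMonHom kA.hom := inferInstanceAs (IsMonHom (bcToSp (R := R) (S := R ⧸ J) (A := A)))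
  haveI hi : IsMonHom kA.inv := inferInstance
  haveI hk : IsMonHom (bcToSp (R := R) (S := R ⧸ J) (A := B)) := inferInstance
  have hcomp : IsMonHom (kA.inv ≫ ψ₀ ≫ bcToSp (R := R) (S := R ⧸ J) (A := B)) :=
    @CategoryTheory.instIsMonHomComp _ _ _ _ _ _ _ _ _ _ _ hi (@CategoryTheory.instIsMonHomComp _ _ _ _ _ _ _ _ _ _ _ ‹IsMonHom ψ₀› hk)
  obtain ⟨φ₀, hφ₀⟩ := @exists_bialgHom (R ⧸ J) _ ((R ⧸ J) ⊗[R] A) ((R ⧸ J) ⊗[R] B) _ _ _ _ (kA.inv ≫ ψ₀ ≫ bcToSp (R := R) (S := R ⧸ J) (A := B)) hcomp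
  obtain ⟨φ, hφ⟩ := MultTypeLib.exists_bialgHom_lift_nil hJ hB hA φ₀
  refine ⟨spMap (φ : B →ₐ[R] A), inferInstance, ?_⟩
  refine bc_hom_ext (congrArg down ?_)
  rw [toBc_comp_map]
  refine (@cancel_mono _ _ _ _ _ (bcToSp (R := R) (S := R ⧸ J) (A := B)) (@IsIso.mono_of_iso _ _ _ _ _ (hiso B)) _ _).mp ?_
  rw [toBc_bcToSp]
  have h1 : ψ₀ ≫ bcToSp (R := R) (S := R ⧸ J) (A := B) = kA.hom ≫ spMap (φ₀ : _ →ₐ[R ⧸ J] _) := by
    rw [← hφ₀, Iso.hom_inv_id_assoc]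
  have h2 : toBc (S := R ⧸ J) (red J A) ≫ ψ₀ ≫ bcToSp (R := R) (S := R ⧸ J) (A := B) =
      spMap (extendScalars (red J A)) ≫ spMap (φ₀ : _ →ₐ[R ⧸ J] _) := by
    rw [h1, ← toBc_bcToSp, Category.assoc]
    rfl
  rw [Category.assoc, h2, spMap_comp]
  congr 1
  refine Algebra.TensorProduct.ext (Subsingleton.elim _ _) (AlgHom.ext fun c => ?_)
  show extendScalars ((red J A).comp (φ : B →ₐ[R] A)) ((1 : R ⧸ J) ⊗ₜ c) = extendScalars (red J A) (φ₀ ((1 : R ⧸ J) ⊗ₜ c))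
  rw [hφ, extendScalars_tmul, extendScalars_tmul]
  rfl

end Affine

section General

variable {H H' : Over (Spec (CommRingCat.of R))} [GrpObj H] [GrpObj H']

/-- Homomorphisms between groups of multiplicative type are determined by their reductions. -/
theorem hom_ext_nil (hJ : IsNilpotent J) (hH : MultLoc H) (hH' : MultLoc H') (ψ ψ' : H ⟶ H') [IsMonHom ψ]
    [IsMonHom ψ'] (h : (Over.pullback i₀).map ψ = (Over.pullback i₀).map ψ') : ψ = ψ' := by
  obtain ⟨A, _, _, hA, ⟨e⟩⟩ := exists_hopf_multType hH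
  obtain ⟨B, _, _, hB, ⟨e'⟩⟩ := exists_hopf_multType hH'
  let ε := overIso e
  let ε' := overIso e'
  haveI : IsMonHom ε.hom := e.hom.hom.isMonHom_hom
  haveI : IsMonHom ε'.inv := e'.inv.hom.isMonHom_hom
  have h1 := hom_ext_nil_sp hJ hA hB (ε.hom ≫ ψ ≫ ε'.inv) (ε.hom ≫ ψ' ≫ ε'.inv) (by
    simp only [Functor.map_comp, h])
  simpa using h1

/-- Homomorphisms between groups of multiplicative type lift along nilpotent ideals. -/
theorem exists_hom_lift (hJ : IsNilpotent J) (hH : MultLoc H) (hH' : MultLoc H')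
    (ψ₀ : Red.bc i₀ H ⟶ Red.bc i₀ H') [IsMonHom ψ₀] :
    ∃ ψ : H ⟶ H', IsMonHom ψ ∧ (Over.pullback i₀).map ψ = ψ₀ := by
  obtain ⟨A, _, _, hA, ⟨e⟩⟩ := exists_hopf_multType hH
  obtain ⟨B, _, _, hB, ⟨e'⟩⟩ := exists_hopf_multType hH'
  let ε := overIso e
  let ε' := overIso e'
  haveI : IsMonHom ε.hom := e.hom.hom.isMonHom_hom
  haveI : IsMonHom ε.inv := e.inv.hom.isMonHom_hom
  haveI : IsMonHom ε'.hom := e'.hom.hom.isMonHom_hom
  haveI : IsMonHom ε'.inv := e'.inv.hom.isMonHom_hom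
  haveI : IsMonHom ((Over.pullback i₀).map ε.hom) := inferInstance
  haveI : IsMonHom ((Over.pullback i₀).map ε'.inv) := inferInstance
  let χ : Red.bc i₀ (sp R A) ⟶ Red.bc i₀ (sp R B) :=
    (Over.pullback i₀).map ε.hom ≫ ψ₀ ≫ (Over.pullback i₀).map ε'.inv
  haveI : IsMonHom χ := inferInstanceAs (IsMonHom ((Over.pullback i₀).map ε.hom ≫ ψ₀ ≫ (Over.pullback i₀).map ε'.inv))
  obtain ⟨ψ, hψ, hm⟩ := exists_hom_lift_sp hJ hA hB χ
  haveI := hψ
  refine ⟨ε.inv ≫ ψ ≫ ε'.hom, inferInstance, ?_⟩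
  rw [Functor.map_comp, Functor.map_comp, hm]
  show (Over.pullback i₀).map ε.inv ≫ ((Over.pullback i₀).map ε.hom ≫ ψ₀ ≫ (Over.pullback i₀).map ε'.inv) ≫
    (Over.pullback i₀).map ε'.hom = ψ₀
  simp only [Category.assoc, Iso.map_inv_hom_id_assoc, Iso.map_inv_hom_id, Category.comp_id]

variable {G : Over (Spec (CommRingCat.of R))} [GrpObj G]

/-- An object over the closed subscheme maps to it. -/
abbrev pS (X : Over (Spec (CommRingCat.of (R ⧸ J)))) : (Over.map i₀).obj X ⟶ S₀ J := Over.homMk X.hom rfl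

theorem map_pS {X Y : Over (Spec (CommRingCat.of (R ⧸ J)))} (x : X ⟶ Y) :
    (Over.map i₀).map x ≫ pS Y = pS X :=
  Over.OverMorphism.ext (Over.w x)

/-- A conjugation taking points of `H` into `H'` over the closed subscheme gives a homomorphism there. -/
theorem exists_bc_hom (u : H ⟶ G) [IsMonHom u] (u' : H' ⟶ G) [IsMonHom u'] [Mono u'] (g₀ : S₀ J ⟶ G)
    (h0 : ∀ (X : Over (Spec (CommRingCat.of R))) (p : X ⟶ S₀ J) (h : X ⟶ H),
      ∃ h' : X ⟶ H', (p ≫ g₀) * (h ≫ u) * (p ≫ g₀)⁻¹ = h' ≫ u') :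
    ∃ ψ₀ : Red.bc i₀ H ⟶ Red.bc i₀ H', IsMonHom ψ₀ ∧
      ∀ {X : Over (Spec (CommRingCat.of (R ⧸ J)))} (x : X ⟶ Red.bc i₀ H),
        theta i₀ (x ≫ ψ₀) ≫ u' = (pS X ≫ g₀) * (theta i₀ x ≫ u) * (pS X ≫ g₀)⁻¹ := by
  obtain ⟨w, hw⟩ := h0 _ (pS (Red.bc i₀ H)) (theta i₀ (𝟙 (Red.bc i₀ H)))
  obtain ⟨ψ₀, rfl⟩ := theta_surjective i₀ w
  have hx : ∀ {X : Over (Spec (CommRingCat.of (R ⧸ J)))} (x : X ⟶ Red.bc i₀ H),
      theta i₀ (x ≫ ψ₀) ≫ u' = (pS X ≫ g₀) * (theta i₀ x ≫ u) * (pS X ≫ g₀)⁻¹ := fun {X} x => by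
    have h1 := congrArg (fun z => (Over.map i₀).map x ≫ z) hw
    simp only [MonObj.comp_mul, GrpObj.comp_inv, ← Category.assoc, map_pS, ← theta_comp, Category.comp_id] at h1
    exact h1.symm
  refine ⟨ψ₀, isMonHom_of_mul ψ₀ fun X x y => (theta_bijective i₀).1 ((cancel_mono u').mp ?_), hx⟩
  rw [hx, theta_mul, theta_mul, MonObj.mul_comp, MonObj.mul_comp, hx, hx]
  group

/-- A conjugation of subgroups of multiplicative type over the closed subscheme lifts. -/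
theorem exists_conj_lift_subgroup (hH : MultLoc H) (hH' : MultLoc H') [Smooth G.hom] (hJ : IsNilpotent J)
    (i : H ⟶ G) [IsMonHom i] [Mono i] (i' : H' ⟶ G) [IsMonHom i'] [Mono i'] (g₀ : S₀ J ⟶ G)
    (h0 : ∀ (X : Over (Spec (CommRingCat.of R))) (p : X ⟶ S₀ J),
      (∀ h : X ⟶ H, ∃ h' : X ⟶ H', (p ≫ g₀) * (h ≫ i) * (p ≫ g₀)⁻¹ = h' ≫ i') ∧
      (∀ h' : X ⟶ H', ∃ h : X ⟶ H, (p ≫ g₀)⁻¹ * (h' ≫ i') * (p ≫ g₀) = h ≫ i)) :
    ∃ (g : 𝟙_ (Over (Spec (CommRingCat.of R))) ⟶ G) (φ : H ≅ H'), IsMonHom φ.hom ∧ toUnit (S₀ J) ≫ g = g₀ ∧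
      ∀ (X : Over (Spec (CommRingCat.of R))) (h : X ⟶ H),
        (toUnit X ≫ g) * (h ≫ i) * (toUnit X ≫ g)⁻¹ = (h ≫ φ.hom) ≫ i' := by
  obtain ⟨ψ₀, hψ₀, hx⟩ := exists_bc_hom i i' g₀ fun X p => (h0 X p).1
  obtain ⟨ψ₀', hψ₀', hx'⟩ := exists_bc_hom i' i g₀⁻¹ fun X p => by
    simpa [GrpObj.comp_inv] using (h0 X p).2
  have e1 : ψ₀ ≫ ψ₀' = 𝟙 _ := (theta_bijective i₀).1 ((cancel_mono i).mp (by
    rw [hx', ← Category.id_comp ψ₀, hx, GrpObj.comp_inv]
    group))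
  have e2 : ψ₀' ≫ ψ₀ = 𝟙 _ := (theta_bijective i₀).1 ((cancel_mono i').mp (by
    rw [hx, ← Category.id_comp ψ₀', hx', GrpObj.comp_inv]
    group))
  haveI := hψ₀
  haveI := hψ₀'
  obtain ⟨ψ, hψ, hm⟩ := exists_hom_lift hJ hH hH' ψ₀
  obtain ⟨ψ', hψ', hm'⟩ := exists_hom_lift hJ hH' hH ψ₀'
  haveI := hψ
  haveI := hψ'
  let φ : H ≅ H' := ⟨ψ, ψ',
    hom_ext_nil hJ hH hH _ _ (by rw [Functor.map_comp, hm, hm', e1, CategoryTheory.Functor.map_id]),
    hom_ext_nil hJ hH' hH' _ _ (by rw [Functor.map_comp, hm, hm', e2, CategoryTheory.Functor.map_id])⟩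
  obtain ⟨g, hg, hgv⟩ := exists_conj_lift hH hJ i (ψ ≫ i') g₀ fun X p h => by
    let X' : Over (Spec (CommRingCat.of (R ⧸ J))) := Over.mk p.left
    let e : X ⟶ (Over.map i₀).obj X' := Over.homMk (𝟙 X.left) ((Category.id_comp _).trans (Over.w p))
    let e' : (Over.map i₀).obj X' ⟶ X := Over.homMk (𝟙 X.left) ((Category.id_comp _).trans (Over.w p).symm)
    obtain ⟨x, hxh⟩ := theta_surjective i₀ (e' ≫ h)
    have h1 := hx x
    rw [← hm, theta_map, hxh, Category.assoc, Category.assoc, Category.assoc] at h1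
    have hee : e ≫ e' = 𝟙 X := Over.OverMorphism.ext (Category.id_comp _)
    have hp : e ≫ pS X' = p := Over.OverMorphism.ext (Category.id_comp _)
    have h2 := congrArg (fun z => e ≫ z) h1
    simpa [MonObj.comp_mul, GrpObj.comp_inv, ← Category.assoc, hee, hp] using h2
  exact ⟨g, φ, hψ, hg, fun X h => (hgv X h).symm.trans (Category.assoc _ _ _).symm⟩

end General

end Groth.Agent.MultDefLib

end
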