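import Groth.Agent.GrpSchLib.AffineHopf
import Groth.Agent.RingPO.Affine

/-!
# Averaging points of an arbitrary group scheme which are constant modulo a square zero ideal

`D : Data R P Q` is a retract `Q → P → Q` of algebras with a `Q`-linear functional `L : P → Q`.
The elements of `P` congruent to elements of `Q` form a subalgebra on which, modulo `J² = 0`, `L` is
multiplicative.  A point with values in `P` which is constant modulo `J` factors uniquely through
this subalgebra, hence has an average, a point with values in `Q`.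
-/

universe u

open CategoryTheory CategoryTheory.Limits MonoidalCategory CartesianMonoidalCategory MonObj GrpObj AlgebraicGeometry

noncomputable section

namespace Groth.Agent.MultDefLib

open GrpSchLib.AffineHopf (sp spMap spMap_comp spMap_id)

variable {R : Type u} [CommRing R]

/-- The extension of an ideal of the base. -/
abbrev ext (J : Ideal R) (P : Type u) [CommRing P] [Algebra R P] : Ideal P := J.map (algebraMap R P)

/-- The reduction modulo an ideal of the base. -/
def red (J : Ideal R) (P : Type u) [CommRing P] [Algebra R P] : P →ₐ[R] P ⧸ ext J P := Ideal.Quotient.mkₐ R _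

theorem red_eq_iff {J : Ideal R} {P : Type u} [CommRing P] [Algebra R P] {x y : P} :
    red J P x = red J P y ↔ x - y ∈ ext J P := Ideal.Quotient.eq

theorem red_surjective {J : Ideal R} {P : Type u} [CommRing P] [Algebra R P] : Function.Surjective (red J P) :=
  Ideal.Quotient.mk_surjective

theorem map_mem_ext {J : Ideal R} {P Q : Type u} [CommRing P] [Algebra R P] [CommRing Q] [Algebra R Q]
    (f : P →ₗ[R] Q) {x : P} (hx : x ∈ ext J P) : f x ∈ ext J Q := by
  have h : ∀ {N : Type u} [CommRing N] [Algebra R N] (z : N),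
      z ∈ ext J N ↔ z ∈ (J • ⊤ : Submodule R N) := fun z => by
    rw [Ideal.smul_top_eq_map, Submodule.restrictScalars_mem]
  rw [h] at hx ⊢
  have : f x ∈ (J • ⊤ : Submodule R P).map f := Submodule.mem_map_of_mem hx
  rw [Submodule.map_smul''] at this
  exact Submodule.smul_mono le_rfl le_top this

theorem algHom_map_mem_ext {J : Ideal R} {P Q : Type u} [CommRing P] [Algebra R P] [CommRing Q] [Algebra R Q]
    (f : P →ₐ[R] Q) {x : P} (hx : x ∈ ext J P) : f x ∈ ext J Q := map_mem_ext f.toLinearMap hx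

/-- Reduction of an algebra map. -/
def mkMap (J : Ideal R) {P Q : Type u} [CommRing P] [Algebra R P] [CommRing Q] [Algebra R Q] (f : P →ₐ[R] Q) :
    P ⧸ ext J P →ₐ[R] Q ⧸ ext J Q :=
  Ideal.quotientMapₐ _ f fun _ hx => algHom_map_mem_ext f hx

theorem mkMap_mk (J : Ideal R) {P Q : Type u} [CommRing P] [Algebra R P] [CommRing Q] [Algebra R Q]
    (f : P →ₐ[R] Q) (x : P) : mkMap J f (red J P x) = red J Q (f x) := rfl

theorem mkMap_comp_mk (J : Ideal R) {P Q : Type u} [CommRing P] [Algebra R P] [CommRing Q] [Algebra R Q]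
    (f : P →ₐ[R] Q) : (mkMap J f).comp (red J P) = (red J Q).comp f := rfl

/-- `J² P = 0`. -/
def Sq (J : Ideal R) (P : Type u) [CommRing P] [Algebra R P] : Prop := ext (J * J) P = ⊥

theorem Sq.mul_eq_zero {J : Ideal R} {P : Type u} [CommRing P] [Algebra R P] (h : Sq J P) {x y : P}
    (hx : x ∈ ext J P) (hy : y ∈ ext J P) : x * y = 0 := by
  have : x * y ∈ ext (J * J) P := by
    rw [ext, Ideal.map_mul]; exact Ideal.mul_mem_mul hx hy
  rwa [h, Ideal.mem_bot] at this

variable {G : Over (Spec (CommRingCat.of R))}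

/-- Equality of points modulo an ideal of the base. -/
def Congr (J : Ideal R) {P : Type u} [CommRing P] [Algebra R P] (d d' : sp R P ⟶ G) : Prop :=
  spMap (red J P) ≫ d = spMap (red J P) ≫ d'

section Congr

variable {J : Ideal R} {P Q : Type u} [CommRing P] [Algebra R P] [CommRing Q] [Algebra R Q]

theorem Congr.symm {d d' : sp R P ⟶ G} (h : Congr J d d') : Congr J d' d := Eq.symm h

theorem Congr.trans {d d' d'' : sp R P ⟶ G} (h : Congr J d d') (h' : Congr J d' d'') : Congr J d d'' :=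
  Eq.trans h h'

theorem Congr.pull {d d' : sp R P ⟶ G} (h : Congr J d d') (f : P →ₐ[R] Q) :
    Congr J (spMap f ≫ d) (spMap f ≫ d') := by
  unfold Congr at h ⊢
  rw [← Category.assoc, ← Category.assoc, spMap_comp, ← mkMap_comp_mk, ← spMap_comp, Category.assoc,
    Category.assoc, h]

theorem Congr.push {d d' : sp R P ⟶ G} (h : Congr J d d') {G' : Over (Spec (CommRingCat.of R))} (v : G ⟶ G') :
    Congr J (d ≫ v) (d' ≫ v) := by
  unfold Congr at h ⊢
  rw [reassoc_of% h]

theorem Congr.mono {K : Ideal R} (hKJ : K ≤ J) {d d' : sp R P ⟶ G} (h : Congr K d d') : Congr J d d' := by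
  unfold Congr at h ⊢
  have e : (Ideal.Quotient.factorₐ R (Ideal.map_mono hKJ : ext K P ≤ ext J P)).comp (red K P) = red J P :=
    AlgHom.ext fun x => rfl
  rw [← e, ← spMap_comp, Category.assoc, h, Category.assoc]

variable [GrpObj G]

theorem Congr.mul {a a' b b' : sp R P ⟶ G} (h : Congr J a a') (h' : Congr J b b') :
    Congr J (a * b) (a' * b') := by
  unfold Congr at *
  rw [MonObj.comp_mul, MonObj.comp_mul, h, h']

theorem Congr.inv {a a' : sp R P ⟶ G} (h : Congr J a a') : Congr J a⁻¹ a'⁻¹ := by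
  unfold Congr at *
  rw [GrpObj.comp_inv, GrpObj.comp_inv, h]

end Congr

/-- A retract of algebras with a linear functional. -/
structure Data (R : Type u) [CommRing R] (P Q : Type u) [CommRing P] [Algebra R P] [CommRing Q] [Algebra R Q] where
  /-- the inclusion -/
  j : Q →ₐ[R] P
  /-- the retraction -/
  r : P →ₐ[R] Q
  /-- the functional -/
  L : P →ₗ[R] Q
  rj : ∀ q, r (j q) = q
  Lmul : ∀ q x, L (j q * x) = q * L x
  Lone : L 1 = 1

namespace Data

variable {P Q : Type u} [CommRing P] [Algebra R P] [CommRing Q] [Algebra R Q] (D : Data R P Q) (J : Ideal R)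

theorem Lj (q : Q) : D.L (D.j q) = q := by
  have := D.Lmul q 1
  rwa [_root_.mul_one, D.Lone, _root_.mul_one] at this

/-- The elements congruent to elements of `Q`. -/
def carrier : Subalgebra R P := AlgHom.equalizer (red J P) ((red J P).comp (D.j.comp D.r))

theorem mem_carrier {x : P} : x ∈ D.carrier J ↔ x - D.j (D.r x) ∈ ext J P := red_eq_iff

theorem mem_carrier_of {x : P} {q : Q} (h : x - D.j q ∈ ext J P) : x ∈ D.carrier J := by
  rw [D.mem_carrier]
  have h2 := algHom_map_mem_ext (D.j.comp D.r) h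
  rw [map_sub, AlgHom.comp_apply, AlgHom.comp_apply, D.rj] at h2
  have := (ext J P).sub_mem h h2
  rwa [sub_sub_sub_cancel_right] at this

theorem mk_L {x : P} (hx : x ∈ D.carrier J) : red J Q (D.L x) = red J Q (D.r x) := by
  rw [red_eq_iff]
  have := map_mem_ext D.L ((D.mem_carrier J).mp hx)
  rwa [map_sub, D.Lj] at this

/-- The functional is multiplicative on the carrier. -/
def ev (hP : Sq J P) (hQ : Sq J Q) : D.carrier J →ₐ[R] Q :=
  AlgHom.ofLinearMap (D.L.comp (D.carrier J).val.toLinearMap) D.Lone fun x y => by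
    obtain ⟨x, hx⟩ := x
    obtain ⟨y, hy⟩ := y
    show D.L (x * y) = D.L x * D.L y
    rw [D.mem_carrier] at hx hy
    obtain ⟨a, k, hk, rfl⟩ : ∃ a k, k ∈ ext J P ∧ x = D.j a + k := ⟨_, _, hx, by ring⟩
    obtain ⟨b, l, hl, rfl⟩ : ∃ b l, l ∈ ext J P ∧ y = D.j b + l := ⟨_, _, hy, by ring⟩
    have h1 : (D.j a + k) * (D.j b + l) = D.j (a * b) + D.j a * l + D.j b * k + k * l := by
      rw [map_mul]; ring
    have h2 := hQ.mul_eq_zero (map_mem_ext D.L hk) (map_mem_ext D.L hl)
    rw [h1, hP.mul_eq_zero hk hl]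
    simp only [add_zero, map_add, D.Lj, D.Lmul]
    linear_combination -h2

theorem isFibreProd :
    RingPO.IsFibreProd (red J P).toRingHom (mkMap J D.j).toRingHom (D.carrier J).val.toRingHom
      ((red J Q).comp (D.r.comp (D.carrier J).val)).toRingHom where
  surj := red_surjective
  comm := fun z => z.2
  ext := fun _ _ h _ => Subtype.ext h
  exists_of_eq := by
    intro b a h
    obtain ⟨b, rfl⟩ := red_surjective b
    have h' : red J P a = red J P (D.j b) := h
    refine ⟨⟨a, D.mem_carrier_of J (red_eq_iff.mp h')⟩, rfl, ?_⟩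
    show red J Q (D.r a) = red J Q b
    have := congrArg (mkMap J D.r) h'
    rwa [mkMap_mk, mkMap_mk, D.rj] at this

/-- The two legs determine each other: points of the carrier are determined by their value on `P`. -/
theorem hom_ext {k k' : sp R (D.carrier J) ⟶ G}
    (h : spMap (D.carrier J).val ≫ k = spMap (D.carrier J).val ≫ k') : k = k' := by
  have e : ((mkMap J D.r).comp ((red J P).comp (D.carrier J).val)) =
      (red J Q).comp (D.r.comp (D.carrier J).val) := rfl
  have h2 : spMap ((red J Q).comp (D.r.comp (D.carrier J).val)) ≫ k =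
      spMap ((red J Q).comp (D.r.comp (D.carrier J).val)) ≫ k' := by
    rw [← e, ← spMap_comp, ← spMap_comp, Category.assoc, Category.assoc, Category.assoc, Category.assoc, h]
  exact Over.OverMorphism.ext ((D.isFibreProd J).hom_ext (congrArg (fun z => Over.Hom.left z) h)
    (congrArg (fun z => Over.Hom.left z) h2))

/-- A point constant modulo `J`. -/
def Const (d : sp R P ⟶ G) : Prop := Congr J d (spMap (D.j.comp D.r) ≫ d)

theorem exists_desc (d : sp R P ⟶ G) (hd : D.Const J d) :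
    ∃ d' : sp R (D.carrier J) ⟶ G, spMap (D.carrier J).val ≫ d' = d := by
  let d₀ : sp R (Q ⧸ ext J Q) ⟶ G := spMap ((mkMap J D.r).comp (red J P)) ≫ d
  have hd0 : spMap (red J P) ≫ d = spMap (mkMap J D.j) ≫ d₀ := by
    refine Eq.trans hd ?_
    rw [← Category.assoc, spMap_comp, ← Category.assoc, spMap_comp]
    rfl
  obtain ⟨k, hk, -⟩ := (D.isFibreProd J).exists_desc d.left d₀.left (congrArg (fun z => Over.Hom.left z) hd0)
  have h3 : (spMap (D.carrier J).val).left ≫ k ≫ G.hom =
      (spMap (D.carrier J).val).left ≫ (sp R (D.carrier J)).hom :=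
    (Category.assoc _ _ _).symm.trans
      ((congrArg (· ≫ G.hom) hk).trans ((Over.w d).trans (Over.w (spMap (D.carrier J).val)).symm))
  have e : ((mkMap J D.r).comp ((red J P).comp (D.carrier J).val)) =
      (red J Q).comp (D.r.comp (D.carrier J).val) := rfl
  have e2 : (spMap ((red J Q).comp (D.r.comp (D.carrier J).val))).left =
      ((spMap (mkMap J D.r)).left ≫ (spMap (red J P)).left) ≫ (spMap (D.carrier J).val).left := by
    rw [← e, ← spMap_comp, ← spMap_comp, Over.comp_left, Over.comp_left, Category.assoc]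
  have hw : k ≫ G.hom = (sp R (D.carrier J)).hom :=
    (D.isFibreProd J).hom_ext h3
      (((congrArg (· ≫ k ≫ G.hom) e2).trans (Category.assoc _ _ _)).trans
        ((congrArg (_ ≫ ·) h3).trans
          ((congrArg (· ≫ (sp R (D.carrier J)).hom) e2).trans (Category.assoc _ _ _)).symm))
  exact ⟨Over.homMk k hw, Over.OverMorphism.ext hk⟩

/-- `g` is the average of `d`. -/
def Rel (d : sp R P ⟶ G) (g : sp R Q ⟶ G) : Prop :=
  ∃ (d' : sp R (D.carrier J) ⟶ G) (e : D.carrier J →ₐ[R] Q), (∀ x, e x = D.L x.1) ∧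
    spMap (D.carrier J).val ≫ d' = d ∧ spMap e ≫ d' = g

variable {D J}

theorem exists_rel (hP : Sq J P) (hQ : Sq J Q) {d : sp R P ⟶ G} (hd : D.Const J d) :
    ∃ g, D.Rel J d g := by
  obtain ⟨d', hd'⟩ := D.exists_desc J d hd
  exact ⟨_, d', D.ev J hP hQ, fun _ => rfl, hd', rfl⟩

theorem Rel.unique {d : sp R P ⟶ G} {g g' : sp R Q ⟶ G} (h : D.Rel J d g) (h' : D.Rel J d g') : g = g' := by
  obtain ⟨d₁, e₁, he₁, hd₁, rfl⟩ := h
  obtain ⟨d₂, e₂, he₂, hd₂, rfl⟩ := h'
  rw [D.hom_ext J (hd₁.trans hd₂.symm), show e₁ = e₂ from AlgHom.ext fun x => (he₁ x).trans (he₂ x).symm]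

theorem rel_j (hP : Sq J P) (hQ : Sq J Q) (q : sp R Q ⟶ G) : D.Rel J (spMap D.j ≫ q) q := by
  let j' : Q →ₐ[R] D.carrier J := D.j.codRestrict _ fun x => D.mem_carrier_of J (q := x) (by simp)
  refine ⟨spMap j' ≫ q, D.ev J hP hQ, fun _ => rfl, ?_, ?_⟩
  · rw [← Category.assoc, spMap_comp]
    rfl
  · rw [← Category.assoc, spMap_comp, show (D.ev J hP hQ).comp j' = AlgHom.id R Q from
      AlgHom.ext fun x => D.Lj x, spMap_id, Category.id_comp]

/-- The average is congruent to the constant value. -/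
theorem Rel.congr {d : sp R P ⟶ G} {g : sp R Q ⟶ G} (h : D.Rel J d g) : Congr J g (spMap D.r ≫ d) := by
  obtain ⟨d', e, he, rfl, rfl⟩ := h
  have h2 : (red J Q).comp e = (red J Q).comp (D.r.comp (D.carrier J).val) := AlgHom.ext fun x => by
    show red J Q (e x) = red J Q (D.r x.1)
    rw [he]
    exact D.mk_L J x.2
  unfold Congr
  rw [← Category.assoc, spMap_comp, h2, ← Category.assoc, ← Category.assoc, spMap_comp, spMap_comp]
  rfl

theorem Rel.push {d : sp R P ⟶ G} {g : sp R Q ⟶ G} (h : D.Rel J d g) {G' : Over (Spec (CommRingCat.of R))}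
    (v : G ⟶ G') : D.Rel J (d ≫ v) (g ≫ v) := by
  obtain ⟨d', e, he, rfl, rfl⟩ := h
  exact ⟨d' ≫ v, e, he, (Category.assoc _ _ _).symm, (Category.assoc _ _ _).symm⟩

/-- Functoriality of averages. -/
theorem Rel.map {P₂ Q₂ : Type u} [CommRing P₂] [Algebra R P₂] [CommRing Q₂] [Algebra R Q₂]
    (D₂ : Data R P₂ Q₂) (hP₂ : Sq J P₂) (hQ₂ : Sq J Q₂) {d : sp R P ⟶ G} {g : sp R Q ⟶ G}
    (h : D.Rel J d g) (f : P →ₐ[R] P₂) (f' : Q →ₐ[R] Q₂) (hj : ∀ q, f (D.j q) = D₂.j (f' q))
    (hL : ∀ x, D₂.L (f x) = f' (D.L x)) : D₂.Rel J (spMap f ≫ d) (spMap f' ≫ g) := by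
  obtain ⟨d', e, he, rfl, rfl⟩ := h
  let fc : D.carrier J →ₐ[R] D₂.carrier J := (f.comp (D.carrier J).val).codRestrict _ fun x =>
    D₂.mem_carrier_of J (q := f' (D.r x.1)) (by
      have := algHom_map_mem_ext f ((D.mem_carrier J).mp x.2)
      rw [map_sub, hj] at this
      exact this)
  refine ⟨spMap fc ≫ d', D₂.ev J hP₂ hQ₂, fun _ => rfl, ?_, ?_⟩
  · rw [← Category.assoc, spMap_comp, ← Category.assoc, spMap_comp]
    rfl
  · rw [← Category.assoc, spMap_comp, ← Category.assoc, spMap_comp]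
    exact congrArg (fun z => spMap z ≫ d') (AlgHom.ext fun x => (hL x.1).trans (congrArg f' (he x).symm))

variable [GrpObj G]

theorem Rel.mul {d d₁ : sp R P ⟶ G} {g g₁ : sp R Q ⟶ G} (h : D.Rel J d g) (h₁ : D.Rel J d₁ g₁) :
    D.Rel J (d * d₁) (g * g₁) := by
  obtain ⟨a, e, he, rfl, rfl⟩ := h
  obtain ⟨b, e', he', rfl, rfl⟩ := h₁
  refine ⟨a * b, e, he, MonObj.comp_mul _ _ _, ?_⟩
  rw [MonObj.comp_mul, show e' = e from AlgHom.ext fun x => (he' x).trans (he x).symm]

theorem Rel.inv {d : sp R P ⟶ G} {g : sp R Q ⟶ G} (h : D.Rel J d g) : D.Rel J d⁻¹ g⁻¹ := by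
  obtain ⟨a, e, he, rfl, rfl⟩ := h
  exact ⟨a⁻¹, e, he, GrpObj.comp_inv _ _, GrpObj.comp_inv _ _⟩

/-- A point congruent to the unit is constant. -/
theorem const_of_congr_one {d : sp R P ⟶ G} (hd : Congr J d 1) : D.Const J d := by
  refine hd.trans (Congr.symm ?_)
  have := hd.pull (D.j.comp D.r)
  rwa [MonObj.comp_one] at this

end Data

/-- Reduction of a retract modulo an ideal of the base. -/
def Data.quot {P Q : Type u} [CommRing P] [Algebra R P] [CommRing Q] [Algebra R Q] (D : Data R P Q) (K : Ideal R) :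
    Data R (P ⧸ ext K P) (Q ⧸ ext K Q) where
  j := mkMap K D.j
  r := mkMap K D.r
  L := Submodule.liftQ ((ext K P).restrictScalars R) ((red K Q).toLinearMap ∘ₗ D.L) (fun x hx => by
      show red K Q (D.L x) = 0
      exact Ideal.Quotient.eq_zero_iff_mem.mpr (map_mem_ext D.L hx)) ∘ₗ
    (Submodule.Quotient.restrictScalarsEquiv R (ext K P)).symm.toLinearMap
  rj q := by
    obtain ⟨q, rfl⟩ := red_surjective q
    rw [mkMap_mk, mkMap_mk, D.rj]
  Lmul q x := by
    obtain ⟨q, rfl⟩ := red_surjective q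
    obtain ⟨x, rfl⟩ := red_surjective x
    rw [mkMap_mk, ← map_mul]
    show red K Q (D.L (D.j q * x)) = red K Q q * red K Q (D.L x)
    rw [D.Lmul, map_mul]
  Lone := by
    rw [← map_one (red K P)]
    show red K Q (D.L 1) = 1
    rw [D.Lone, map_one]

theorem sq_quot {J K : Ideal R} (h : J * J ≤ K) (P : Type u) [CommRing P] [Algebra R P] :
    Sq J (P ⧸ ext K P) := by
  rw [Sq, ext, Ideal.map_eq_bot_iff_le_ker]
  intro x hx
  rw [RingHom.mem_ker]
  exact Ideal.Quotient.eq_zero_iff_mem.mpr (Ideal.mem_map_of_mem _ (h hx))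

theorem Congr.of_quot {J K : Ideal R} (hKJ : K ≤ J) {P : Type u} [CommRing P] [Algebra R P]
    {d d' : sp R P ⟶ G} (h : Congr J (spMap (red K P) ≫ d) (spMap (red K P) ≫ d')) : Congr J d d' := by
  let π : P ⧸ ext K P →ₐ[R] P ⧸ ext J P := Ideal.Quotient.factorₐ R (Ideal.map_mono hKJ)
  have hker : ∀ x ∈ ext J (P ⧸ ext K P), π x = 0 := by
    intro x hx
    have h2 := algHom_map_mem_ext π hx
    rw [show ext J (P ⧸ ext J P) = ⊥ from (Ideal.map_eq_bot_iff_le_ker _).mpr fun r hr =>
      Ideal.Quotient.eq_zero_iff_mem.mpr (Ideal.mem_map_of_mem _ hr), Ideal.mem_bot] at h2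
    exact h2
  let ρ : (P ⧸ ext K P) ⧸ ext J (P ⧸ ext K P) →ₐ[R] P ⧸ ext J P := Ideal.Quotient.liftₐ _ π hker
  have hρ : (ρ.comp (red J (P ⧸ ext K P))).comp (red K P) = red J P := AlgHom.ext fun x => rfl
  unfold Congr at h ⊢
  rw [← hρ, ← spMap_comp, ← spMap_comp, Category.assoc, Category.assoc, Category.assoc, Category.assoc, h]

/-- The inverse of the reduction modulo the zero ideal. -/
def unredBot (P : Type u) [CommRing P] [Algebra R P] : P ⧸ ext (⊥ : Ideal R) P →ₐ[R] P :=
  Ideal.Quotient.liftₐ _ (AlgHom.id R P) fun x hx => by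
    rw [ext, Ideal.map_bot, Ideal.mem_bot] at hx
    exact hx

theorem unredBot_comp (P : Type u) [CommRing P] [Algebra R P] :
    (unredBot P).comp (red (⊥ : Ideal R) P) = AlgHom.id R P := rfl

/-- Functoriality of averages in the reductions. -/
theorem Data.Rel.mapQuot {P Q P₂ Q₂ : Type u} [CommRing P] [Algebra R P] [CommRing Q] [Algebra R Q]
    [CommRing P₂] [Algebra R P₂] [CommRing Q₂] [Algebra R Q₂] {D : Data R P Q} (D₂ : Data R P₂ Q₂) {J K : Ideal R}
    (hJ : J * J ≤ K) {d : sp R (P ⧸ ext K P) ⟶ G} {g : sp R (Q ⧸ ext K Q) ⟶ G} (h : (D.quot K).Rel J d g)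
    (f : P →ₐ[R] P₂) (f' : Q →ₐ[R] Q₂) (hj : ∀ q, f (D.j q) = D₂.j (f' q)) (hL : ∀ x, D₂.L (f x) = f' (D.L x)) :
    (D₂.quot K).Rel J (spMap (mkMap K f) ≫ d) (spMap (mkMap K f') ≫ g) := by
  refine h.map (D₂.quot K) (sq_quot hJ P₂) (sq_quot hJ Q₂) _ _ (fun q => ?_) fun x => ?_
  · obtain ⟨q, rfl⟩ := red_surjective q
    show red K P₂ (f (D.j q)) = red K P₂ (D₂.j (f' q))
    rw [hj]
  · obtain ⟨x, rfl⟩ := red_surjective x
    show red K Q₂ (D₂.L (f x)) = red K Q₂ (f' (D.L x))
    rw [hL]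

end Groth.Agent.MultDefLib

end
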