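import Groth.Agent.MultDefLib.SubgroupTransp
import Groth.Agent.GrpSchLib.HomUnitLocus
import Groth.Agent.GrpSchLib.MultTypeComm

/-!
# The centraliser is open and closed in the normaliser
-/

universe u

open CategoryTheory CategoryTheory.Limits MonoidalCategory CartesianMonoidalCategory MonObj GrpObj AlgebraicGeometry

set_option backward.isDefEq.respectTransparency false
set_option linter.style.haveILetI false

noncomputable section

namespace Groth.Agent.MultDefLib

open DSPtsLib (theta theta_left theta_comp theta_mul theta_bijective)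
open GrpSchLib.HomUnitLocus (Triv)

variable {S : Scheme.{u}} {H G Z N : Over S} [GrpObj H] [GrpObj G]

/-- An object over `N` maps to it. -/
abbrev pN (X : Over N.left) : (Over.map N.hom).obj X ⟶ N := Over.homMk X.hom rfl

set_option synthInstance.maxHeartbeats 100000 in
set_option maxHeartbeats 1000000 in
theorem exists_clopen_centralizer (hH : SGA3x.IsMultTypeFT H) (i : H ⟶ G) [IsMonHom i] [Mono i]
    (j : Z ⟶ G) (k : N ⟶ G) [Mono j] [Mono k]
    (hj : ∀ (X : Over S) (g : X ⟶ G), (∃ z : X ⟶ Z, z ≫ j = g) ↔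
      ∀ (X' : Over S) (x : X' ⟶ X) (h : X' ⟶ H), (x ≫ g) * (h ≫ i) = (h ≫ i) * (x ≫ g))
    (hk : ∀ (X : Over S) (g : X ⟶ G), (∃ z : X ⟶ N, z ≫ k = g) ↔
      ∀ (X' : Over S) (x : X' ⟶ X) (h : X' ⟶ H),
        (∃ h' : X' ⟶ H, (x ≫ g) * (h ≫ i) * (x ≫ g)⁻¹ = h' ≫ i) ∧
        (∃ h' : X' ⟶ H, (x ≫ g)⁻¹ * (h ≫ i) * (x ≫ g) = h' ≫ i)) :
    ∃ f : Z ⟶ N, f ≫ k = j ∧ IsOpenImmersion f.left ∧ IsClosedImmersion f.left := by
  -- conjugation
  obtain ⟨w, hw⟩ := ((hk N k).mp ⟨𝟙 N, Category.id_comp k⟩ (H ⊗ N) (snd H N) (fst H N)).1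
  have hw' : ∀ (X : Over S) (h : X ⟶ H) (n : X ⟶ N),
      (n ≫ k) * (h ≫ i) * (n ≫ k)⁻¹ = (lift h n ≫ w) ≫ i := fun X h n => by
    have := congrArg (fun m => lift h n ≫ m) hw
    simpa [MonObj.comp_mul, GrpObj.comp_inv] using this
  obtain ⟨ψ, hψ⟩ := theta_surjective (N.hom) (lift (theta (N.hom) (𝟙 (Red.bc (N.hom) H))) (pN (Red.bc (N.hom) H)) ≫ w)
  let u : Red.bc (N.hom) H ⟶ Red.bc (N.hom) H := ψ * (𝟙 _)⁻¹
  have hu : ∀ {X : Over N.left} (x : X ⟶ Red.bc (N.hom) H),
      theta (N.hom) (x ≫ u) = (lift (theta (N.hom) x) (pN X) ≫ w) * (theta (N.hom) x)⁻¹ := fun {X} x => by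
    have hp : (Over.map (N.hom)).map x ≫ pN (Red.bc (N.hom) H) = pN X := Over.OverMorphism.ext (Over.w x)
    rw [MonObj.comp_mul, GrpObj.comp_inv, Category.comp_id, theta_mul, theta_inv]
    congr 1
    rw [theta_comp, hψ, comp_lift_assoc, hp, ← theta_comp, Category.comp_id]
  have hc : ∀ {X : Over S} (p q : X ⟶ H), Commute p q := fun p q => GrpSchLib.MultTypeComm.points_comm hH p q
  haveI : IsMonHom u := isMonHom_of_mul u fun X x y => (theta_bijective (N.hom)).1 ((cancel_mono i).mp (by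
    have hxy : (lift (theta (N.hom) x * theta (N.hom) y) (pN X) ≫ w) = (lift (theta (N.hom) x) (pN X) ≫ w) * (lift (theta (N.hom) y) (pN X) ≫ w) := by
      rw [← cancel_mono i, MonObj.mul_comp, ← hw', ← hw', ← hw', MonObj.mul_comp]
      group
    rw [hu, theta_mul, theta_mul, hu, hu, hxy, _root_.mul_inv_rev]
    congr 1
    calc _ = (lift (theta (N.hom) x) (pN X) ≫ w) * ((lift (theta (N.hom) y) (pN X) ≫ w) * (theta (N.hom) y)⁻¹) * (theta (N.hom) x)⁻¹ := by group
      _ = _ := by rw [_root_.mul_assoc, (hc ((lift (theta (N.hom) y) (pN X) ≫ w) * (theta (N.hom) y)⁻¹) _).eq, ← _root_.mul_assoc]))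
  -- points of the centraliser
  have hpt : ∀ {P : Over S} (y : P ⟶ N), (∃ z : P ⟶ Z, z ≫ j = y ≫ k) ↔ Triv u y.left := fun {P} y => by
    constructor
    · rintro ⟨z, hz⟩ Y q x
      apply (theta_bijective (N.hom)).1
      rw [hu, theta_one, mul_inv_eq_one, ← cancel_mono i, ← hw']
      let r : (Over.map (N.hom)).obj Y ⟶ P := Over.homMk q.left (by
        show q.left ≫ P.hom = Y.hom ≫ N.hom
        rw [← Over.w y, ← Category.assoc]
        exact congrArg (· ≫ N.hom) (Over.w q))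
      have hr : r ≫ y = pN Y := Over.OverMorphism.ext (Over.w q)
      have h1 := (hj P (y ≫ k)).mp ⟨z, hz⟩ _ r (theta (N.hom) x)
      rw [← Category.assoc, hr] at h1
      rw [h1, mul_inv_cancel_right]
    · intro ht
      refine (hj P (y ≫ k)).mpr fun X' x h => ?_
      let Y : Over N.left := Over.mk (x ≫ y).left
      let e : X' ⟶ (Over.map (N.hom)).obj Y := Over.homMk (𝟙 X'.left) ((Category.id_comp _).trans (Over.w (x ≫ y)))
      let e' : (Over.map (N.hom)).obj Y ⟶ X' := Over.homMk (𝟙 X'.left) ((Category.id_comp _).trans (Over.w (x ≫ y)).symm)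
      obtain ⟨h', hh'⟩ := theta_surjective (N.hom) (e' ≫ h)
      have h1 := congrArg (theta (N.hom)) (ht Y (Over.homMk x.left rfl) h')
      rw [hu, theta_one, mul_inv_eq_one, hh', ← cancel_mono i, ← hw'] at h1
      have hee : e ≫ e' = 𝟙 X' := Over.OverMorphism.ext (Category.id_comp _)
      have hp : e ≫ pN Y = x ≫ y := Over.OverMorphism.ext (Category.id_comp _)
      have h2 := congrArg (fun m => e ≫ m) h1
      simp only [MonObj.comp_mul, GrpObj.comp_inv, ← Category.assoc, hee, hp, Category.id_comp] at h2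
      rw [← Category.assoc]
      exact mul_inv_eq_iff_eq_mul.mp h2
  -- the clopen locus
  have hHb : SGA3x.IsMultTypeFT (Red.bc (N.hom) H) := GrpSchLib.MultTypeBC.isMultTypeFT_bc (N.hom) hH
  obtain ⟨haff, -⟩ := TransLib.multTypeFT_essFree hHb
  haveI := haff
  obtain ⟨U, hUc, hUmem, hUtriv⟩ := GrpSchLib.HomUnitLocus.main (u := u) hHb (Or.inr (GrpSchLib.MultTypeLft.lft hHb))
  obtain ⟨f, hf⟩ := (hk Z j).mpr fun X' x h => by
    have hc' := (hj Z j).mp ⟨𝟙 Z, Category.id_comp j⟩ X' x h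
    refine ⟨⟨h, by rw [hc', mul_inv_cancel_right]⟩, ⟨h, ?_⟩⟩
    rw [_root_.mul_assoc, ← hc', inv_mul_cancel_left]
  haveI : Mono f := by
    haveI : Mono (f ≫ k) := by rw [hf]; infer_instance
    exact mono_of_mono f k
  have hrange : Set.range f.left ⊆ Set.range U.ι := by
    rintro _ ⟨p, rfl⟩
    rw [Scheme.Opens.range_ι, SetLike.mem_coe, hUmem]
    have ht : Triv u (Z.left.fromSpecResidueField p ≫ f.left) := ((hpt f).mp ⟨𝟙 Z, (Category.id_comp j).trans hf.symm⟩).comp _
    have := (GrpSchLib.HomUnitLocus.triv_iff_of_field (u := u) _).mp ht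
    erw [Scheme.Hom.comp_apply, Scheme.fromSpecResidueField_apply] at this
    exact this
  let U' : Over S := Over.mk (U.ι ≫ N.hom)
  let ιU : U' ⟶ N := Over.homMk U.ι rfl
  obtain ⟨z, hz⟩ := (hpt ιU).mpr hUtriv
  have hzf : z ≫ f = ιU := by rw [← cancel_mono k, Category.assoc, hf, hz]
  let e : Z ⟶ U' := Over.homMk (IsOpenImmersion.lift U.ι f.left hrange) (by
    show _ ≫ U.ι ≫ N.hom = Z.hom
    rw [IsOpenImmersion.lift_fac_assoc, Over.w f])
  have hef : e ≫ ιU = f := Over.OverMorphism.ext (IsOpenImmersion.lift_fac _ _ _)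
  have hez : e ≫ z = 𝟙 Z := by rw [← cancel_mono f, Category.assoc, hzf, hef, Category.id_comp]
  have hze : z ≫ e = 𝟙 U' := by
    refine Over.OverMorphism.ext ((cancel_mono U.ι).mp ?_)
    show (z.left ≫ e.left) ≫ ιU.left = 𝟙 _ ≫ U.ι
    rw [Category.assoc, show e.left ≫ ιU.left = f.left from congrArg (fun m => Over.Hom.left m) hef, Category.id_comp,
      show z.left ≫ f.left = ιU.left from congrArg (fun m => Over.Hom.left m) hzf]
    rfl
  haveI : IsIso e := ⟨z, hez, hze⟩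
  haveI : IsIso e.left := inferInstanceAs (IsIso ((Over.forget _).map e))
  have hfl : f.left = e.left ≫ U.ι := (IsOpenImmersion.lift_fac _ _ _).symm
  haveI : IsClosedImmersion U.ι := IsClosedImmersion.of_isPreimmersion U.ι (by rwa [Scheme.Opens.range_ι])
  refine ⟨f, hf, ?_, ?_⟩ <;> rw [hfl] <;> infer_instance

end Groth.Agent.MultDefLib

end
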