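import Groth.Agent.MultDefLib.SplitHom
import Mathlib.RingTheory.Etale.Pi
import Mathlib.AlgebraicGeometry.Morphisms.Etale
import Mathlib.AlgebraicGeometry.Morphisms.Finite

/-!
# Homomorphisms between finite diagonalisable groups over an affine base form a finite constant scheme
-/

universe u

open CategoryTheory CategoryTheory.Limits MonoidalCategory CartesianMonoidalCategory AlgebraicGeometry
open TensorProduct Coalgebra WithConv

set_option backward.isDefEq.respectTransparency false
set_option linter.style.haveILetI false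

noncomputable section

namespace Groth.Agent.MultDefLib.SplitHom

open GrpSchLib.AffineHopf (sp spMap)
open Weights (IsFam push coef)

variable {R : Type u} [CommRing R] {Γ₁ Γ₂ : Type} [CommGroup Γ₁] [CommGroup Γ₂]

/-- The family of a homomorphism of character groups. -/
def constFam (φ : Γ₂ →* Γ₁) : MonoidAlgebra R Γ₂ →ₐ[R] MonoidAlgebra R Γ₁ :=
  MonoidAlgebra.mapDomainAlgHom R R φ

theorem isFam_constFam (φ : Γ₂ →* Γ₁) : IsFam (constFam (R := R) φ) := by
  refine ⟨MonoidAlgebra.algHom_ext (fun n => ?_) (Subsingleton.elim _ _),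
    MonoidAlgebra.algHom_ext (fun n => ?_) (Subsingleton.elim _ _)⟩
  · simp [constFam]
  · simp [constFam, Weights.dup_single, Weights.merge_single]

/-- The universal family on the constant scheme of homomorphisms of character groups. -/
def homFam (f : MonoidAlgebra R Γ₂ →ₐ[R] MonoidAlgebra ((Γ₂ →* Γ₁) → R) Γ₁) : Prop :=
  ∀ φ : Γ₂ →* Γ₁, push (Pi.evalAlgHom R (fun _ => R) φ) f = constFam φ

theorem joint_ext {B : Type u} [CommRing B] [Algebra R B] {κ : Type} {Δ : Type} [CommGroup Δ]
    {x y : MonoidAlgebra (κ → B) Δ}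
    (h : ∀ i, MonoidAlgebra.mapAlgHom Δ (Pi.evalAlgHom R (fun _ => B) i) x =
      MonoidAlgebra.mapAlgHom Δ (Pi.evalAlgHom R (fun _ => B) i) y) : x = y := by
  refine MonoidAlgebra.ext (Finsupp.ext fun g => funext fun i => ?_)
  have h1 := congrArg (fun z => z.coeff g) (h i)
  simpa [Weights.coeff_map] using h1

theorem exists_homFam [Finite Γ₁] [Finite Γ₂] :
    ∃ f : MonoidAlgebra R Γ₂ →ₐ[R] MonoidAlgebra ((Γ₂ →* Γ₁) → R) Γ₁, IsFam f ∧ homFam f := by
  classical
  cases nonempty_fintype Γ₁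
  let x : Γ₂ → MonoidAlgebra ((Γ₂ →* Γ₁) → R) Γ₁ := fun n =>
    ∑ m : Γ₁, MonoidAlgebra.single m (fun φ => if φ n = m then 1 else 0)
  have hx : ∀ (φ : Γ₂ →* Γ₁) n, MonoidAlgebra.mapAlgHom Γ₁ (Pi.evalAlgHom R (fun _ => R) φ) (x n) =
      MonoidAlgebra.single (φ n) 1 := by
    intro φ n
    rw [map_sum, Finset.sum_eq_single (φ n)]
    · simp
    · intro m _ hm
      simp [Ne.symm hm]
    · simp
  let f : MonoidAlgebra R Γ₂ →ₐ[R] MonoidAlgebra ((Γ₂ →* Γ₁) → R) Γ₁ :=
    MonoidAlgebra.lift R _ Γ₂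
      { toFun := x
        map_one' := joint_ext (R := R) fun φ => by rw [hx, map_one, map_one]; rfl
        map_mul' := fun a b => joint_ext (R := R) fun φ => by
          rw [map_mul, hx, hx, hx, map_mul, MonoidAlgebra.single_mul_single, one_mul] }
  have hf : homFam f := fun φ => MonoidAlgebra.algHom_ext (fun n => by
    simp only [AlgHom.comp_apply, f, MonoidAlgebra.lift_single, one_smul, MonoidHom.coe_mk, OneHom.coe_mk, hx]
    simp [constFam]) (Subsingleton.elim _ _)
  refine ⟨f, ⟨AlgHom.ext fun a => funext fun φ => ?_, AlgHom.ext fun a => joint_ext (R := R) fun φ => ?_⟩, hf⟩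
  · have h1 := AlgHom.congr_fun (isFam_constFam (R := R) φ).aug a
    rw [← hf φ, AlgHom.comp_apply, AlgHom.comp_apply, ← AlgHom.comp_apply (Weights.aug R R Γ₁),
      Weights.aug_natural, AlgHom.comp_apply] at h1
    exact h1
  · have h1 := AlgHom.congr_fun (isFam_constFam (R := R) φ).dup a
    rw [← hf φ, AlgHom.comp_apply, AlgHom.comp_apply, ← AlgHom.comp_apply (Weights.dup R R Γ₁),
      Weights.dup_natural, AlgHom.comp_apply, Algebra.TensorProduct.map_comp] at h1
    refine h1.trans ?_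
    rw [AlgHom.comp_apply, AlgHom.comp_apply, AlgHom.comp_apply, AlgHom.comp_apply, AlgHom.comp_apply,
      ← AlgHom.comp_apply (Weights.merge R R Γ₁), Weights.merge_natural, AlgHom.comp_apply]

section Universal

variable [Fintype Γ₁] [Fintype Γ₂] {C : Type u} [CommRing C] [Algebra R C]
  {f : MonoidAlgebra R Γ₂ →ₐ[R] MonoidAlgebra C Γ₁} (hf : IsFam f)

/-- A coefficient of a family at a character. -/
abbrev ev (f : MonoidAlgebra R Γ₂ →ₐ[R] MonoidAlgebra C Γ₁) (n : Γ₂) (m : Γ₁) : C :=
  (f (MonoidAlgebra.single n 1)).coeff m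

omit [Fintype Γ₁] [Fintype Γ₂] in
include hf in
theorem coeff_orth [DecidableEq Γ₁] (n : Γ₂) (a b : Γ₁) :
    ev f n a * ev f n b = if a = b then ev f n a else 0 := by
  have h := congrArg (fun c : WithConv (MonoidAlgebra R Γ₂ →ₗ[R] C) => c.ofConv (MonoidAlgebra.single n 1))
    (hf.coef_mul a b)
  rw [LinearMap.convMul_apply, apply_ite (fun c : WithConv (MonoidAlgebra R Γ₂ →ₗ[R] C) =>
    c.ofConv (MonoidAlgebra.single n (1 : R)))] at h
  simpa [Weights.coef_apply] using h

theorem aug_eq_sum (x : MonoidAlgebra C Γ₁) : Weights.aug R C Γ₁ x = ∑ m, x.coeff m := by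
  classical
  induction x using MonoidAlgebra.induction_linear with
  | zero => simp
  | add a b ha hb => simp [map_add, ha, hb, Finset.sum_add_distrib]
  | single g c => simp [Finsupp.single_apply]

omit [Fintype Γ₂] in
include hf in
theorem coeff_sum (n : Γ₂) : ∑ m, ev f n m = 1 := by
  rw [← aug_eq_sum (R := R), ← AlgHom.comp_apply, hf.aug]
  simp

omit [Fintype Γ₁] [Fintype Γ₂] in
include hf in
theorem coeff_triple [DecidableEq Γ₁] (n n' : Γ₂) (a b c : Γ₁) :
    ev f n a * ev f n' b * ev f (n * n') c = if a * b = c then ev f n a * ev f n' b else 0 := by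
  let s := ev f n a
  let t := ev f n' b
  have hs : ∀ (n : Γ₂) (a : Γ₁), algebraMap C (MonoidAlgebra C Γ₁) (ev f n a) * f (MonoidAlgebra.single n 1) =
      MonoidAlgebra.single a (ev f n a) := by
    intro n a
    refine MonoidAlgebra.ext (Finsupp.ext fun g => ?_)
    rw [← Algebra.smul_def, MonoidAlgebra.coeff_smul, Finsupp.smul_apply, smul_eq_mul]
    rw [coeff_orth hf n a g, MonoidAlgebra.coeff_single, Finsupp.single_apply]
  have h1 : algebraMap C (MonoidAlgebra C Γ₁) (s * t) * f (MonoidAlgebra.single (n * n') 1) =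
      MonoidAlgebra.single (a * b) (s * t) := by
    rw [show MonoidAlgebra.single (n * n') (1 : R) = MonoidAlgebra.single n 1 * MonoidAlgebra.single n' 1 by
      rw [MonoidAlgebra.single_mul_single, one_mul], map_mul, map_mul, mul_mul_mul_comm, hs n a, hs n' b,
      MonoidAlgebra.single_mul_single]
  have h2 := congrArg (fun x => x.coeff c) h1
  rw [← Algebra.smul_def, MonoidAlgebra.coeff_smul, Finsupp.smul_apply, smul_eq_mul,
    MonoidAlgebra.coeff_single, Finsupp.single_apply] at h2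
  exact h2

include hf in
theorem exists_unique_homPoint (fu : MonoidAlgebra R Γ₂ →ₐ[R] MonoidAlgebra ((Γ₂ →* Γ₁) → R) Γ₁) (hu : homFam fu) :
    ∃! ψ : ((Γ₂ →* Γ₁) → R) →ₐ[R] C, push ψ fu = f := by
  classical
  have : Finite (Γ₂ →* Γ₁) := Finite.of_injective (fun φ : Γ₂ →* Γ₁ => (φ : Γ₂ → Γ₁)) DFunLike.coe_injective
  cases nonempty_fintype (Γ₂ →* Γ₁)
  let E : (Γ₂ → Γ₁) → C := fun g => ∏ n, ev f n (g n)
  have hEsum : ∑ g, E g = 1 := by
    rw [← Fintype.prod_sum]
    exact Finset.prod_eq_one fun n _ => coeff_sum hf n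
  have hmulE : ∀ (n : Γ₂) (m : Γ₁) (g : Γ₂ → Γ₁), ev f n m * E g = if g n = m then E g else 0 := by
    intro n m g
    rw [show E g = ev f n (g n) * ∏ k ∈ Finset.univ.erase n, ev f k (g k) from
      (Finset.mul_prod_erase Finset.univ (fun k => ev f k (g k)) (Finset.mem_univ n)).symm, ← mul_assoc,
      coeff_orth hf n m (g n)]
    by_cases h : g n = m
    · subst h; simp
    · simp [h, Ne.symm h]
  have horth : ∀ g g', E g * E g' = if g = g' then E g else 0 := by
    intro g g'
    rw [← Finset.prod_mul_distrib]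
    by_cases h : g = g'
    · subst h
      rw [if_pos rfl]
      exact Finset.prod_congr rfl fun n _ => by rw [coeff_orth hf, if_pos rfl]
    · obtain ⟨n, hn⟩ := Function.ne_iff.1 h
      rw [if_neg h]
      exact Finset.prod_eq_zero (Finset.mem_univ n) (by rw [coeff_orth hf, if_neg hn])
  have hvan : ∀ g : Γ₂ → Γ₁, (¬ ∀ n n', g (n * n') = g n * g n') → E g = 0 := by
    intro g hg
    push Not at hg
    obtain ⟨n, n', h⟩ := hg
    have h3 := congrArg (· * E g) (coeff_triple hf n n' (g n) (g n') (g (n * n')))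
    rw [if_neg (Ne.symm h), zero_mul, mul_assoc, mul_assoc, hmulE, if_pos rfl, hmulE, if_pos rfl, hmulE,
      if_pos rfl] at h3
    exact h3
  let ε : (Γ₂ →* Γ₁) → C := fun φ => E φ
  have hsum : ∑ φ, ε φ = 1 := by
    rw [← hEsum, ← Finset.sum_image (f := E) (g := fun φ : Γ₂ →* Γ₁ => (φ : Γ₂ → Γ₁))
      fun a _ b _ h => DFunLike.coe_injective h]
    refine Finset.sum_subset (Finset.subset_univ _) fun g _ hg => hvan g fun h => hg ?_
    exact Finset.mem_image.2 ⟨MonoidHom.mk' g h, Finset.mem_univ _, rfl⟩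
  have hεorth : ∀ φ φ', ε φ * ε φ' = if φ = φ' then ε φ else 0 := fun φ φ' => by
    rw [horth]
    by_cases h : φ = φ'
    · simp [h, ε]
    · rw [if_neg h, if_neg fun e => h (DFunLike.coe_injective e)]
  let ψ : ((Γ₂ →* Γ₁) → R) →ₐ[R] C :=
    AlgHom.ofLinearMap
      { toFun := fun x => ∑ φ, x φ • ε φ
        map_add' := fun x y => by simp [add_smul, Finset.sum_add_distrib]
        map_smul' := fun r x => by simp [Finset.smul_sum, mul_smul] }
      (by simpa using hsum)
      fun x y => by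
        simp only [LinearMap.coe_mk, AddHom.coe_mk, Pi.mul_apply, Finset.sum_mul, Finset.mul_sum]
        refine Finset.sum_congr rfl fun φ _ => ?_
        rw [Finset.sum_eq_single φ]
        · rw [smul_mul_smul_comm, hεorth, if_pos rfl]
        · intro b _ hb
          rw [smul_mul_smul_comm, hεorth, if_neg hb, smul_zero]
        · simp
  have hu' : ∀ (n : Γ₂) (m : Γ₁) (φ : Γ₂ →* Γ₁),
      (fu (MonoidAlgebra.single n 1)).coeff m φ = if φ n = m then 1 else 0 := by
    intro n m φ
    have h := congrArg (fun x => x.coeff m) (AlgHom.congr_fun (hu φ) (MonoidAlgebra.single n 1))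
    simpa [constFam, Weights.coeff_map, Finsupp.single_apply] using h
  refine ⟨ψ, MonoidAlgebra.algHom_ext (fun n => MonoidAlgebra.ext (Finsupp.ext fun m => ?_))
    (Subsingleton.elim _ _), fun ψ' h' => ?_⟩
  · rw [AlgHom.comp_apply, Weights.coeff_map]
    show ∑ φ, (fu (MonoidAlgebra.single n 1)).coeff m φ • ε φ = ev f n m
    conv_rhs => rw [← mul_one (ev f n m), ← hsum, Finset.mul_sum]
    refine Finset.sum_congr rfl fun φ _ => ?_
    rw [hu', hmulE n m φ]
    split_ifs <;> simp [ε]
  · have hδ : ∀ φ, ψ' (Pi.single φ 1) = ε φ := by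
      intro φ
      have e1 : (Pi.single φ 1 : (Γ₂ →* Γ₁) → R) = ∏ n, (fu (MonoidAlgebra.single n 1)).coeff (φ n) := by
        funext φ'
        simp only [Finset.prod_apply, hu']
        by_cases h : φ' = φ
        · subst h; simp
        · obtain ⟨n, hn⟩ := DFunLike.ne_iff.1 h
          rw [Pi.single_eq_of_ne h]
          exact (Finset.prod_eq_zero (Finset.mem_univ n) (if_neg hn)).symm
      rw [e1, map_prod]
      refine Finset.prod_congr rfl fun n _ => ?_
      subst h'
      show _ = (push ψ' fu (MonoidAlgebra.single n 1)).coeff (φ n)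
      rw [AlgHom.comp_apply, Weights.coeff_map]
    refine AlgHom.ext fun x => ?_
    conv_lhs => rw [← Finset.univ_sum_single x]
    rw [map_sum]
    refine Finset.sum_congr rfl fun φ _ => ?_
    rw [show Pi.single φ (x φ) = x φ • (Pi.single φ 1 : (Γ₂ →* Γ₁) → R) by rw [← Pi.single_smul, smul_eq_mul, mul_one],
      map_smul, hδ]

end Universal

variable (R Γ₁ Γ₂) in
/-- The homomorphisms between finite diagonalisable groups. -/
theorem exists_representsHom_DD [Finite Γ₁] [Finite Γ₂] :
    ∃ (U : Over (Spec (CommRingCat.of R))) (υ : DR R Γ₁ ⊗ U ⟶ sp R (MonoidAlgebra R Γ₂)),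
      AutFam.RepresentsHom (DR R Γ₁) (sp R (MonoidAlgebra R Γ₂)) U υ ∧ IsFinite U.hom ∧ Etale U.hom := by
  cases nonempty_fintype Γ₁
  cases nonempty_fintype Γ₂
  have : Finite (Γ₂ →* Γ₁) := Finite.of_injective (fun φ : Γ₂ →* Γ₁ => (φ : Γ₂ → Γ₁)) DFunLike.coe_injective
  obtain ⟨fu, hfu, hu⟩ := exists_homFam (R := R) (Γ₁ := Γ₁) (Γ₂ := Γ₂)
  refine ⟨sp R ((Γ₂ →* Γ₁) → R), fam fu, ⟨(isFam_iff fu).1 hfu, fun T φ hφ => ?_⟩, ?_, ?_⟩
  · refine existsUnique_of_affine (fam fu) (fun _ _ _ _ => True) (fun C _ _ f hf _ => ?_) φ hφ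
      fun _ _ _ _ _ _ => trivial
    obtain ⟨ψ, hψ, hψu⟩ := exists_unique_homPoint hf fu hu
    refine ⟨spMap ψ, (fam_natural ψ fu).trans (congrArg fam hψ), fun t ht => ?_⟩
    obtain ⟨ψ', rfl⟩ := exists_algHom t
    rw [hψu ψ' (fam_injective ((fam_natural ψ' fu).symm.trans ht))]
  · exact (IsFinite.SpecMap_iff _).2 (RingHom.finite_algebraMap.2 inferInstance)
  · exact (HasRingHomProperty.Spec_iff (P := @Etale)).2 (RingHom.etale_algebraMap.2 inferInstance)

end Groth.Agent.MultDefLib.SplitHom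

end
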