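import Mathlib.AlgebraicGeometry.Sites.Fpqc
import Mathlib.AlgebraicGeometry.Morphisms.FlatDescent
import Groth.Agent.SchTorsor.Props
import Groth.Agent.EtFound.Descent

/-!
# Properties which descend along fpqc morphisms are local for fpqc coverings
-/

universe u

open CategoryTheory CategoryTheory.Limits AlgebraicGeometry

set_option linter.style.haveILetI false
set_option backward.isDefEq.respectTransparency.types false
set_option backward.isDefEq.respectTransparency false

noncomputable section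

namespace Groth.Agent.MultDefLib

/-- A Zariski local property descending along fpqc morphisms is local for fpqc coverings of the target. -/
theorem of_fpqc_family {P : MorphismProperty Scheme.{u}} [P.IsStableUnderBaseChange] [IsZariskiLocalAtTarget P]
    [P.DescendsAlong (@Surjective ⊓ @Flat ⊓ @QuasiCompact)] {S : Scheme.{u}} {κ : Type u} {X : κ → Scheme.{u}}
    (f : ∀ i, X i ⟶ S) (hf : Presieve.ofArrows X f ∈ Scheme.fpqcPrecoverage S) {U : Scheme.{u}} (g : U ⟶ S)
    (h : ∀ i, P (pullback.fst (f i) g)) : P g := by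
  let E : PreZeroHypercover.{u} S := ⟨κ, X, f⟩
  obtain ⟨hqc, hfl⟩ := hf
  have hflat : ∀ i, Flat (f i) := fun i => hfl.2 ⟨i⟩
  haveI : QuasiCompactCover E := Scheme.presieve₀_mem_qcPrecoverage_iff.1 hqc
  refine IsZariskiLocalAtTarget.of_iSup_eq_top (P := P) (fun V : S.affineOpens => (V : S.Opens))
    (iSup_affineOpens_eq_top S) fun V => ?_
  obtain ⟨n, a, W, hW, hcov⟩ := QuasiCompactCover.exists_isAffineOpen_of_isCompact E V.2.isCompact
  have hr : ∀ k, Set.range ((W k).ι ≫ f (a k)) ⊆ Set.range (V : S.Opens).ι := by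
    intro k
    rintro _ ⟨x, rfl⟩
    rw [Scheme.Opens.range_ι, ← hcov]
    exact Set.mem_iUnion.2 ⟨k, (W k).ι x, x.2, rfl⟩
  let G : ∀ k, (W k : Scheme.{u}) ⟶ (V : S.Opens) := fun k =>
    IsOpenImmersion.lift (V : S.Opens).ι ((W k).ι ≫ f (a k)) (hr k)
  have hG : ∀ k, G k ≫ (V : S.Opens).ι = (W k).ι ≫ f (a k) := fun k => IsOpenImmersion.lift_fac _ _ _
  haveI hGflat : ∀ k, Flat (G k) := fun k => by
    haveI := hflat (a k)
    haveI : Flat (G k ≫ (V : S.Opens).ι) := hG k ▸ inferInstance
    have hp : IsPullback (G k) (𝟙 _) (V : S.Opens).ι (G k ≫ (V : S.Opens).ι) :=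
      (IsPullback.of_horiz_isIso_mono ⟨by rw [Category.id_comp]⟩).flip
    exact MorphismProperty.of_isPullback (P := @Flat) hp.flip this
  let D : ∐ (fun k => (W k : Scheme.{u})) ⟶ (V : S.Opens) := Sigma.desc G
  have hι : ∀ k, Sigma.ι (fun k => (W k : Scheme.{u})) k ≫ D = G k := fun k => Sigma.ι_desc G k
  haveI : Flat D := IsZariskiLocalAtSource.of_openCover (P := @Flat.{u}) (sigmaOpenCover _) fun k => by
    change Flat (Sigma.ι (fun k => (W k : Scheme.{u})) k ≫ D)
    exact (hι k).symm ▸ hGflat k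
  haveI : ∀ k, IsAffine (W k : Scheme.{u}) := hW
  haveI : IsAffine (V : S.Opens) := V.2
  haveI : Surjective D := ⟨fun x => by
    have hx : (V : S.Opens).ι x ∈ ((V : S.Opens) : Set S) := x.2
    rw [← hcov] at hx
    obtain ⟨k, y, hy, hxy⟩ := Set.mem_iUnion.1 hx
    refine ⟨Sigma.ι (fun k => (W k : Scheme.{u})) k ⟨y, hy⟩, (V : S.Opens).ι.isOpenEmbedding.injective ?_⟩
    change (Sigma.ι (fun k => (W k : Scheme.{u})) k ≫ D ≫ (V : S.Opens).ι) _ = _
    rw [← Category.assoc, hι, hG]
    exact hxy⟩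
  haveI : QuasiCompact D := quasiCompact_of_compactSpace D
  refine MorphismProperty.of_pullback_fst_of_descendsAlong
    (Q := @Surjective ⊓ @Flat ⊓ @QuasiCompact) (f := D) ⟨⟨inferInstance, inferInstance⟩, inferInstance⟩ ?_
  refine IsZariskiLocalAtTarget.of_openCover (sigmaOpenCover _) fun k => ?_
  have sq : IsPullback (pullback.snd (pullback.fst D (g ∣_ (V : S.Opens))) (Sigma.ι (fun k => (W k : Scheme.{u})) k))
      (pullback.fst (pullback.fst D (g ∣_ (V : S.Opens))) (Sigma.ι (fun k => (W k : Scheme.{u})) k) ≫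
        pullback.snd D (g ∣_ (V : S.Opens)) ≫ (g ⁻¹ᵁ (V : S.Opens)).ι) ((W k).ι ≫ f (a k)) g := by
    rw [← hG k, ← hι k, Category.assoc]
    exact (IsPullback.of_hasPullback (pullback.fst D (g ∣_ (V : S.Opens)))
      (Sigma.ι (fun k => (W k : Scheme.{u})) k)).flip.paste_vert
      ((IsPullback.of_hasPullback D (g ∣_ (V : S.Opens))).paste_vert (isPullback_morphismRestrict g (V : S.Opens)))
  have hk : P (pullback.fst ((W k).ι ≫ f (a k)) g) := by
    have e : IsPullback (pullback.fst ((W k).ι) (pullback.fst (f (a k)) g))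
        (pullback.snd ((W k).ι) (pullback.fst (f (a k)) g) ≫ pullback.snd (f (a k)) g) ((W k).ι ≫ f (a k)) g :=
      (IsPullback.of_hasPullback _ _).paste_vert (IsPullback.of_hasPullback (f (a k)) g)
    rw [← e.isoPullback_inv_fst]
    exact (P.cancel_left_of_respectsIso _ _).2 (MorphismProperty.pullback_fst _ _ (h (a k)))
  change P (pullback.snd (pullback.fst D (g ∣_ (V : S.Opens))) (Sigma.ι (fun k => (W k : Scheme.{u})) k))
  rw [← sq.isoPullback_hom_fst]
  exact (P.cancel_left_of_respectsIso _ _).2 hk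

end Groth.Agent.MultDefLib

end
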