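import Groth.Agent.DSPtsLib.Basic
import Groth.Agent.GrpSchLib.HomMonoLocus
import Groth.Prelude.Def_AlgGrp
import Mathlib

/-!
# Free actions of diagonalisable groups on affine schemes have closed graph

If `D(M)` acts freely on `Spec A`, every graded piece of `A` generates the unit ideal: otherwise a maximal ideal
containing a homogeneous piece has a stabiliser.
-/

set_option autoImplicit false
universe u

open CategoryTheory CategoryTheory.Limits MonoidalCategory CartesianMonoidalCategory AlgebraicGeometry
open scoped MonObj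

set_option backward.isDefEq.respectTransparency false
set_option backward.isDefEq.respectTransparency.types false
set_option linter.style.haveILetI false

noncomputable section

namespace Groth.Agent.MultDefLib.FreeAction

open DSPtsLib (CoordM spU pt)

variable {U : Scheme.{u}} {M : Type} [AddCommGroup M]

/-- A monoid map as a map out of the coordinate ring. -/
def chr {B : Type u} [CommRing B] (χ : Multiplicative M →* B) : CoordM.{u} M →+* B :=
  MonoidAlgebra.liftNCRingHom ((algebraMap ℤ B).comp ULift.ringEquiv.toRingHom) χ fun _ _ => Commute.all _ _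

theorem chr_single {B : Type u} [CommRing B] (χ : Multiplicative M →* B) (m : Multiplicative M) :
    chr χ (MonoidAlgebra.single m 1) = χ m := by
  simp [chr, MonoidAlgebra.liftNCRingHom_single]

theorem chr_ext {B : Type u} [CommRing B] (f g : CoordM.{u} M →+* B)
    (h : ∀ m, f (MonoidAlgebra.single m 1) = g (MonoidAlgebra.single m 1)) : f = g :=
  MonoidAlgebra.ringHom_ext (fun r => RingHom.congr_fun (DSPtsLib.ulift_ringHom_ext
    (f.comp MonoidAlgebra.singleOneRingHom) (g.comp MonoidAlgebra.singleOneRingHom)) r) h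

/-- Evaluation of a group algebra. -/
def ev {A B : Type u} [CommRing A] [CommRing B] (φ : A →+* B) (χ : Multiplicative M →* B) :
    MonoidAlgebra A (Multiplicative M) →+* B :=
  MonoidAlgebra.liftNCRingHom φ χ fun _ _ => Commute.all _ _

theorem ev_single {A B : Type u} [CommRing A] [CommRing B] (φ : A →+* B) (χ : Multiplicative M →* B)
    (m : Multiplicative M) (a : A) : ev φ χ (MonoidAlgebra.single m a) = φ a * χ m :=
  MonoidAlgebra.liftNCRingHom_single _ _ _ _ _

variable {X : Over U} (act : AlgGrp.Action (Red.DS U M) X) {A : Type u} [CommRing A]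
  (e : Spec (CommRingCat.of A) ≅ X.left)

/-- The map of a point of an affine chart. -/
def xpt {B : Type u} [CommRing B] (φ : A →+* B) (k : Spec (CommRingCat.of B) ⟶ U)
    (h : Spec.map (CommRingCat.ofHom φ) ≫ e.hom ≫ X.hom = k) : spU k ⟶ X :=
  Over.homMk (Spec.map (CommRingCat.ofHom φ) ≫ e.hom) (by rw [Category.assoc]; exact h)

theorem exists_eq_xpt {B : Type u} [CommRing B] (k : Spec (CommRingCat.of B) ⟶ U) (x : spU k ⟶ X) :
    ∃ (φ : A →+* B) (h : Spec.map (CommRingCat.ofHom φ) ≫ e.hom ≫ X.hom = k), x = xpt e φ k h := by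
  obtain ⟨f, hf⟩ : ∃ f : CommRingCat.of A ⟶ CommRingCat.of B, Spec.map f = x.left ≫ e.inv :=
    ⟨Spec.preimage (x.left ≫ e.inv), Spec.map_preimage _⟩
  have h1 : Spec.map (CommRingCat.ofHom f.hom) = x.left ≫ e.inv := hf
  refine ⟨f.hom, ?_, Over.OverMorphism.ext ?_⟩
  · rw [h1, Category.assoc, e.inv_hom_id_assoc]
    exact Over.w x
  · show x.left = Spec.map (CommRingCat.ofHom f.hom) ≫ e.hom
    rw [h1, Category.assoc, e.inv_hom_id, Category.comp_id]

theorem xpt_inj {B : Type u} [CommRing B] {φ φ' : A →+* B} {k : Spec (CommRingCat.of B) ⟶ U}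
    {h : Spec.map (CommRingCat.ofHom φ) ≫ e.hom ≫ X.hom = k}
    {h' : Spec.map (CommRingCat.ofHom φ') ≫ e.hom ≫ X.hom = k} (he : xpt e φ k h = xpt e φ' k h') : φ = φ' := by
  have h1 := congrArg Over.Hom.left he
  change Spec.map (CommRingCat.ofHom φ) ≫ e.hom = Spec.map (CommRingCat.ofHom φ') ≫ e.hom at h1
  exact congrArg CommRingCat.Hom.hom (Spec.map_injective ((cancel_mono e.hom).1 h1))

/-- The structure map of the universal point. -/
abbrev kU : Spec (CommRingCat.of (MonoidAlgebra A (Multiplicative M))) ⟶ U :=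
  Spec.map (CommRingCat.ofHom MonoidAlgebra.singleOneRingHom) ≫ e.hom ≫ X.hom

/-- The tautological point of the chart over the universal point. -/
def xU : spU (kU (M := M) e) ⟶ X :=
  xpt e (MonoidAlgebra.singleOneRingHom (M := Multiplicative M)) (kU (M := M) e) rfl

/-- The universal translate. -/
def translate : spU (kU (M := M) e) ⟶ X :=
  lift (pt (kU (M := M) e) (chr (MonoidAlgebra.of A (Multiplicative M)))) (xU e) ≫ act.act

/-- The coaction. -/
def rho : A →+* MonoidAlgebra A (Multiplicative M) := (exists_eq_xpt e _ (translate act e)).choose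

theorem rho_hom : Spec.map (CommRingCat.ofHom (rho act e)) ≫ e.hom ≫ X.hom = kU (M := M) e :=
  (exists_eq_xpt e _ (translate act e)).choose_spec.choose

theorem translate_eq : translate act e = xpt e (rho act e) _ (rho_hom act e) :=
  (exists_eq_xpt e _ (translate act e)).choose_spec.choose_spec

/-- The action on points is given by the coaction. -/
theorem act_eval {B : Type u} [CommRing B] (φ : A →+* B) (χ : Multiplicative M →* B)
    (k : Spec (CommRingCat.of B) ⟶ U) (h : Spec.map (CommRingCat.ofHom φ) ≫ e.hom ≫ X.hom = k) :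
    ∃ h', lift (pt k (chr χ)) (xpt e φ k h) ≫ act.act = xpt e ((ev φ χ).comp (rho act e)) k h' := by
  have hev : (ev φ χ).comp MonoidAlgebra.singleOneRingHom = φ := RingHom.ext fun a => by
    simp [ev_single]
  have hk : Spec.map (CommRingCat.ofHom (ev φ χ)) ≫ kU (M := M) e = k := by
    rw [← Category.assoc, ← Spec.map_comp, ← CommRingCat.ofHom_comp, hev, h]
  let σ : spU k ⟶ spU (kU (M := M) e) := Over.homMk (Spec.map (CommRingCat.ofHom (ev φ χ))) hk
  have hx : σ ≫ xU e = xpt e φ k h := by
    refine Over.OverMorphism.ext ?_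
    show Spec.map (CommRingCat.ofHom (ev φ χ)) ≫ Spec.map (CommRingCat.ofHom MonoidAlgebra.singleOneRingHom) ≫ e.hom = _
    rw [← Category.assoc, ← Spec.map_comp, ← CommRingCat.ofHom_comp, hev]
    rfl
  have hg : σ ≫ pt (kU e) (chr (MonoidAlgebra.of A (Multiplicative M))) = pt k (chr χ) := by
    rw [DSPtsLib.pt_comp _ _ _ k hk]
    congr 1
    refine chr_ext _ _ fun m => ?_
    rw [RingHom.comp_apply, chr_single, chr_single, MonoidAlgebra.of_apply, ev_single, map_one, one_mul]
  refine ⟨?_, ?_⟩
  · rw [CommRingCat.ofHom_comp, Spec.map_comp, Category.assoc, rho_hom, hk]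
  · have ht : σ ≫ translate act e = lift (pt k (chr χ)) (xpt e φ k h) ≫ act.act := by
      rw [translate, comp_lift_assoc, hg, hx]
    rw [← ht, translate_eq]
    refine Over.OverMorphism.ext ?_
    show Spec.map (CommRingCat.ofHom (ev φ χ)) ≫ Spec.map (CommRingCat.ofHom (rho act e)) ≫ e.hom =
      Spec.map (CommRingCat.ofHom ((ev φ χ).comp (rho act e))) ≫ e.hom
    simp only [CommRingCat.ofHom_comp, Spec.map_comp, Category.assoc]

theorem one_act_pt {T : Over U} (x : T ⟶ X) : lift (1 : T ⟶ Red.DS U M) x ≫ act.act = x := by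
  have h := congrArg (lift (toUnit T) x ≫ ·) act.one_act
  simp only [lift_whiskerRight_assoc, lift_leftUnitor_hom] at h
  rw [Hom.one_def]
  exact h

theorem mul_act_pt {T : Over U} (g g' : T ⟶ Red.DS U M) (x : T ⟶ X) :
    lift (g * g') x ≫ act.act = lift g (lift g' x ≫ act.act) ≫ act.act := by
  have h := congrArg (lift (lift g g') x ≫ ·) act.mul_act
  simp only [lift_whiskerRight_assoc, lift_lift_associator_hom_assoc, lift_whiskerLeft_assoc] at h
  rw [Hom.mul_def]
  exact h

/-- The counit law. -/
theorem ev_one_rho : (ev (RingHom.id A) (1 : Multiplicative M →* A)).comp (rho act e) = RingHom.id A := by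
  let k : Spec (CommRingCat.of A) ⟶ U := e.hom ≫ X.hom
  have h : Spec.map (CommRingCat.ofHom (RingHom.id A)) ≫ e.hom ≫ X.hom = k := by simp [k]
  obtain ⟨h', ha⟩ := act_eval act e (RingHom.id A) (1 : Multiplicative M →* A) k h
  rw [GrpSchLib.HomMonoLocus.pt_one k _ (fun m => by rw [chr_single]; rfl), one_act_pt] at ha
  exact (xpt_inj e ha).symm

theorem coeff_one_rho : rho act e 1 = MonoidAlgebra.single 1 1 := map_one _

/-- Coefficients of an evaluation with values in a group algebra. -/
theorem coeff_ev {A R' : Type u} [CommRing A] [CommRing R'] (f : A →+* R') (g : Multiplicative M →* R')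
    (z : MonoidAlgebra A (Multiplicative M)) (n : Multiplicative M) :
    (ev ((MonoidAlgebra.singleOneRingHom (M := Multiplicative M)).comp f)
      (MonoidAlgebra.of R' (Multiplicative M) * (MonoidAlgebra.singleOneRingHom (M := Multiplicative M)).toMonoidHom.comp g)
      z).coeff n = f (z.coeff n) * g n := by
  classical
  induction z using MonoidAlgebra.induction_linear with
  | zero => simp
  | add p q hp hq => simp only [map_add, MonoidAlgebra.coeff_add, Finsupp.add_apply, add_mul, hp, hq]
  | single m b =>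
    rw [ev_single]
    by_cases hmn : m = n <;> simp [MonoidAlgebra.coeff_single, MonoidAlgebra.single_mul_single, hmn]

/-- Homogeneous components are homogeneous. -/
theorem rho_coeff (a : A) (n : Multiplicative M) :
    rho act e ((rho act e a).coeff n) = MonoidAlgebra.single n ((rho act e a).coeff n) := by
  classical
  let B := MonoidAlgebra (MonoidAlgebra A (Multiplicative M)) (Multiplicative M)
  let o : MonoidAlgebra A (Multiplicative M) →+* B := MonoidAlgebra.singleOneRingHom
  let φ : A →+* B := o.comp MonoidAlgebra.singleOneRingHom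
  let χ' : Multiplicative M →* B := o.toMonoidHom.comp (MonoidAlgebra.of A (Multiplicative M))
  let χ : Multiplicative M →* B := MonoidAlgebra.of (MonoidAlgebra A (Multiplicative M)) (Multiplicative M)
  let k : Spec (CommRingCat.of B) ⟶ U := Spec.map (CommRingCat.ofHom φ) ≫ e.hom ≫ X.hom
  obtain ⟨h₁, ha₁⟩ := act_eval act e φ χ' k rfl
  obtain ⟨h₂, ha₂⟩ := act_eval act e ((ev φ χ').comp (rho act e)) χ k h₁
  obtain ⟨h₃, ha₃⟩ := act_eval act e φ (χ * χ') k rfl
  have hm : pt k (chr χ) * pt k (chr χ') = pt k (chr (χ * χ')) :=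
    DSPtsLib.pt_mul _ _ _ _ fun m => by simp [chr_single]
  rw [← hm, mul_act_pt, ha₁, ha₂] at ha₃
  have key := RingHom.congr_fun (xpt_inj e ha₃) a
  simp only [RingHom.comp_apply] at key
  have hφ : ev φ χ' = o := by
    refine MonoidAlgebra.ringHom_ext (fun r => ?_) (fun m => ?_)
    · rw [ev_single, map_one, mul_one]; rfl
    · rw [ev_single, map_one, one_mul]; rfl
  have hcomp : (ev φ χ').comp (rho act e) = o.comp (rho act e) := by rw [hφ]
  have h1 := coeff_ev (rho act e) (1 : Multiplicative M →* MonoidAlgebra A (Multiplicative M)) (rho act e a) n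
  have h2 := coeff_ev (MonoidAlgebra.singleOneRingHom : A →+* MonoidAlgebra A (Multiplicative M))
    (MonoidAlgebra.of A (Multiplicative M)) (rho act e a) n
  rw [MonoidHom.comp_one, _root_.mul_one, MonoidHom.one_apply, _root_.mul_one, ← hcomp] at h1
  rw [← h1, key]
  refine h2.trans ?_
  simp [MonoidAlgebra.single_mul_single]

/-- The homogeneous elements of a degree. -/
def Homog (n : Multiplicative M) : Set A := {a | rho act e a = MonoidAlgebra.single n a}

theorem sum_coeff (a : A) : a = ev (RingHom.id A) (1 : Multiplicative M →* A) (rho act e a) :=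
  (RingHom.congr_fun (ev_one_rho act e) a).symm

/-- A free action: every piece generates the unit ideal. -/
theorem span_homog_eq_top
    (hfree : ∀ (Y : Over U) (g : Y ⟶ Red.DS U M) (x : Y ⟶ X), lift g x ≫ act.act = x → g = 1)
    (m : Multiplicative M) : Ideal.span (Homog act e m) = ⊤ := by
  classical
  by_contra hne
  obtain ⟨p, hpmax, hp⟩ := Ideal.exists_le_maximal _ hne
  haveI := hpmax.isPrime
  let P : Submonoid (Multiplicative M) :=
    { carrier := {n | ∃ a ∈ Homog act e n, a ∉ p}
      one_mem' := ⟨1, by simp [Homog, MonoidAlgebra.one_def], p.ne_top_iff_one.1 hpmax.ne_top⟩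
      mul_mem' := by
        rintro n n' ⟨a, ha, hap⟩ ⟨b, hb, hbp⟩
        refine ⟨a * b, ?_, fun h => (Ideal.IsPrime.mem_or_mem ‹_› h).elim hap hbp⟩
        show rho act e (a * b) = _
        rw [map_mul, ha, hb, MonoidAlgebra.single_mul_single] }
  let N : Subgroup (Multiplicative M) :=
    { carrier := {n | n ∈ P ∧ n⁻¹ ∈ P}
      one_mem' := ⟨P.one_mem, by rw [inv_one]; exact P.one_mem⟩
      mul_mem' := fun ha hb => ⟨P.mul_mem ha.1 hb.1, by rw [mul_inv]; exact P.mul_mem ha.2 hb.2⟩
      inv_mem' := fun ha => ⟨ha.2, by rw [inv_inv]; exact ha.1⟩ }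
  have hm : m ∉ N := fun h => by
    obtain ⟨a, ha, hap⟩ := h.1
    exact hap (hp (Ideal.subset_span ha))
  let J : Ideal A := Ideal.span {a | ∃ n, n ∉ N ∧ a ∈ Homog act e n}
  have hJ : J ≠ ⊤ := by
    intro hJ
    have key : ∀ z ∈ J, ∀ b, (rho act e (b * z)).coeff 1 ∈ p := by
      intro z hz
      induction hz using Submodule.span_induction with
      | mem a ha =>
        obtain ⟨n, hn, han⟩ := ha
        intro b
        rw [map_mul, han]
        have hc : (rho act e b * MonoidAlgebra.single n a).coeff 1 = (rho act e b).coeff n⁻¹ * a := by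
          rw [MonoidAlgebra.coeff_mul_single_apply]
          simp
        rw [hc]
        by_cases hap : a ∈ p
        · exact Ideal.mul_mem_left _ _ hap
        · refine Ideal.mul_mem_right _ _ ?_
          by_contra hb
          exact hn ⟨⟨a, han, hap⟩, ⟨_, rho_coeff act e b n⁻¹, hb⟩⟩
      | zero => intro b; simp
      | add x y _ _ hx hy =>
        intro b
        rw [mul_add, map_add, MonoidAlgebra.coeff_add, Finsupp.add_apply]
        exact add_mem (hx b) (hy b)
      | smul c x _ hx =>
        intro b
        rw [smul_eq_mul, ← mul_assoc]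
        exact hx _
    have h1 := key 1 (hJ ▸ Submodule.mem_top) 1
    simp [MonoidAlgebra.one_def] at h1
    exact p.ne_top_iff_one.1 hpmax.ne_top h1
  obtain ⟨q, hq, hJq⟩ := Ideal.exists_le_maximal J hJ
  haveI : Nontrivial (A ⧸ q) := Ideal.Quotient.nontrivial_iff.2 hq.ne_top
  let B := MonoidAlgebra (A ⧸ q) (Multiplicative M ⧸ N)
  let φ : A →+* B := MonoidAlgebra.singleOneRingHom.comp (Ideal.Quotient.mk q)
  let χ : Multiplicative M →* B :=
    (MonoidAlgebra.of (A ⧸ q) (Multiplicative M ⧸ N)).comp (QuotientGroup.mk' N)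
  let k : Spec (CommRingCat.of B) ⟶ U := Spec.map (CommRingCat.ofHom φ) ≫ e.hom ≫ X.hom
  obtain ⟨h', ha⟩ := act_eval act e φ χ k rfl
  have hfix : (ev φ χ).comp (rho act e) = φ := by
    refine RingHom.ext fun a => ?_
    have hterm : ∀ z : MonoidAlgebra A (Multiplicative M), (∀ n, n ∉ N → z.coeff n ∈ q) →
        ev φ χ z = φ (ev (RingHom.id A) (1 : Multiplicative M →* A) z) := by
      intro z hz
      conv_lhs => rw [← MonoidAlgebra.sum_coeff_single z]
      conv_rhs => rw [← MonoidAlgebra.sum_coeff_single z]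
      simp only [map_finsuppSum, Finsupp.sum]
      rw [map_sum, map_sum, map_sum]
      refine Finset.sum_congr rfl fun n _ => ?_
      rw [ev_single, ev_single]
      simp only [RingHom.id_apply, MonoidHom.one_apply, mul_one]
      by_cases hn : n ∈ N
      · have : χ n = 1 := by
          show MonoidAlgebra.of (A ⧸ q) (Multiplicative M ⧸ N) (QuotientGroup.mk' N n) = 1
          rw [show QuotientGroup.mk' N n = 1 from (QuotientGroup.eq_one_iff n).2 hn, map_one]
        rw [this, mul_one]
      · have h0 : φ (z.coeff n) = 0 := by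
          show MonoidAlgebra.single 1 (Ideal.Quotient.mk q (z.coeff n)) = 0
          rw [Ideal.Quotient.eq_zero_iff_mem.2 (hz n hn), MonoidAlgebra.single_zero]
        rw [h0, zero_mul]
    rw [RingHom.comp_apply, hterm _ fun n hn => hJq (Ideal.subset_span ⟨n, hn, rho_coeff act e a n⟩), ← sum_coeff]
  have hg := hfree _ _ _ (ha.trans (Over.OverMorphism.ext (by simp [xpt, hfix])))
  rw [← GrpSchLib.HomMonoLocus.pt_one k (chr (1 : Multiplicative M →* B)) (fun n => by rw [chr_single]; rfl)] at hg
  have h2 := RingHom.congr_fun (GrpSchLib.HomMonoLocus.pt_injective k hg) (MonoidAlgebra.single m 1)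
  rw [chr_single, chr_single] at h2
  have h3 : MonoidAlgebra.single (QuotientGroup.mk' N m) (1 : A ⧸ q) = MonoidAlgebra.single 1 1 := h2
  have h4 := (MonoidAlgebra.single_left_inj (one_ne_zero)).1 h3
  exact hm ((QuotientGroup.eq_one_iff m).1 h4)

include e in
/-- The graph of a free action is a closed immersion. -/
theorem isClosedImmersion_graph [IsAffine U]
    (hfree : ∀ (Y : Over U) (g : Y ⟶ Red.DS U M) (x : Y ⟶ X), lift g x ≫ act.act = x → g = 1) :
    IsClosedImmersion (lift act.act (snd (Red.DS U M) X)).left := by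
  haveI : IsAffineHom (Red.DS U M).hom := MorphismProperty.pullback_snd _ _
    (inferInstanceAs (IsAffineHom (Spec.map (CommRingCat.ofHom (algebraMap (ULift.{u} ℤ) (CoordM.{u} M))))))
  haveI : IsAffine X.left := .of_isIso e.inv
  haveI : IsAffineHom X.hom := inferInstance
  haveI : IsAffineHom (pullback.fst (Red.DS U M).hom X.hom) := MorphismProperty.pullback_fst _ _ ‹_›
  haveI : IsAffineHom (pullback.fst X.hom X.hom) := MorphismProperty.pullback_fst _ _ ‹_›
  haveI : IsAffineHom (Red.DS U M ⊗ X).hom := by rw [Over.tensorObj_hom]; exact MorphismProperty.comp_mem _ _ _ ‹_› ‹_›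
  haveI : IsAffineHom (X ⊗ X).hom := by rw [Over.tensorObj_hom]; exact MorphismProperty.comp_mem _ _ _ ‹_› ‹_›
  haveI : IsAffine (Red.DS U M ⊗ X).left := isAffine_of_isAffineHom (Red.DS U M ⊗ X).hom
  haveI : IsAffine (X ⊗ X).left := isAffine_of_isAffineHom (X ⊗ X).hom
  let AM := MonoidAlgebra A (Multiplicative M)
  let p : spU (kU (M := M) e) ⟶ Red.DS U M ⊗ X :=
    lift (pt (kU e) (chr (MonoidAlgebra.of A (Multiplicative M)))) (xU e)
  -- the product is affine with ring the group algebra
  obtain ⟨B, ⟨iB⟩⟩ : ∃ B : CommRingCat.{u}, Nonempty (Spec B ≅ (Red.DS U M ⊗ X).left) :=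
    ⟨_, ⟨(Red.DS U M ⊗ X).left.isoSpec.symm⟩⟩
  let kB : Spec (CommRingCat.of B) ⟶ U := iB.hom ≫ (Red.DS U M ⊗ X).hom
  let τ : spU kB ⟶ Red.DS U M ⊗ X := Over.homMk iB.hom rfl
  haveI : IsIso τ := by
    haveI : IsIso τ.left := inferInstanceAs (IsIso iB.hom)
    haveI : IsIso ((Over.forget U).map τ) := inferInstanceAs (IsIso τ.left)
    exact isIso_of_reflects_iso τ (Over.forget U)
  obtain ⟨c, hc⟩ := DSPtsLib.exists_eq_pt kB (τ ≫ fst _ _)
  obtain ⟨φ, hφh, hφ⟩ := exists_eq_xpt e kB (τ ≫ snd _ _)
  let χ : Multiplicative M →* B := (c : CoordM.{u} M →* B).comp (MonoidAlgebra.of _ _)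
  have hev : (ev φ χ).comp MonoidAlgebra.singleOneRingHom = φ := RingHom.ext fun a => by simp [ev_single]
  have hk : Spec.map (CommRingCat.ofHom (ev φ χ)) ≫ kU (M := M) e = kB := by
    rw [← Category.assoc, ← Spec.map_comp, ← CommRingCat.ofHom_comp, hev, hφh]
  let r : spU kB ⟶ spU (kU (M := M) e) := Over.homMk (Spec.map (CommRingCat.ofHom (ev φ χ))) hk
  have hrp : r ≫ p = τ := by
    apply CartesianMonoidalCategory.hom_ext
    · rw [Category.assoc, lift_fst, hc, DSPtsLib.pt_comp _ _ _ kB hk]
      congr 1
      refine chr_ext _ _ fun n => ?_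
      rw [RingHom.comp_apply, chr_single, MonoidAlgebra.of_apply, ev_single, map_one, one_mul]
      rfl
    · rw [Category.assoc, lift_snd, hφ]
      refine Over.OverMorphism.ext ?_
      show Spec.map (CommRingCat.ofHom (ev φ χ)) ≫ Spec.map (CommRingCat.ofHom MonoidAlgebra.singleOneRingHom) ≫ e.hom = _
      rw [← Category.assoc, ← Spec.map_comp, ← CommRingCat.ofHom_comp, hev]
      rfl
  have hend : ∀ q : spU (kU (M := M) e) ⟶ spU (kU (M := M) e), q ≫ p = p → q = 𝟙 _ := by
    intro q hq
    obtain ⟨f, hf⟩ : ∃ f : AM →+* AM, Spec.map (CommRingCat.ofHom f) = q.left :=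
      ⟨(Spec.preimage q.left).hom, Spec.map_preimage _⟩
    have hw : Spec.map (CommRingCat.ofHom f) ≫ kU (M := M) e = kU (M := M) e := by rw [hf]; exact Over.w q
    have hq' : q = Over.homMk (Spec.map (CommRingCat.ofHom f)) hw := Over.OverMorphism.ext hf.symm
    have h1 := congrArg (fun z => z ≫ fst _ _) hq
    simp only [p, Category.assoc, lift_fst] at h1
    rw [hq', DSPtsLib.pt_comp _ _ _ _ hw] at h1
    have h2 := congrArg (fun z => z ≫ snd _ _) hq
    simp only [p, Category.assoc, lift_snd] at h2
    have h2' : f.comp MonoidAlgebra.singleOneRingHom = MonoidAlgebra.singleOneRingHom := by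
      have h3 := congrArg Over.Hom.left h2
      rw [hq'] at h3
      change Spec.map (CommRingCat.ofHom f) ≫ Spec.map (CommRingCat.ofHom MonoidAlgebra.singleOneRingHom) ≫ e.hom =
        Spec.map (CommRingCat.ofHom MonoidAlgebra.singleOneRingHom) ≫ e.hom at h3
      rw [← Category.assoc, cancel_mono, ← Spec.map_comp] at h3
      exact congrArg CommRingCat.Hom.hom (Spec.map_injective h3)
    have h4 : f = RingHom.id AM := MonoidAlgebra.ringHom_ext (fun a => RingHom.congr_fun h2' a) fun n => by
      have := RingHom.congr_fun (GrpSchLib.HomMonoLocus.pt_injective _ h1) (MonoidAlgebra.single n 1)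
      rwa [RingHom.comp_apply, chr_single, MonoidAlgebra.of_apply] at this
    rw [hq']
    refine Over.OverMorphism.ext ?_
    show Spec.map (CommRingCat.ofHom f) = 𝟙 _
    rw [h4, CommRingCat.ofHom_id, Spec.map_id]
  haveI : IsIso p := ⟨inv τ ≫ r, hend _ (by rw [Category.assoc, Category.assoc, hrp, IsIso.inv_hom_id, Category.comp_id]),
    by rw [Category.assoc, hrp, IsIso.inv_hom_id]⟩
  haveI : IsIso p.left := inferInstanceAs (IsIso ((Over.forget U).map p))
  suffices h : IsClosedImmersion (p.left ≫ (lift act.act (snd (Red.DS U M) X)).left) from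
    (MorphismProperty.cancel_left_of_respectsIso @IsClosedImmersion p.left _).1 h
  obtain ⟨B2, ⟨i2⟩⟩ : ∃ B2 : CommRingCat.{u}, Nonempty (Spec B2 ≅ (X ⊗ X).left) :=
    ⟨_, ⟨(X ⊗ X).left.isoSpec.symm⟩⟩
  let gam := p.left ≫ (lift act.act (snd (Red.DS U M) X)).left ≫ i2.inv
  suffices h : IsClosedImmersion gam by
    have h' : p.left ≫ (lift act.act (snd (Red.DS U M) X)).left = gam ≫ i2.hom := by simp [gam]
    rw [h']
    infer_instance
  obtain ⟨θ, hθ⟩ : ∃ θ : B2 ⟶ CommRingCat.of AM, Spec.map θ = gam := ⟨Spec.preimage gam, Spec.map_preimage _⟩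
  have hproj : ∀ (π : X ⊗ X ⟶ X) (ψ : A →+* AM),
      (p.left ≫ (lift act.act (snd (Red.DS U M) X)).left) ≫ π.left = Spec.map (CommRingCat.ofHom ψ) ≫ e.hom →
      ∀ a, ψ a ∈ θ.hom.range := by
    intro π ψ hπ a
    let j : CommRingCat.of A ⟶ B2 := Spec.preimage (i2.hom ≫ π.left ≫ e.inv)
    have h1 : Spec.map (j ≫ θ) = Spec.map (CommRingCat.ofHom ψ) := by
      rw [Spec.map_comp, hθ, Spec.map_preimage]
      simp only [gam, Category.assoc, i2.inv_hom_id_assoc]
      rw [← Category.assoc, ← Category.assoc, hπ, Category.assoc, e.hom_inv_id, Category.comp_id]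
    exact ⟨j.hom a, RingHom.congr_fun (congrArg CommRingCat.Hom.hom (Spec.map_injective h1)) a⟩
  have hr1 := hproj (fst X X) (rho act e) (by
    rw [← Over.comp_left, ← Over.comp_left, Category.assoc, lift_fst]
    exact congrArg Over.Hom.left (translate_eq act e))
  have hr2 := hproj (snd X X) MonoidAlgebra.singleOneRingHom (by
    rw [← Over.comp_left, ← Over.comp_left, Category.assoc, lift_snd, lift_snd]
    rfl)
  have hsurj : Function.Surjective θ.hom := by
    rw [← RingHom.range_eq_top]
    refine eq_top_iff.2 fun z _ => ?_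
    induction z using MonoidAlgebra.induction_linear with
    | zero => exact zero_mem _
    | add x y hx hy => exact add_mem (hx trivial) (hy trivial)
    | single n a =>
      suffices h : ∀ c ∈ Ideal.span (Homog act e n), MonoidAlgebra.single n c ∈ θ.hom.range by
        exact h a (by rw [span_homog_eq_top act e hfree n]; exact Submodule.mem_top)
      intro c hc
      induction hc using Submodule.span_induction with
      | mem b hb => exact (show rho act e b = _ from hb) ▸ hr1 b
      | zero => simp
      | add x y _ _ hx hy => rw [MonoidAlgebra.single_add]; exact add_mem hx hy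
      | smul d x _ hx =>
        have hd : MonoidAlgebra.single n (d • x) =
            MonoidAlgebra.singleOneRingHom d * MonoidAlgebra.single n x := by
          simp [MonoidAlgebra.single_mul_single]
        rw [hd]
        exact mul_mem (hr2 d) hx
  rw [← hθ]
  exact IsClosedImmersion.spec_of_surjective θ hsurj

end Groth.Agent.MultDefLib.FreeAction

end
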