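import Groth.Agent.MultDefLib.FreeAction
import Groth.Agent.MultDefLib.Mult
import Groth.Agent.MultDefLib.Descend
import Groth.Agent.MultDefLib.Theta
import Groth.Agent.GrpSchLib.MultTypeBC
import Groth.Agent.GrpSchLib.HomSplitLocal
import Groth.Prelude.Def_ActBC
import Mathlib.AlgebraicGeometry.Morphisms.Descent

/-!
# Free actions of groups of multiplicative type on relatively affine schemes have closed graph
-/

universe u

open CategoryTheory CategoryTheory.Limits MonoidalCategory CartesianMonoidalCategory AlgebraicGeometry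
open scoped MonObj

set_option backward.isDefEq.respectTransparency false
set_option backward.isDefEq.respectTransparency.types false
set_option linter.style.haveILetI false
set_option synthInstance.maxHeartbeats 200000
set_option maxHeartbeats 800000

noncomputable section

namespace Groth.Agent.MultDefLib

open GrpSchLib

/-- A group of multiplicative type splits on an fpqc covering by affine schemes. -/
theorem exists_affine_splitting_multLoc {S : Scheme.{u}} (H : Over S) [GrpObj H] (hH : MultLoc H) :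
    ∃ (κ : Type u) (R : κ → CommRingCat.{u}) (q : ∀ w, Spec (R w) ⟶ S),
      Presieve.ofArrows (fun w => Spec (R w)) q ∈ Scheme.fpqcPrecoverage S ∧
      ∀ w, ∃ (M : Type) (_ : AddCommGroup M),
        Nonempty (Grp.mk (Red.bc (q w) H) ≅ Grp.mk (Red.DS (Spec (R w)) M)) := by
  classical
  obtain ⟨S', f, hfl, hsur, hqc, hloc⟩ := hH
  choose Us hs Ms iMs e using hloc
  let κ := {W : S'.Opens // IsAffineOpen W ∧ ∃ s, W ≤ Us s}
  let q : ∀ w : κ, Spec Γ(S', w.1) ⟶ S := fun w => w.2.1.fromSpec ≫ f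
  have hcover : ∀ (x : S') (O : S'.Opens), x ∈ O → ∃ w : κ, x ∈ w.1 ∧ w.1 ≤ O := fun x O hx => by
    obtain ⟨W, hW, hxW, hWO⟩ := exists_isAffineOpen_mem_and_subset (show x ∈ O ⊓ Us x from ⟨hx, hs x⟩)
    exact ⟨⟨W, hW, x, fun y hy => (hWO hy).2⟩, hxW, fun y hy => (hWO hy).1⟩
  have hmem : Presieve.ofArrows (fun w : κ => Spec Γ(S', w.1)) q ∈ Scheme.fpqcPrecoverage S := by
    refine ⟨?_, ?_⟩
    · let E : PreZeroHypercover.{u} S := ⟨κ, fun w => Spec Γ(S', w.1), q⟩
      show E.presieve₀ ∈ _
      rw [Scheme.presieve₀_mem_qcPrecoverage_iff]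
      refine ⟨fun {V} hV => ?_⟩
      obtain ⟨W, hW, hWV⟩ := hqc V hV
      choose w hxw hwW using fun x : W => hcover x.1 W x.2
      obtain ⟨t, ht⟩ := hW.elim_finite_subcover (fun x : W => ((w x).1 : Set S')) (fun x => (w x).1.2)
        fun x hx => Set.mem_iUnion.2 ⟨⟨x, hx⟩, hxw _⟩
      refine IsCompactOpenCovered.of_finite (κ := {x // x ∈ t}) (fun x => (w x.1 : E.I₀)) (fun x => ⊤)
        (fun x => ?_) ?_
      · show IsCompact (Set.univ : Set (Spec Γ(S', (w x.1).1)))
        exact isCompact_univ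
      · rw [← hWV]
        refine Set.ext fun y => ⟨?_, ?_⟩
        · intro hy
          obtain ⟨x, p, -, hp⟩ := Set.mem_iUnion.1 hy
          refine ⟨(w x.1).2.1.fromSpec p, hwW x.1 ?_, hp⟩
          exact (w x.1).2.1.range_fromSpec.subset ⟨p, rfl⟩
        · rintro ⟨z, hz, rfl⟩
          obtain ⟨x, hx, hzx⟩ := Set.mem_iUnion₂.1 (ht hz)
          obtain ⟨p, hp⟩ := (w x).2.1.range_fromSpec.superset hzx
          exact Set.mem_iUnion.2 ⟨⟨x, hx⟩, p, trivial, congrArg f.base hp⟩
    · rw [Scheme.ofArrows_mem_precoverage_iff]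
      refine ⟨fun y => ?_, fun w => ?_⟩
      · obtain ⟨z, rfl⟩ := hsur.surj y
        obtain ⟨w, hzw, -⟩ := hcover z ⊤ trivial
        obtain ⟨p, hp⟩ := w.2.1.range_fromSpec.superset hzw
        exact ⟨w, p, congrArg f.base hp⟩
      · exact inferInstanceAs (Flat (w.2.1.fromSpec ≫ f))
  refine ⟨κ, fun w => Γ(S', w.1), q, hmem, fun w => ?_⟩
  obtain ⟨s, hws⟩ := w.2.2
  letI := iMs s
  let l : Spec Γ(S', w.1) ⟶ Us s := w.2.1.isoSpec.inv ≫ S'.homOfLE hws
  have hl : l ≫ (Us s).ι ≫ f = q w := by
    show (w.2.1.isoSpec.inv ≫ S'.homOfLE hws) ≫ (Us s).ι ≫ f = w.2.1.fromSpec ≫ f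
    rw [Category.assoc, Scheme.homOfLE_ι_assoc, ← w.2.1.isoSpec_inv_ι, Category.assoc]
  obtain ⟨e₁⟩ := MultTypeBC.bc_congr hl.symm H
  obtain ⟨e₂⟩ := MultTypeBC.bc_bc l ((Us s).ι ≫ f) H
  obtain ⟨e₀⟩ := e s
  obtain ⟨e₃⟩ := MultTypeBC.bc_iso l e₀
  obtain ⟨e₄⟩ := MultTypeBC.bc_DS l (Ms s)
  exact ⟨Ms s, iMs s, ⟨e₁ ≪≫ e₂.symm ≪≫ e₃ ≪≫ e₄⟩⟩

theorem eq_one_of_comp_inv {U : Scheme.{u}} {A B Y : Over U} [GrpObj A] [GrpObj B]
    (e : Grp.mk A ≅ Grp.mk B) (g : Y ⟶ B) (h : g ≫ (overIso e).inv = 1) : g = 1 := by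
  haveI : IsMonHom (overIso e).hom := e.hom.hom.isMonHom_hom
  rw [← Category.comp_id g, ← (overIso e).inv_hom_id, ← Category.assoc, h, MonObj.one_comp]

variable {S : Scheme.{u}} {G X : Over S} [GrpObj G]

/-- The graph of a free action, after a base change splitting the group. -/
theorem isClosedImmersion_graph_bc (a : AlgGrp.Action G X) [IsAffineHom X.hom]
    (hfree : ∀ (Y : Over S) (g : Y ⟶ G) (x : Y ⟶ X), lift g x ≫ a.act = x → g = 1)
    {U : Scheme.{u}} [IsAffine U] (t : U ⟶ S) {M : Type} [AddCommGroup M]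
    (e : Grp.mk (Red.bc t G) ≅ Grp.mk (Red.DS U M)) :
    IsClosedImmersion ((Over.pullback t).map (lift a.act (snd G X))).left := by
  let ei := overIso e
  haveI : IsMonHom ei.inv := e.inv.hom.isMonHom_hom
  haveI : IsMonHom ei.hom := e.hom.hom.isMonHom_hom
  let a' := (a.bc t).restrict ei.inv
  have hfree' : ∀ (Y : Over U) (g : Y ⟶ Red.DS U M) (x : Y ⟶ Red.bc t X), lift g x ≫ a'.act = x → g = 1 := by
    intro Y g x h
    have hres : lift (g ≫ ei.inv) x ≫ (a.bc t).act = x := by
      rw [show a'.act = (ei.inv ▷ Red.bc t X) ≫ (a.bc t).act from rfl, lift_whiskerRight_assoc] at h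
      exact h
    let he := (Over.mapPullbackAdj t).homEquiv
    obtain ⟨g₀, hg₀⟩ := (he Y G).surjective (g ≫ ei.inv)
    obtain ⟨x₀, hx₀⟩ := (he Y X).surjective x
    rw [← hg₀, ← hx₀, AlgGrp.Action.lift_homEquiv_bc_act] at hres
    have h1 := hfree _ g₀ x₀ ((he Y X).injective hres)
    have h2 : DSPtsLib.theta t (g ≫ ei.inv) = 1 := by
      rw [← h1, ← hg₀]
      exact (he Y G).symm_apply_apply g₀
    have h3 : g ≫ ei.inv = 1 := (DSPtsLib.theta_bijective t).injective (h2.trans (theta_one t).symm)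
    refine @eq_one_of_comp_inv _ _ _ _ (_) (_) e g h3
  haveI : IsAffineHom (Red.bc t X).hom := MorphismProperty.pullback_snd _ _ ‹_›
  haveI : IsAffine (Red.bc t X).left := isAffine_of_isAffineHom (Red.bc t X).hom
  have hc : IsClosedImmersion (lift a'.act (snd (Red.DS U M) (Red.bc t X))).left :=
    FreeAction.isClosedImmersion_graph a' ((Red.bc t X).left.isoSpec.symm) hfree'
  let w := ei.hom ▷ Red.bc t X
  have hw : lift (a.bc t).act (snd _ _) = w ≫ lift a'.act (snd (Red.DS U M) (Red.bc t X)) := by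
    rw [comp_lift, show a'.act = (ei.inv ▷ Red.bc t X) ≫ (a.bc t).act from rfl, ← comp_whiskerRight_assoc,
      ei.hom_inv_id, id_whiskerRight, Category.id_comp, whiskerRight_snd]
  have key : lift (a.bc t).act (snd _ _) ≫ Functor.LaxMonoidal.μ (Over.pullback t) X X =
      Functor.LaxMonoidal.μ (Over.pullback t) G X ≫ (Over.pullback t).map (lift a.act (snd G X)) := by
    rw [← Functor.Monoidal.lift_μ, comp_lift_assoc, Functor.Monoidal.μ_snd, AlgGrp.Action.bc_act]
  have key' : (Over.pullback t).map (lift a.act (snd G X)) =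
      inv (Functor.LaxMonoidal.μ (Over.pullback t) G X) ≫ w ≫ lift a'.act (snd _ _) ≫
        Functor.LaxMonoidal.μ (Over.pullback t) X X := by
    rw [IsIso.eq_inv_comp, ← key, hw, Category.assoc]
  haveI : ∀ {A B : Over U} (f : A ⟶ B) [IsIso f], IsIso f.left := fun f _ =>
    inferInstanceAs (IsIso ((Over.forget U).map f))
  rw [key', Over.comp_left, Over.comp_left, Over.comp_left,
    MorphismProperty.cancel_left_of_respectsIso @IsClosedImmersion,
    MorphismProperty.cancel_left_of_respectsIso @IsClosedImmersion,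
    MorphismProperty.cancel_right_of_respectsIso @IsClosedImmersion]
  exact hc

/-- The graph of a free action of a group of multiplicative type is a closed immersion. -/
theorem isClosedImmersion_graph (hG : MultLoc G) [IsAffineHom X.hom] (a : AlgGrp.Action G X)
    (hfree : ∀ (Y : Over S) (g : Y ⟶ G) (x : Y ⟶ X), lift g x ≫ a.act = x → g = 1) :
    IsClosedImmersion (lift a.act (snd G X)).left := by
  obtain ⟨κ, R, q, hmem, hsplit⟩ := exists_affine_splitting_multLoc G hG
  let γ' := (lift a.act (snd G X)).left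
  let π := (X ⊗ X).hom
  have hmem' : Presieve.ofArrows (fun w => pullback π (q w)) (fun w => pullback.fst π (q w)) ∈
      Scheme.fpqcPrecoverage (X ⊗ X).left :=
    Precoverage.mem_coverings_of_isPullback (fun w => q w) hmem π (fun w => pullback.fst π (q w))
      (fun w => pullback.snd π (q w)) fun w => IsPullback.of_hasPullback π (q w)
  refine of_fpqc_family (P := @IsClosedImmersion) (fun w => pullback.fst π (q w)) hmem' γ' fun w => ?_
  obtain ⟨M, iM, ⟨e⟩⟩ := hsplit w
  letI := iM
  have h := isClosedImmersion_graph_bc a hfree (q w) e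
  have sq := HomSplitLocal.isPullback_map (lift a.act (snd G X)) (q w)
  rw [← sq.flip.isoPullback_inv_fst]
  exact (MorphismProperty.cancel_left_of_respectsIso @IsClosedImmersion _ _).2 h

/-- Orbit maps of such actions are closed immersions. -/
theorem isClosedImmersion_orbitMap [IsAffineHom X.hom] (a : AlgGrp.Action G X)
    (h : IsClosedImmersion (lift a.act (snd G X)).left) (σ : 𝟙_ (Over S) ⟶ X) :
    IsClosedImmersion (a.orbitMap σ).left := by
  let j : G ⟶ G ⊗ X := lift (𝟙 G) (toUnit G ≫ σ)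
  let i : X ⟶ X ⊗ X := lift (𝟙 X) (toUnit X ≫ σ)
  haveI : IsSeparated (pullback.fst G.hom X.hom) := inferInstance
  haveI : IsSeparated (pullback.fst X.hom X.hom) := inferInstance
  have hj : IsClosedImmersion j.left := by
    haveI : IsClosedImmersion (j.left ≫ (fst G X).left) := by
      rw [← Over.comp_left, lift_fst]
      exact inferInstanceAs (IsClosedImmersion (𝟙 G.left))
    haveI : IsSeparated (fst G X).left := ‹IsSeparated (pullback.fst G.hom X.hom)›
    exact IsClosedImmersion.of_comp j.left (fst G X).left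
  have hji : a.orbitMap σ ≫ i = j ≫ lift a.act (snd G X) := by
    rw [comp_lift, comp_lift, lift_snd, Category.comp_id, ← Category.assoc (a.orbitMap σ), comp_toUnit]
    rfl
  haveI : IsSeparated i.left := by
    haveI : IsSeparated (i.left ≫ (fst X X).left) := by
      rw [← Over.comp_left, lift_fst]
      exact inferInstanceAs (IsSeparated (𝟙 X.left))
    exact IsSeparated.of_comp i.left (fst X X).left
  haveI := hj
  haveI := h
  haveI : IsClosedImmersion ((a.orbitMap σ).left ≫ i.left) := by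
    rw [← Over.comp_left, hji, Over.comp_left]
    infer_instance
  exact IsClosedImmersion.of_comp _ i.left

end Groth.Agent.MultDefLib

end
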