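import Groth.Agent.MultDefLib.Avg
import Groth.Agent.MultTypeLib.Averaging

/-!
# Conjugation and rectification of homomorphisms out of a Hopf algebra with an invariant mean

The target group scheme is arbitrary: no affineness, separatedness or commutativity.
-/

universe u

open CategoryTheory CategoryTheory.Limits MonoidalCategory CartesianMonoidalCategory MonObj GrpObj AlgebraicGeometry
open TensorProduct Coalgebra WithConv

noncomputable section

namespace Groth.Agent.MultDefLib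

open GrpSchLib.AffineHopf (sp spMap spMap_comp spMap_id spMap_mul)
open MultTypeLib (Mean embTwo)

variable {R : Type u} [CommRing R] {A : Type u} [CommRing A] [HopfAlgebra R A]

local notation "iL" => (Algebra.TensorProduct.includeLeft : A →ₐ[R] A ⊗[R] A)
local notation "iR" => (Algebra.TensorProduct.includeRight : A →ₐ[R] A ⊗[R] A)
local notation "Δ" => Bialgebra.comulAlgHom R A

theorem spMap_comul : spMap Δ = spMap iL * spMap iR := by
  rw [spMap_mul]
  congr 1
  refine AlgHom.ext fun a => ?_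
  rw [AlgHom.convMul_apply]
  show comul a = _
  generalize comul (R := R) a = z
  induction z using TensorProduct.induction_on with
  | zero => simp
  | add p q hp hq => simp only [map_add, ← hp, ← hq]
  | tmul p q => simp

variable {G : Over (Spec (CommRingCat.of R))} [GrpObj G]

/-- The equation of a homomorphism, on the universal pair of points. -/
def IsHom (f : sp R A ⟶ G) : Prop := spMap Δ ≫ f = (spMap iL ≫ f) * (spMap iR ≫ f)

theorem isHom_of_isMonHom (f : sp R A ⟶ G) [IsMonHom f] : IsHom f := by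
  rw [IsHom, spMap_comul, MonObj.mul_comp]

theorem exists_pair {X : Over (Spec (CommRingCat.of R))} (h h' : X ⟶ sp R A) :
    ∃ k : X ⟶ sp R (A ⊗[R] A), k ≫ spMap iL = h ∧ k ≫ spMap iR = h' := by
  let e := pullbackSpecIso R A A
  have w : h.left ≫ Spec.map (CommRingCat.ofHom (algebraMap R A)) =
      h'.left ≫ Spec.map (CommRingCat.ofHom (algebraMap R A)) := (Over.w h).trans (Over.w h').symm
  have e1 : (pullback.lift h.left h'.left w ≫ e.hom) ≫ (spMap iL).left = h.left := by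
    refine (Category.assoc _ _ _).trans ?_
    exact (congrArg (_ ≫ ·) (pullbackSpecIso_hom_fst R A A)).trans (pullback.lift_fst _ _ _)
  have e2 : (pullback.lift h.left h'.left w ≫ e.hom) ≫ (spMap iR).left = h'.left := by
    refine (Category.assoc _ _ _).trans ?_
    exact (congrArg (_ ≫ ·) (pullbackSpecIso_hom_snd R A A)).trans (pullback.lift_snd _ _ _)
  refine ⟨Over.homMk (pullback.lift h.left h'.left w ≫ e.hom) ?_, Over.OverMorphism.ext e1, Over.OverMorphism.ext e2⟩
  rw [← Over.w (spMap iL)]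
  exact ((Category.assoc _ _ _).symm.trans (congrArg (· ≫ (sp R A).hom) e1)).trans (Over.w h)

theorem isMonHom_of_isHom {f : sp R A ⟶ G} (hf : IsHom f) : IsMonHom f := by
  have hmul : ∀ {X : Over (Spec (CommRingCat.of R))} (h h' : X ⟶ sp R A),
      (h * h') ≫ f = (h ≫ f) * (h' ≫ f) := fun {X} h h' => by
    obtain ⟨k, rfl, rfl⟩ := exists_pair h h'
    rw [← MonObj.comp_mul, ← spMap_comul, Category.assoc, hf, MonObj.comp_mul, Category.assoc, Category.assoc]
  refine ⟨?_, ?_⟩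
  · have h1 := hmul (1 : 𝟙_ _ ⟶ sp R A) 1
    rw [_root_.mul_one, right_eq_mul] at h1
    have e : ∀ {Y : Over (Spec (CommRingCat.of R))} [GrpObj Y], (1 : 𝟙_ _ ⟶ Y) = η[Y] := fun {Y} _ => by
      rw [Hom.one_def, toUnit_unique (toUnit (𝟙_ _)) (𝟙 _), Category.id_comp]
    rwa [e, e] at h1
  · have h1 := hmul (fst (sp R A) (sp R A)) (snd (sp R A) (sp R A))
    rw [Hom.mul_def, Hom.mul_def, lift_fst_snd, Category.id_comp] at h1
    rw [h1]
    congr 1

/-- A point of the base as a constant point. -/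
abbrev ofBase (P : Type u) [CommRing P] [Algebra R P] (g : sp R R ⟶ G) : sp R P ⟶ G := spMap (Algebra.ofId R P) ≫ g

/-- Conjugation by a point of the base. -/
def conj (g : sp R R ⟶ G) (f : sp R A ⟶ G) : sp R A ⟶ G := ofBase A g * f * (ofBase A g)⁻¹

omit [GrpObj G] in
theorem pull_ofBase {P Q : Type u} [CommRing P] [Algebra R P] [CommRing Q] [Algebra R Q] (a : P →ₐ[R] Q)
    (g : sp R R ⟶ G) : spMap a ≫ ofBase P g = ofBase Q g := by
  rw [ofBase, ofBase, ← Category.assoc, spMap_comp, Subsingleton.elim (a.comp (Algebra.ofId R P)) (Algebra.ofId R Q)]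

theorem isHom_conj {f : sp R A ⟶ G} (hf : IsHom f) (g : sp R R ⟶ G) : IsHom (conj g f) := by
  unfold IsHom conj at *
  simp only [MonObj.comp_mul, GrpObj.comp_inv, pull_ofBase, hf]
  group

theorem conj_mul (g h : sp R R ⟶ G) (f : sp R A ⟶ G) : conj (h * g) f = conj h (conj g f) := by
  simp only [conj, ofBase, MonObj.comp_mul, _root_.mul_inv_rev, _root_.mul_assoc]

theorem conj_one (f : sp R A ⟶ G) : conj 1 f = f := by simp [conj, ofBase]

section Setups

variable (mn : Mean R A)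

/-- Averaging one variable. -/
def D1 : Data R A R where
  j := Algebra.ofId R A
  r := Bialgebra.counitAlgHom R A
  L := mn.μ
  rj q := by simp
  Lmul q x := by rw [Algebra.ofId_apply, ← Algebra.smul_def, map_smul, smul_eq_mul]
  Lone := mn.map_one'

/-- The retraction of the pairs onto the first variable. -/
def retr : A ⊗[R] A →ₐ[R] A :=
  (Algebra.TensorProduct.rid R R A).toAlgHom.comp (Algebra.TensorProduct.map (AlgHom.id R A) (Bialgebra.counitAlgHom R A))

/-- Averaging the last of two variables. -/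
def D2 : Data R (A ⊗[R] A) A where
  j := iL
  r := retr
  L := mn.L
  rj q := by simp [retr]
  Lmul q x := by rw [mul_comm, mn.L_mul, mul_comm]
  Lone := mn.L_one

theorem map_retr_embTwo (a : A ⊗[R] A) :
    Algebra.TensorProduct.map (AlgHom.id R A) (retr (R := R) (A := A)) (embTwo R A a) = a := by
  induction a using TensorProduct.induction_on with
  | zero => simp
  | add p q hp hq => simp only [map_add, hp, hq]
  | tmul p q => simp [embTwo, retr]

/-- Averaging the last of three variables. -/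
def D3 : Data R (A ⊗[R] (A ⊗[R] A)) (A ⊗[R] A) where
  j := embTwo R A
  r := Algebra.TensorProduct.map (AlgHom.id R A) retr
  L := mn.L3
  rj := map_retr_embTwo
  Lmul q x := by rw [mul_comm, mn.L3_mul, mul_comm]
  Lone := by
    show (1 : A) ⊗ₜ mn.L 1 = _
    rw [mn.L_one]
    rfl

theorem L_comul (x : A) : mn.L (Δ x) = Algebra.ofId R A (mn.μ x) := by
  rw [Algebra.ofId_apply, Algebra.algebraMap_eq_smul_one]
  exact mn.inv x

theorem L_includeRight (x : A) : mn.L (iR x) = Algebra.ofId R A (mn.μ x) := by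
  show mn.L ((1 : A) ⊗ₜ x) = _
  rw [Mean.L_tmul, Algebra.ofId_apply, Algebra.algebraMap_eq_smul_one]

/-- `(h, h', h'') ↦ (hh', h'')`. -/
def M3 : A ⊗[R] A →ₐ[R] A ⊗[R] (A ⊗[R] A) :=
  (Algebra.TensorProduct.assoc R R R A A A).toAlgHom.comp (Algebra.TensorProduct.map Δ (AlgHom.id R A))

/-- `(h, h', h'') ↦ (h, h'h'')`. -/
def N3 : A ⊗[R] A →ₐ[R] A ⊗[R] (A ⊗[R] A) := Algebra.TensorProduct.map (AlgHom.id R A) Δ

/-- `(h, h', h'') ↦ (h', h'')`. -/
def R3 : A ⊗[R] A →ₐ[R] A ⊗[R] (A ⊗[R] A) := Algebra.TensorProduct.includeRight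

theorem M3_comul : (M3 (R := R) (A := A)).comp Δ = N3.comp Δ := AlgHom.ext fun a => by
  show (TensorProduct.assoc R A A A) (LinearMap.rTensor A (comul (R := R)) (comul a)) = _
  rw [Coalgebra.coassoc_apply]
  rfl

theorem M3_iR : (M3 (R := R) (A := A)).comp iR = R3.comp iR := AlgHom.ext fun a => by
  simp [M3, R3, Algebra.TensorProduct.one_def]

theorem M3_iL : (M3 (R := R) (A := A)).comp iL = (embTwo R A).comp Δ := AlgHom.ext fun a => by
  show Algebra.TensorProduct.assoc R R R A A A (Δ a ⊗ₜ 1) = embTwo R A (Δ a)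
  generalize Δ a = z
  induction z using TensorProduct.induction_on with
  | zero => simp
  | add p q hp hq => simp only [TensorProduct.add_tmul, map_add, hp, hq]
  | tmul p q => simp [embTwo]

theorem N3_iR : (N3 (R := R) (A := A)).comp iR = R3.comp Δ := AlgHom.ext fun _ => rfl

theorem N3_iL : (N3 (R := R) (A := A)).comp iL = (embTwo R A).comp iL := AlgHom.ext fun a => by
  simp [N3, embTwo, Algebra.TensorProduct.one_def]

theorem R3_iL : (R3 (R := R) (A := A)).comp iL = (embTwo R A).comp iR := AlgHom.ext fun _ => rfl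

theorem L3_M3 (w : A ⊗[R] A) : mn.L3 (M3 w) = Δ (mn.L w) := by
  induction w using TensorProduct.induction_on with
  | zero => simp
  | add a b ha hb => simp only [map_add, ha, hb]
  | tmul a b =>
    rw [Mean.L_tmul, map_smul]
    show mn.L3 (Algebra.TensorProduct.assoc R R R A A A (Δ a ⊗ₜ b)) = _
    generalize Δ a = z
    induction z using TensorProduct.induction_on with
    | zero => simp
    | add p q hp hq => simp only [TensorProduct.add_tmul, map_add, smul_add, hp, hq]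
    | tmul p q =>
      rw [Algebra.TensorProduct.assoc_tmul]
      show p ⊗ₜ mn.L (q ⊗ₜ b) = _
      rw [Mean.L_tmul, TensorProduct.tmul_smul]

theorem L3_N3 (w : A ⊗[R] A) : mn.L3 (N3 w) = iL (mn.L w) := by
  induction w using TensorProduct.induction_on with
  | zero => simp
  | add a b ha hb => simp only [map_add, ha, hb]
  | tmul a b =>
    show a ⊗ₜ mn.L (comul b) = _
    rw [show mn.L (comul b) = mn.μ b • (1 : A) from mn.inv b, Mean.L_tmul, map_smul, TensorProduct.tmul_smul]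
    rfl

theorem L3_R3 (w : A ⊗[R] A) : mn.L3 (R3 w) = iR (mn.L w) := rfl

end Setups

omit [GrpObj G] in
theorem pull_red {P Q : Type u} [CommRing P] [Algebra R P] [CommRing Q] [Algebra R Q] (K : Ideal R)
    (a : P →ₐ[R] Q) (f : sp R P ⟶ G) :
    spMap (mkMap K a) ≫ spMap (red K P) ≫ f = spMap (red K Q) ≫ spMap a ≫ f := by
  rw [← Category.assoc, spMap_comp, mkMap_comp_mk, ← spMap_comp, Category.assoc]

/-- Congruent homomorphisms are conjugate, one step. -/
theorem exists_conj_quot (mn : Mean R A) {J K : Ideal R} (hJ : J * J ≤ K) {u v : sp R A ⟶ G}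
    (hu : IsHom u) (hv : IsHom v) (h : Congr J v u) :
    ∃ g : sp R (R ⧸ ext K R) ⟶ G, Congr J g 1 ∧
      spMap (red K A) ≫ v = (spMap (mkMap K (Algebra.ofId R A)) ≫ g) * (spMap (red K A) ≫ u) *
        (spMap (mkMap K (Algebra.ofId R A)) ≫ g)⁻¹ := by
  have hd1 : Congr J ((spMap (red K A) ≫ v) * (spMap (red K A) ≫ u)⁻¹) 1 := by
    have := (h.pull (red K A)).mul (b := (spMap (red K A) ≫ u)⁻¹) rfl
    rwa [mul_inv_cancel] at this
  obtain ⟨g, hg⟩ := ((D1 mn).quot K).exists_rel (sq_quot hJ A) (sq_quot hJ R) (Data.const_of_congr_one hd1)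
  have hg1 : Congr J g 1 := by
    have := hd1.pull ((D1 mn).quot K).r
    rw [MonObj.comp_one] at this
    exact hg.congr.trans this
  refine ⟨g, hg1, ?_⟩
  have h1 := hg.mapQuot (D2 mn) hJ Δ (Algebra.ofId R A) (fun q => by simp [D1, D2]) (L_comul mn)
  have h2 := hg.mapQuot (D2 mn) hJ iR (Algebra.ofId R A)
    (fun q => AlgHom.congr_fun (Subsingleton.elim ((iR).comp (Algebra.ofId R A)) ((iL).comp (Algebra.ofId R A))) q)
    (L_includeRight mn)
  have hj := fun q : sp R (A ⧸ ext K A) ⟶ G => ((D2 mn).quot K).rel_j (sq_quot hJ (A ⊗[R] A)) (sq_quot hJ A) q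
  let du := spMap (red K A) ≫ u
  let dv := spMap (red K A) ≫ v
  have h3 := (((hj (dv * du⁻¹)).mul (hj du)).mul h2).mul (hj du).inv
  have e : spMap (mkMap K Δ) ≫ (dv * du⁻¹) = (spMap ((D2 mn).quot K).j ≫ (dv * du⁻¹)) *
      (spMap ((D2 mn).quot K).j ≫ du) * (spMap (mkMap K iR) ≫ (dv * du⁻¹)) *
      (spMap ((D2 mn).quot K).j ≫ du)⁻¹ := by
    show _ = (spMap (mkMap K iL) ≫ _) * (spMap (mkMap K iL) ≫ _) * _ * (spMap (mkMap K iL) ≫ _)⁻¹
    unfold IsHom at hu hv
    simp only [du, dv, MonObj.comp_mul, GrpObj.comp_inv, pull_red, hu, hv]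
    group
  rw [← e] at h3
  have h4 := h1.unique h3
  generalize spMap (mkMap K (Algebra.ofId R A)) ≫ g = gam at h4 ⊢
  show dv = gam * du * gam⁻¹
  rw [eq_mul_inv_iff_mul_eq]
  conv_rhs => rw [h4]
  group

/-- Almost homomorphisms become homomorphisms, one step. -/
theorem exists_hom_quot (mn : Mean R A) {J K : Ideal R} (hJ : J * J ≤ K) {f : sp R A ⟶ G}
    (h : Congr J (spMap Δ ≫ f) ((spMap iL ≫ f) * (spMap iR ≫ f))) :
    ∃ f' : sp R (A ⧸ ext K A) ⟶ G, Congr J f' (spMap (red K A) ≫ f) ∧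
      spMap (mkMap K Δ) ≫ f' = (spMap (mkMap K iL) ≫ f') * (spMap (mkMap K iR) ≫ f') := by
  let F := spMap (red K A) ≫ f
  let c := (spMap (mkMap K Δ) ≫ F) * (spMap (mkMap K iR) ≫ F)⁻¹ * (spMap (mkMap K iL) ≫ F)⁻¹
  have hc1 : Congr J c 1 := by
    have h' := h.pull (red K (A ⊗[R] A))
    simp only [MonObj.comp_mul, ← pull_red] at h'
    have := (h'.mul (b := (spMap (mkMap K iR) ≫ F)⁻¹) rfl).mul (b := (spMap (mkMap K iL) ≫ F)⁻¹) rfl
    rwa [mul_inv_cancel_right, mul_inv_cancel] at this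
  obtain ⟨b, hb⟩ := ((D2 mn).quot K).exists_rel (sq_quot hJ (A ⊗[R] A)) (sq_quot hJ A) (Data.const_of_congr_one hc1)
  have hb1 : Congr J b 1 := by
    have := hc1.pull ((D2 mn).quot K).r
    rw [MonObj.comp_one] at this
    exact hb.congr.trans this
  refine ⟨b * F, by simpa using hb1.mul (b := F) rfl, ?_⟩
  have hM := hb.mapQuot (D3 mn) hJ M3 Δ (fun q => AlgHom.congr_fun M3_iL q) (L3_M3 mn)
  have hN := hb.mapQuot (D3 mn) hJ N3 iL (fun q => AlgHom.congr_fun N3_iL q) (L3_N3 mn)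
  have hR := hb.mapQuot (D3 mn) hJ R3 iR (fun q => AlgHom.congr_fun R3_iL q) (L3_R3 mn)
  have hj := fun q : sp R ((A ⊗[R] A) ⧸ ext K (A ⊗[R] A)) ⟶ G =>
    ((D3 mn).quot K).rel_j (sq_quot hJ (A ⊗[R] (A ⊗[R] A))) (sq_quot hJ (A ⊗[R] A)) q
  have h3 := ((hN.mul (hj (spMap (mkMap K iL) ≫ F))).mul hR).mul (hj (spMap (mkMap K iL) ≫ F)).inv
  have h3' := hM.mul (hj c)
  have pc : ∀ (a : A ⊗[R] A →ₐ[R] A ⊗[R] (A ⊗[R] A)) (b : A →ₐ[R] A ⊗[R] A),
      spMap (mkMap K a) ≫ spMap (red K (A ⊗[R] A)) ≫ spMap b ≫ f =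
        spMap (red K (A ⊗[R] (A ⊗[R] A))) ≫ spMap (a.comp b) ≫ f := fun a b => by
    rw [pull_red, ← spMap_comp, Category.assoc]
  have e : (spMap (mkMap K M3) ≫ c) * (spMap ((D3 mn).quot K).j ≫ c) =
      (spMap (mkMap K N3) ≫ c) * (spMap ((D3 mn).quot K).j ≫ spMap (mkMap K iL) ≫ F) *
        (spMap (mkMap K R3) ≫ c) * (spMap ((D3 mn).quot K).j ≫ spMap (mkMap K iL) ≫ F)⁻¹ := by
    show _ * (spMap (mkMap K (embTwo R A)) ≫ c) = _ * (spMap (mkMap K (embTwo R A)) ≫ _) * _ *
      (spMap (mkMap K (embTwo R A)) ≫ _)⁻¹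
    simp only [c, F, MonObj.comp_mul, GrpObj.comp_inv, pull_red K Δ, pull_red K iL, pull_red K iR, pc, M3_comul,
      M3_iR, M3_iL, N3_iR, N3_iL, R3_iL]
    group
  rw [← e] at h3
  have h4 := h3'.unique h3
  rw [MonObj.comp_mul, MonObj.comp_mul, MonObj.comp_mul]
  generalize spMap (mkMap K Δ) ≫ b = bΔ at h4 ⊢
  generalize spMap (mkMap K iL) ≫ b = bL at h4 ⊢
  generalize spMap (mkMap K iR) ≫ b = bR at h4 ⊢
  simp only [c] at h4
  generalize spMap (mkMap K Δ) ≫ F = fΔ at h4 ⊢
  generalize spMap (mkMap K iL) ≫ F = fL at h4 ⊢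
  generalize spMap (mkMap K iR) ≫ F = fR at h4 ⊢
  have h5 : bΔ * fΔ = bL * fL * bR * fL⁻¹ * fL * fR := by rw [← h4]; group
  rw [h5]
  group

/-- Congruent homomorphisms are conjugate when the square of the ideal is zero. -/
theorem exists_conj_of_sq_zero (mn : Mean R A) {J : Ideal R} (hJ : J * J = ⊥) {u v : sp R A ⟶ G}
    (hu : IsHom u) (hv : IsHom v) (h : Congr J v u) : ∃ g : sp R R ⟶ G, Congr J g 1 ∧ v = conj g u := by
  obtain ⟨g, hg, he⟩ := exists_conj_quot mn (K := ⊥) hJ.le hu hv h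
  refine ⟨spMap (unredBot R) ≫ g, ?_, ?_⟩
  · have := hg.pull (unredBot R)
    rwa [MonObj.comp_one] at this
  · have h2 := congrArg (spMap (unredBot A) ≫ ·) he
    simp only [MonObj.comp_mul, GrpObj.comp_inv, ← Category.assoc, spMap_comp, unredBot_comp, spMap_id,
      Category.id_comp] at h2
    rw [show (unredBot A).comp (mkMap ⊥ (Algebra.ofId R A)) = (Algebra.ofId R A).comp (unredBot R) from
        AlgHom.ext fun x => by obtain ⟨x, rfl⟩ := red_surjective x; rfl,
      ← spMap_comp, Category.assoc] at h2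
    exact h2

omit [GrpObj G] in
theorem unred_cancel {P : Type u} [CommRing P] [Algebra R P] (f : sp R P ⟶ G) :
    spMap (unredBot P) ≫ spMap (red (⊥ : Ideal R) P) ≫ f = f := by
  rw [← Category.assoc, spMap_comp, unredBot_comp, spMap_id, Category.id_comp]

/-- Lifting of points along reduction modulo `K`. -/
def CanLift (G : Over (Spec (CommRingCat.of R))) (K : Ideal R) : Prop :=
  ∀ (P : Type u) [CommRing P] [Algebra R P] (q : sp R (P ⧸ ext K P) ⟶ G), ∃ p : sp R P ⟶ G, spMap (red K P) ≫ p = q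

/-- Congruent homomorphisms to a smooth group are conjugate. -/
theorem exists_conj_nilpotent (mn : Mean R A) {J : Ideal R} (hJ : IsNilpotent J)
    (hlift : ∀ K : Ideal R, K ≤ J → CanLift G K) {u v : sp R A ⟶ G}
    (hu : IsHom u) (hv : IsHom v) (h : Congr J v u) : ∃ g : sp R R ⟶ G, Congr J g 1 ∧ v = conj g u := by
  have key : ∀ k : ℕ, ∃ g : sp R R ⟶ G, Congr J g 1 ∧ Congr (J ^ 2 ^ k) v (conj g u) := by
    intro k
    induction k with
    | zero => exact ⟨1, rfl, by simpa [conj_one] using h⟩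
    | succ k ih =>
      obtain ⟨g, hg1, hg⟩ := ih
      have hsq : J ^ 2 ^ k * J ^ 2 ^ k = J ^ 2 ^ (k + 1) := by rw [← pow_add, pow_succ, mul_two]
      obtain ⟨q, hq1, hq⟩ := exists_conj_quot mn hsq.le (isHom_conj hu g) hv hg
      have hle : J ^ 2 ^ (k + 1) ≤ J ^ 2 ^ k := hsq ▸ Ideal.mul_le_right
      have hkJ : J ^ 2 ^ k ≤ J := Ideal.pow_le_self (by positivity)
      obtain ⟨p, rfl⟩ := hlift _ (hle.trans hkJ) R q
      have hp1 : Congr (J ^ 2 ^ k) p 1 := Congr.of_quot hle (by rwa [MonObj.comp_one])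
      refine ⟨p * g, by simpa using (hp1.mono hkJ).mul hg1, ?_⟩
      rw [conj_mul]
      show spMap _ ≫ v = spMap _ ≫ conj p (conj g u)
      simp only [conj, MonObj.comp_mul, GrpObj.comp_inv] at hq ⊢
      rw [hq, ofBase, pull_red]
  obtain ⟨n, hn⟩ := hJ
  obtain ⟨g, hg1, hg⟩ := key n
  refine ⟨g, hg1, ?_⟩
  rw [show J ^ 2 ^ n = ⊥ from pow_eq_zero_of_le Nat.lt_two_pow_self.le hn] at hg
  have := congrArg (spMap (unredBot A) ≫ ·) hg
  rw [unred_cancel, unred_cancel] at this
  exact this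

/-- Homomorphisms modulo a nilpotent ideal lift to smooth groups. -/
theorem exists_hom_nilpotent (mn : Mean R A) {J : Ideal R} (hJ : IsNilpotent J)
    (hlift : ∀ K : Ideal R, K ≤ J → CanLift G K) {f : sp R A ⟶ G}
    (h : Congr J (spMap Δ ≫ f) ((spMap iL ≫ f) * (spMap iR ≫ f))) :
    ∃ f' : sp R A ⟶ G, Congr J f' f ∧ IsHom f' := by
  have key : ∀ k : ℕ, ∃ f' : sp R A ⟶ G, Congr J f' f ∧
      Congr (J ^ 2 ^ k) (spMap Δ ≫ f') ((spMap iL ≫ f') * (spMap iR ≫ f')) := by
    intro k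
    induction k with
    | zero => exact ⟨f, rfl, by simpa using h⟩
    | succ k ih =>
      obtain ⟨g, hg1, hg⟩ := ih
      have hsq : J ^ 2 ^ k * J ^ 2 ^ k = J ^ 2 ^ (k + 1) := by rw [← pow_add, pow_succ, mul_two]
      obtain ⟨q, hq1, hq⟩ := exists_hom_quot mn hsq.le hg
      have hle : J ^ 2 ^ (k + 1) ≤ J ^ 2 ^ k := hsq ▸ Ideal.mul_le_right
      have hkJ : J ^ 2 ^ k ≤ J := Ideal.pow_le_self (by positivity)
      obtain ⟨p, rfl⟩ := hlift _ (hle.trans hkJ) A q
      refine ⟨p, ((Congr.of_quot hle hq1).mono hkJ).trans hg1, ?_⟩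
      unfold Congr
      rw [MonObj.comp_mul]
      simpa only [pull_red] using hq
  obtain ⟨n, hn⟩ := hJ
  obtain ⟨g, hg1, hg⟩ := key n
  refine ⟨g, hg1, ?_⟩
  rw [show J ^ 2 ^ n = ⊥ from pow_eq_zero_of_le Nat.lt_two_pow_self.le hn] at hg
  have := congrArg (spMap (unredBot (A ⊗[R] A)) ≫ ·) hg
  rw [unred_cancel, unred_cancel] at this
  exact this

end Groth.Agent.MultDefLib

end
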