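import Groth.Agent.MultTypeLib.HopfModel
import Groth.Agent.S3032
import Groth.Prelude.Def_ComodSub
import Groth.Prelude.Def_CoactBr2
import Mathlib.RingTheory.Smooth.Flat

/-!
# A finite comodule generating the coordinate ring of a smooth affine group

For a smooth Hopf algebra `A` over an arbitrary ring `R` there is a finite `R`-module `V` with a
coaction of `A` and a morphism of comodules `V → A` whose image generates `A` as an algebra: descend
to a noetherian base, where the finitely generated subcomodules exhaust the regular comodule.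
-/

universe u

open TensorProduct Coalgebra

set_option linter.style.haveILetI false

noncomputable section

namespace Groth.Agent.MultDefLib.HopfComodModel

open DirColim (IsColim)

/-- Over a noetherian ring a flat algebra of finite type is generated by a finite subcomodule. -/
theorem exists_gen_subcomod (G X : Type u) [CommRing G] [IsNoetherianRing G] [CommRing X] [Bialgebra G X]
    [Algebra.FiniteType G X] [Module.Flat G X] :
    ∃ W : Submodule G X, HopfRep.IsSubcomod (k := G) (A := X) W ∧ W.FG ∧ Algebra.adjoin G (W : Set X) = ⊤ := by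
  obtain ⟨s, hs⟩ := Algebra.FiniteType.out (R := G) (A := X)
  obtain ⟨W, hW, hle, hfg⟩ := Groth.Agent.S3032.result G X X (Submodule.span G (s : Set X)) ⟨s, rfl⟩
  refine ⟨W, hW, hfg, top_le_iff.1 (hs ▸ Algebra.adjoin_mono fun x hx => ?_)⟩
  exact hle (Submodule.subset_span hx)

/-- Base change of a generating morphism of comodules, transported along an isomorphism of bialgebras. -/
theorem exists_gen_comod_bc (R : Type u) [CommRing R] {A : Type u} [CommRing A] [Bialgebra R A]
    {G : Type u} [CommRing G] [Algebra G R] {X : Type u} [CommRing X] [Bialgebra G X]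
    {W : Type u} [AddCommGroup W] [Module G W] [HopfRep.Comod G X W] [Module.Finite G W]
    (ι : W →ₗ[G] X) (hι : comul ∘ₗ ι = ι.rTensor X ∘ₗ HopfRep.Comod.coact (k := G) (A := X))
    (hgen : Algebra.adjoin G (Set.range ι) = ⊤) (e : R ⊗[G] X ≃ₐc[R] A) :
    ∃ (V : Type u) (_ : AddCommGroup V) (_ : Module R V) (_ : HopfRep.Comod R A V),
      Module.Finite R V ∧ ∃ j : V →ₗ[R] A,
        comul ∘ₗ j = j.rTensor A ∘ₗ HopfRep.Comod.coact (k := R) (A := A) ∧
        Algebra.adjoin R (Set.range j) = ⊤ := by
  let c := CoactBr.Comod.baseChange G R X W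
  let el : R ⊗[G] X →ₗ[R] A := (e : R ⊗[G] X ≃ₐ[R] A).toLinearMap
  have hel : ∀ x, el x = e x := fun x => rfl
  have hcomul : comul ∘ₗ el = TensorProduct.map el el ∘ₗ comul :=
    LinearMap.ext fun x => (CoalgHomClass.map_comp_comul_apply e x).symm
  have hcounit : counit ∘ₗ el = counit := LinearMap.ext fun x => CoalgHomClass.counit_comp_apply e x
  let cA : HopfRep.Comod R A (R ⊗[G] W) :=
    { coact := el.lTensor (R ⊗[G] W) ∘ₗ c.coact
      coassoc := by
        refine LinearMap.ext fun v => ?_
        have h := LinearMap.congr_fun c.coassoc v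
        simp only [LinearMap.comp_apply, LinearEquiv.coe_coe] at h ⊢
        generalize hz : c.coact v = z at h
        rw [← LinearMap.comp_apply, LinearMap.rTensor_comp_lTensor, ← LinearMap.lTensor_comp_rTensor,
          LinearMap.comp_apply, ← LinearMap.lTensor_comp_apply, hcomul, LinearMap.lTensor_comp_apply, ← h]
        clear h hz v
        induction z using TensorProduct.induction_on with
        | zero => simp
        | add p q hp hq => simp only [map_add, hp, hq]
        | tmul w x =>
          simp only [LinearMap.lTensor_tmul, LinearMap.rTensor_tmul, LinearMap.comp_apply]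
          generalize c.coact w = y
          induction y using TensorProduct.induction_on with
          | zero => simp
          | add p q hp hq => simp only [TensorProduct.add_tmul, map_add, hp, hq]
          | tmul w' x' => simp
      counit_comp := by
        rw [← LinearMap.comp_assoc, ← LinearMap.lTensor_comp, hcounit]
        exact c.counit_comp }
  let j : R ⊗[G] W →ₗ[R] A := el ∘ₗ ι.baseChange R
  refine ⟨R ⊗[G] W, inferInstance, inferInstance, cA, inferInstance, j, ?_, ?_⟩
  · have key : comul ∘ₗ ι.baseChange R = (ι.baseChange R).rTensor (R ⊗[G] X) ∘ₗ c.coact := by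
      refine TensorProduct.AlgebraTensorModule.ext fun r w => ?_
      rw [LinearMap.comp_apply, LinearMap.comp_apply, LinearMap.baseChange_tmul, TensorProduct.comul_tmul,
        show comul (R := G) (ι w) = ι.rTensor X (HopfRep.Comod.coact (k := G) (A := X) w) from
          LinearMap.congr_fun hι w, CoactBr.baseChange_coact_tmul]
      generalize HopfRep.Comod.coact (k := G) (A := X) w = z
      induction z using TensorProduct.induction_on with
      | zero => simp
      | add p q hp hq => simp only [map_add, tmul_add, hp, hq]
      | tmul a x =>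
        rw [show comul (R := R) r = (1 : R) ⊗ₜ[R] r from rfl]
        simp [AlgebraTensorModule.tensorTensorTensorComm_tmul]
    refine LinearMap.ext fun v => ?_
    show comul (el (ι.baseChange R v)) =
      (el ∘ₗ ι.baseChange R).rTensor A (el.lTensor (R ⊗[G] W) (c.coact v))
    rw [show comul (el (ι.baseChange R v)) = TensorProduct.map el el (comul (ι.baseChange R v)) from
      LinearMap.congr_fun hcomul _, show comul (ι.baseChange R v) = _ from LinearMap.congr_fun key v,
      LinearMap.comp_apply, ← LinearMap.comp_apply, LinearMap.map_comp_rTensor,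
      ← LinearMap.rTensor_comp_lTensor, LinearMap.comp_apply]
  · rw [show Set.range j = (e : R ⊗[G] X ≃ₐ[R] A).toAlgHom '' Set.range (ι.baseChange R) by
      rw [← Set.range_comp]; rfl, ← AlgHom.map_adjoin]
    have : Algebra.adjoin R (Set.range (ι.baseChange R)) = ⊤ := by
      refine top_le_iff.1 fun z _ => ?_
      induction z using TensorProduct.induction_on with
      | zero => exact zero_mem _
      | add p q hp hq => exact add_mem (hp trivial) (hq trivial)
      | tmul r x =>
        rw [show r ⊗ₜ[G] x = r • ((1 : R) ⊗ₜ[G] x) by rw [TensorProduct.smul_tmul', smul_eq_mul, mul_one]]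
        refine Subalgebra.smul_mem _ ?_ r
        have hle : Algebra.adjoin G (Set.range ι) ≤
            ((Algebra.adjoin R (Set.range (ι.baseChange R))).restrictScalars G).comap
              (Algebra.TensorProduct.includeRight : X →ₐ[G] R ⊗[G] X) := by
          refine Algebra.adjoin_le ?_
          rintro _ ⟨w, rfl⟩
          exact Algebra.subset_adjoin ⟨(1 : R) ⊗ₜ w, by simp⟩
        exact hle (hgen ▸ (trivial : x ∈ (⊤ : Subalgebra G X)))
    rw [this, Algebra.map_top, AlgHom.range_eq_top]
    exact (e : R ⊗[G] X ≃ₐ[R] A).surjective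

set_option maxHeartbeats 800000 in
/-- Base change in steps, as an isomorphism of bialgebras. -/
theorem nonempty_cancel (G S R X : Type u) [CommRing G] [CommRing S] [CommRing R] [Algebra G S] [Algebra S R]
    [Algebra G R] [IsScalarTower G S R] [CommRing X] [Bialgebra G X] :
    Nonempty (R ⊗[S] (S ⊗[G] X) ≃ₐc[R] R ⊗[G] X) := by
  let e := Algebra.TensorProduct.cancelBaseChange G S R R X
  refine ⟨BialgEquiv.ofAlgEquiv e ?_ ?_⟩
  · refine MultTypeLib.ext_gens (MultTypeLib.adjoin_one_tmul_eq_top (P := S)) ?_
    rintro _ ⟨x, rfl⟩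
    simp [e, Algebra.smul_def, IsScalarTower.algebraMap_apply G S R]
  · refine MultTypeLib.ext_gens (MultTypeLib.adjoin_one_tmul_eq_top (P := S)) ?_
    rintro _ ⟨x, rfl⟩
    simp only [AlgHom.comp_apply, AlgEquiv.coe_toAlgHom, Bialgebra.comulAlgHom_apply, e,
      Algebra.TensorProduct.cancelBaseChange_tmul, one_smul, TensorProduct.comul_tmul]
    generalize comul (R := G) x = z
    induction z using TensorProduct.induction_on with
    | zero => simp
    | add p q hp hq => simp only [map_add, tmul_add, hp, hq]
    | tmul a b =>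
      simp [show comul (R := R) (1 : R) = (1 : R) ⊗ₜ[R] (1 : R) from rfl,
        show comul (R := S) (1 : S) = (1 : S) ⊗ₜ[S] (1 : S) from rfl]

set_option maxHeartbeats 1000000 in
set_option synthInstance.maxHeartbeats 200000 in
/-- A finite comodule with a morphism to the regular comodule generating the algebra. -/
theorem exists_gen_comod (R A : Type u) [CommRing R] [CommRing A] [HopfAlgebra R A] [Algebra.Smooth R A] :
    ∃ (V : Type u) (_ : AddCommGroup V) (_ : Module R V) (_ : HopfRep.Comod R A V),
      Module.Finite R V ∧ ∃ j : V →ₗ[R] A,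
        comul ∘ₗ j = j.rTensor A ∘ₗ HopfRep.Comod.coact (k := R) (A := A) ∧
        Algebra.adjoin R (Set.range j) = ⊤ := by
  obtain ⟨G, _, _, hNG, -, X, _, _, hXft, ⟨e⟩⟩ := MultTypeLib.exists_hopf_model R A
  haveI : Algebra.FinitePresentation G X := Algebra.FinitePresentation.of_finiteType.1 hXft
  haveI : Algebra.Smooth R (R ⊗[G] X) := Algebra.Smooth.of_equiv (e : R ⊗[G] X ≃ₐ[R] A).symm
  obtain ⟨S, hS⟩ := DirColim.exists_smooth (C := X) (MultTypeLib.isColim_fg G R) inferInstance
  haveI : Algebra.FiniteType G S.1 := (Subalgebra.fg_iff_finiteType _).1 S.2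
  haveI : IsNoetherianRing S.1 := Algebra.FiniteType.isNoetherianRing G S.1
  haveI : Module.Flat S.1 (S.1 ⊗[G] X) := Algebra.Smooth.flat S.1 (S.1 ⊗[G] X)
  obtain ⟨W, hW, hWfg, hgen⟩ := exists_gen_subcomod S.1 (S.1 ⊗[G] X)
  letI := ComodSub.Comod.restr (HopfRep.Comod.regular S.1 (S.1 ⊗[G] X)) W hW
  haveI : Module.Finite S.1 W := Module.Finite.iff_fg.2 hWfg
  obtain ⟨e₀⟩ := nonempty_cancel G S.1 R X
  let e' : R ⊗[S.1] (S.1 ⊗[G] X) ≃ₐc[R] A := e₀.trans e
  refine exists_gen_comod_bc R W.subtype
    (LinearMap.ext fun w => (ComodSub.restr_coact_coe (HopfRep.Comod.regular S.1 (S.1 ⊗[G] X)) W hW w).symm) ?_ e'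
  rwa [show Set.range W.subtype = (W : Set _) from Subtype.range_coe]

end Groth.Agent.MultDefLib.HopfComodModel

end
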