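import Groth.Agent.MultDefLib.Lift
import Mathlib.AlgebraicGeometry.Morphisms.ClosedImmersion
import Mathlib.AlgebraicGeometry.Morphisms.Immersion

/-!
# A morphism of an affine scheme over a ring which is an immersion modulo a nilpotent ideal is an immersion
-/

universe u

open CategoryTheory CategoryTheory.Limits AlgebraicGeometry

set_option backward.isDefEq.respectTransparency false
set_option linter.style.haveILetI false

noncomputable section

namespace Groth.Agent.MultDefLib

open GrpSchLib.AffineHopf (sp spMap)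

/-- Nilpotent Nakayama for images. -/
theorem surjective_of_surjective_mod {R B A : Type u} [CommRing R] [CommRing B] [CommRing A] (ρ : R →+* B)
    (φ : B →+* A) {J : Ideal R} (hJ : IsNilpotent J)
    (h : ∀ a, ∃ b, a - φ b ∈ J.map (φ.comp ρ)) : Function.Surjective φ := by
  have step : ∀ n (a : A), ∃ b, a - φ b ∈ (J ^ n).map (φ.comp ρ) := by
    intro n
    induction n with
    | zero => exact fun a => ⟨0, by simp [Ideal.map_top]⟩
    | succ n ih =>
      intro a
      obtain ⟨b, hb⟩ := ih a
      suffices hs : ∀ z ∈ (J ^ n).map (φ.comp ρ), ∃ b, z - φ b ∈ (J ^ (n + 1)).map (φ.comp ρ) by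
        obtain ⟨b', hb'⟩ := hs _ hb
        exact ⟨b + b', by rwa [map_add, ← sub_sub]⟩
      intro z hz
      induction hz using Submodule.span_induction with
      | mem y hy =>
        obtain ⟨r, hr, rfl⟩ := hy
        exact ⟨ρ r, by simp⟩
      | zero => exact ⟨0, by simp⟩
      | add x y _ _ hx hy =>
        obtain ⟨b₁, h₁⟩ := hx
        obtain ⟨b₂, h₂⟩ := hy
        exact ⟨b₁ + b₂, by rw [map_add, add_sub_add_comm]; exact add_mem h₁ h₂⟩
      | smul c x _ hx =>
        obtain ⟨b₁, h₁⟩ := hx
        obtain ⟨d, hd⟩ := h c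
        refine ⟨d * b₁, ?_⟩
        have e : c • x - φ (d * b₁) = c * (x - φ b₁) + (c - φ d) * φ b₁ := by
          rw [smul_eq_mul, map_mul]; ring
        rw [e]
        refine add_mem (Ideal.mul_mem_left _ _ h₁) ?_
        have hx' : φ b₁ ∈ (J ^ n).map (φ.comp ρ) := by
          have hle : (J ^ (n + 1)).map (φ.comp ρ) ≤ (J ^ n).map (φ.comp ρ) :=
            Ideal.map_mono (Ideal.pow_le_pow_right n.le_succ)
          rw [← sub_sub_cancel x (φ b₁)]
          exact Ideal.sub_mem _ ‹_› (hle h₁)
        rw [pow_succ', Ideal.map_mul]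
        exact Ideal.mul_mem_mul hd hx'
  intro a
  obtain ⟨n, hn⟩ := hJ
  obtain ⟨b, hb⟩ := step n a
  rw [show J ^ n = ⊥ from hn, Ideal.map_bot, Ideal.mem_bot, sub_eq_zero] at hb
  exact ⟨b, hb.symm⟩

variable {R A : Type u} [CommRing R] [CommRing A] [Algebra R A] {X : Over (Spec (CommRingCat.of R))}

/-- A morphism out of an affine scheme which is an immersion modulo a nilpotent ideal of the base is an immersion. -/
theorem isImmersion_of_red {J : Ideal R} (hJ : IsNilpotent J) (g : sp R A ⟶ X)
    (h : IsImmersion (spMap (red J A) ≫ g).left) : IsImmersion g.left := by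
  have hker : RingHom.ker (red J A).toRingHom = ext J A := Ideal.mk_ker
  obtain ⟨n, hn⟩ := hJ
  have hnil : IsNilpotent (ext J A) := ⟨n, by
    show (J.map (algebraMap R A)) ^ n = ⊥
    rw [← Ideal.map_pow, show J ^ n = ⊥ from hn, Ideal.map_bot]⟩
  let t := (spMap (red J A)).left
  haveI : IsClosedImmersion t := IsClosedImmersion.spec_of_surjective _ Ideal.Quotient.mk_surjective
  have hsurj : Function.Surjective t := by
    intro y
    let y' : PrimeSpectrum A := y
    obtain ⟨z, hz⟩ : y' ∈ Set.range (PrimeSpectrum.comap (red J A).toRingHom) := by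
      rw [range_comap_of_surjective _ (red J A).toRingHom red_surjective, hker]
      intro a ha
      obtain ⟨m, hm⟩ := hnil
      exact y'.isPrime.mem_of_pow_mem m (by
        have := Ideal.pow_mem_pow ha m
        rw [show ext J A ^ m = ⊥ from hm, Ideal.mem_bot] at this
        rw [this]; exact Ideal.zero_mem _)
    exact ⟨z, hz⟩
  have ht : Topology.IsEmbedding t := t.isClosedEmbedding.isEmbedding
  have hhomeo : IsHomeomorph t := isHomeomorph_iff_isEmbedding_surjective.mpr ⟨ht, hsurj⟩
  have hemb : Topology.IsEmbedding g.left := by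
    have h1 : Topology.IsEmbedding ((t ≫ g.left)) := (t ≫ g.left).isEmbedding
    have : ⇑g.left = ⇑(t ≫ g.left) ∘ (hhomeo.homeomorph _).symm := funext fun y => by
      show g.left y = g.left (t ((hhomeo.homeomorph _).symm y))
      rw [show t ((hhomeo.homeomorph _).symm y) = y from (hhomeo.homeomorph _).apply_symm_apply y]
    rw [this]
    exact h1.comp (hhomeo.homeomorph _).symm.isEmbedding
  haveI : SurjectiveOnStalks g.left := by
    refine ⟨fun y => ?_⟩
    obtain ⟨z, rfl⟩ := hsurj y
    let π := (Spec (CommRingCat.of A)).presheaf.stalk (t z)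
    let ρ : R →+* X.left.presheaf.stalk (g.left (t z)) :=
      (Spec.preimage (X.left.fromSpecStalk (g.left (t z)) ≫ X.hom)).hom
    refine surjective_of_surjective_mod ρ (g.left.stalkMap (t z)).hom ⟨n, hn⟩ fun a => ?_
    have hcomp : ((g.left.stalkMap (t z)).hom).comp ρ =
        (Spec.preimage ((Spec (CommRingCat.of A)).fromSpecStalk (t z) ≫ (sp R A).hom)).hom := by
      rw [← CommRingCat.hom_comp]
      congr 1
      apply Spec.map_injective
      rw [Spec.map_comp, Spec.map_preimage, Spec.map_preimage, Scheme.SpecMap_stalkMap_fromSpecStalk_assoc]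
      exact congrArg (_ ≫ ·) (Over.w g)
    rw [hcomp]
    obtain ⟨b, hb⟩ := (t ≫ g.left).stalkMap_surjective z (t.stalkMap z a)
    refine ⟨b, ?_⟩
    have hb2 : t.stalkMap z (g.left.stalkMap (t z) b) = t.stalkMap z a := by
      rw [← hb, Scheme.Hom.stalkMap_comp]
      rfl
    have hk : ∀ x, t.stalkMap z x = 0 →
        x ∈ J.map (Spec.preimage ((Spec (CommRingCat.of A)).fromSpecStalk (t z) ≫ (sp R A).hom)).hom := by
      intro (x : π) hx
      let p : Ideal A := (show PrimeSpectrum A from t z).asIdeal
      have harr := Scheme.arrowStalkMapSpecIso (CommRingCat.ofHom (red J A).toRingHom) z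
      let e1 := (StructureSheaf.stalkIso (CommRingCat.of A) (t z))
      have key : (Spec.preimage ((Spec (CommRingCat.of A)).fromSpecStalk (t z) ≫ (sp R A).hom)).hom =
          (StructureSheaf.toStalk A (t z)).hom.comp (algebraMap R A) := by
        rw [← CommRingCat.hom_ofHom ((StructureSheaf.toStalk A (t z)).hom.comp (algebraMap R A))]
        congr 1
        apply Spec.map_injective
        rw [Spec.map_preimage, Spec.fromSpecStalk_eq]
        show Spec.map _ ≫ Spec.map (CommRingCat.ofHom (algebraMap R A)) = _
        rw [← Spec.map_comp]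
        rfl
      rw [key, ← Ideal.map_map]
      letI : Algebra A π := (StructureSheaf.toStalk A (t z)).hom.toAlgebra
      haveI : IsLocalization.AtPrime π p := StructureSheaf.IsLocalization.to_stalk (R := A) (t z)
      obtain ⟨a₁, s, rfl⟩ := IsLocalization.exists_mk'_eq p.primeCompl x
      refine IsLocalization.mem_map_algebraMap_iff p.primeCompl π |>.mpr ?_
      have h0 : t.stalkMap z (algebraMap A π a₁) = 0 := by
        have : algebraMap A π a₁ = IsLocalization.mk' π a₁ s * algebraMap A π s := (IsLocalization.mk'_spec π a₁ s).symm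
        rw [this, map_mul, hx, zero_mul]
      let π' := (Spec (CommRingCat.of (A ⧸ ext J A))).presheaf.stalk z
      letI : Algebra (A ⧸ ext J A) π' := (StructureSheaf.toStalk (A ⧸ ext J A) z).hom.toAlgebra
      haveI : IsLocalization.AtPrime π' (show PrimeSpectrum (A ⧸ ext J A) from z).asIdeal :=
        StructureSheaf.IsLocalization.to_stalk (R := A ⧸ ext J A) z
      have h1 : algebraMap (A ⧸ ext J A) π' (red J A a₁) = 0 := by
        rw [← h0]
        exact (AlgebraicGeometry.stalkMap_toStalk_apply (CommRingCat.ofHom (red J A).toRingHom) z a₁).symm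
      obtain ⟨⟨c, hc⟩, hcz⟩ :=
        (IsLocalization.map_eq_zero_iff (show PrimeSpectrum (A ⧸ ext J A) from z).asIdeal.primeCompl π' _).mp h1
      obtain ⟨c, rfl⟩ := red_surjective c
      refine ⟨⟨⟨c * a₁, Ideal.Quotient.eq_zero_iff_mem.mp (by rw [← hcz, map_mul]; rfl)⟩,
        ⟨c * s, fun hcs => (p.primeCompl.mul_mem (show c ∈ p.primeCompl from hc) s.2) hcs⟩⟩, ?_⟩
      show IsLocalization.mk' π a₁ s * algebraMap A π (c * s) = algebraMap A π (c * a₁)
      rw [map_mul, map_mul, mul_left_comm, IsLocalization.mk'_spec]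
    exact hk _ (by rw [map_sub, hb2, sub_self])
  haveI : IsPreimmersion g.left := { isEmbedding := hemb }
  refine IsImmersion.mk ?_
  have : Set.range g.left = Set.range (t ≫ g.left) := by
    rw [Scheme.Hom.comp_base, TopCat.coe_comp, Set.range_comp, Function.Surjective.range_eq hsurj, Set.image_univ]
  rw [this]
  exact (t ≫ g.left).isLocallyClosed_range

end Groth.Agent.MultDefLib

end
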