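import Groth.Agent.MultDefLib.SplitHom
import Groth.Agent.MultDefLib.HomFamBC
import Groth.Agent.MultDefLib.Descend
import Groth.Agent.GrpSchLib.MultTypeBC

/-!
# Homomorphisms from a group which splits on an fpqc covering by affine schemes, to a smooth affine group
-/

universe u

open CategoryTheory CategoryTheory.Limits MonoidalCategory CartesianMonoidalCategory MonObj GrpObj AlgebraicGeometry

set_option backward.isDefEq.respectTransparency false
set_option linter.style.haveILetI false

noncomputable section

namespace Groth.Agent.MultDefLib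

open GrpSchLib

/-- If `H` becomes diagonalisable on an fpqc covering by affine schemes and `G` is smooth and affine, then
the homomorphisms from `H` to `G` are represented by a smooth separated scheme. -/
theorem exists_representsHom_of_splitting {S : Scheme.{u}} (H G : Over S) [GrpObj H] [GrpObj G]
    (hG : Smooth G.hom) (hGa : IsAffineHom G.hom) {κ : Type u} (R : κ → CommRingCat.{u}) (q : ∀ w, Spec (R w) ⟶ S)
    (hmem : Presieve.ofArrows (fun w => Spec (R w)) q ∈ Scheme.fpqcPrecoverage S)
    (hsplit : ∀ w, ∃ (Γ : Type) (_ : CommGroup Γ),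
      Nonempty (Grp.mk (AffineHopf.sp (R w) (MonoidAlgebra (R w) Γ)) ≅ Grp.mk (Red.bc (q w) H))) :
    ∃ (A : Over S) (υ : H ⊗ A ⟶ G), AutFam.RepresentsHom H G A υ ∧ Smooth A.hom ∧ IsSeparated A.hom := by
  have key : ∀ w : κ, ∃ (A : Over (Spec (R w))) (υ : H ⊗ (Over.map (q w)).obj A ⟶ G),
      RepOn (q w) A υ ∧ MoreMor.IsIndQuasiAffineHom A.hom ∧ Smooth A.hom ∧ IsSeparated A.hom := by
    intro w
    obtain ⟨Γ, _, ⟨eH⟩⟩ := hsplit w
    haveI : IsAffine (Red.bc (q w) G).left := by
      haveI := hGa
      show IsAffine (pullback G.hom (q w))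
      exact isAffine_of_isAffineHom (pullback.snd G.hom (q w))
    obtain ⟨A, _, _, ⟨eG⟩⟩ := AffineHopf.exists_hopf (Red.bc (q w) G)
    haveI : Algebra.Smooth (R w) A := by
      refine RingHom.smooth_algebraMap.1
        ((HasRingHomProperty.Spec_iff (P := @Smooth) (φ := CommRingCat.ofHom (algebraMap (R w) A))).1 ?_)
      show Smooth (AffineHopf.sp (R w) A).hom
      rw [← Over.w (overIso eG).hom]
      haveI : Smooth (Red.bc (q w) G).hom := MorphismProperty.pullback_snd G.hom (q w) hG
      haveI : IsIso (overIso eG).hom.left := inferInstanceAs (IsIso ((Over.forget _).map (overIso eG).hom))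
      infer_instance
    obtain ⟨U, υ', hrep, hqa, hsm, hsep⟩ := SplitHom.exists_representsHom_split (R w) Γ A
    obtain ⟨υ, hυ⟩ := exists_repOn (q w) eH eG υ' hrep
    exact ⟨U, υ, hυ, hqa, hsm, hsep⟩
  choose A υ hrep hqa hsm hsep using key
  obtain ⟨U, υU, hU, hiso⟩ := exists_representsHom_of_cover hmem hrep hqa
  haveI : MorphismProperty.DescendsAlong @IsSeparated
      (@Surjective ⊓ @Flat ⊓ @QuasiCompact : MorphismProperty Scheme.{u}) := EtFound.fpqc_isSeparated
  refine ⟨U, υU, hU, of_fpqc_family (P := @Smooth) q hmem U.hom fun w => ?_,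
    of_fpqc_family (P := @IsSeparated) q hmem U.hom fun w => ?_⟩ <;>
    obtain ⟨i⟩ := hiso w <;>
    haveI : IsIso i.hom.left := inferInstanceAs (IsIso ((Over.forget _).map i.hom))
  · haveI := hsm w
    rw [show pullback.fst (q w) U.hom = i.hom.left ≫ (A w).hom from (Over.w i.hom).symm]
    infer_instance
  · haveI := hsep w
    rw [show pullback.fst (q w) U.hom = i.hom.left ≫ (A w).hom from (Over.w i.hom).symm]
    infer_instance

end Groth.Agent.MultDefLib

end
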