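import Groth.Agent.MultDefLib.Weights
import Groth.Agent.GrpSchLib.AffineHopf
import Groth.Prelude.Def_AutFam
import Groth.Prelude.Def_CoactBr
import Mathlib.RingTheory.TensorProduct.MonoidAlgebra

/-!
# Families of homomorphisms from a diagonalisable group on an affine parameter scheme

Over `Spec R`, families of homomorphisms `D(Γ) ⊗ Spec B → Spec A` are the algebra maps `A → B[Γ]`
satisfying `Weights.IsFam`.
-/

universe u

open CategoryTheory CategoryTheory.Limits MonoidalCategory CartesianMonoidalCategory MonObj GrpObj AlgebraicGeometry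
open TensorProduct Coalgebra WithConv

set_option backward.isDefEq.respectTransparency false
set_option linter.style.haveILetI false

noncomputable section

namespace Groth.Agent.MultDefLib.SplitHom

open GrpSchLib.AffineHopf (sp spMap spMap_comp spMap_id spMap_mul spMap_injective exists_eq_spMap)
open Weights (IsFam push)

variable {R : Type u} [CommRing R]

section Pair

variable {A B : Type u} [CommRing A] [Algebra R A] [CommRing B] [Algebra R B] {X : Over (Spec (CommRingCat.of R))}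

theorem exists_pair₂ (h : X ⟶ sp R A) (h' : X ⟶ sp R B) :
    ∃ k : X ⟶ sp R (A ⊗[R] B), k ≫ spMap Algebra.TensorProduct.includeLeft = h ∧
      k ≫ spMap Algebra.TensorProduct.includeRight = h' := by
  let e := pullbackSpecIso R A B
  have w : h.left ≫ Spec.map (CommRingCat.ofHom (algebraMap R A)) =
      h'.left ≫ Spec.map (CommRingCat.ofHom (algebraMap R B)) := (Over.w h).trans (Over.w h').symm
  have e1 : (pullback.lift h.left h'.left w ≫ e.hom) ≫
      (spMap (R := R) (Algebra.TensorProduct.includeLeft : A →ₐ[R] A ⊗[R] B)).left = h.left := by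
    refine (Category.assoc _ _ _).trans ?_
    exact (congrArg (_ ≫ ·) (pullbackSpecIso_hom_fst R A B)).trans (pullback.lift_fst _ _ _)
  have e2 : (pullback.lift h.left h'.left w ≫ e.hom) ≫
      (spMap (R := R) (Algebra.TensorProduct.includeRight : B →ₐ[R] A ⊗[R] B)).left = h'.left := by
    refine (Category.assoc _ _ _).trans ?_
    exact (congrArg (_ ≫ ·) (pullbackSpecIso_hom_snd R A B)).trans (pullback.lift_snd _ _ _)
  refine ⟨Over.homMk (pullback.lift h.left h'.left w ≫ e.hom) ?_, Over.OverMorphism.ext e1, Over.OverMorphism.ext e2⟩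
  rw [← Over.w (spMap (R := R) (Algebra.TensorProduct.includeLeft : A →ₐ[R] A ⊗[R] B))]
  exact ((Category.assoc _ _ _).symm.trans (congrArg (· ≫ (sp R A).hom) e1)).trans (Over.w h)

theorem pair_ext {k k' : X ⟶ sp R (A ⊗[R] B)}
    (h₁ : k ≫ spMap Algebra.TensorProduct.includeLeft = k' ≫ spMap Algebra.TensorProduct.includeLeft)
    (h₂ : k ≫ spMap Algebra.TensorProduct.includeRight = k' ≫ spMap Algebra.TensorProduct.includeRight) :
    k = k' := by
  refine Over.OverMorphism.ext ((cancel_mono (pullbackSpecIso R A B).inv).1 ?_)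
  refine pullback.hom_ext ?_ ?_
  · simp only [Category.assoc, pullbackSpecIso_inv_fst]
    exact congrArg (fun m => Over.Hom.left m) h₁
  · simp only [Category.assoc, pullbackSpecIso_inv_snd]
    exact congrArg (fun m => Over.Hom.left m) h₂

end Pair

variable (R) (Γ : Type) [CommGroup Γ]

/-- The diagonalisable group with characters `Γ`. -/
abbrev DR : Over (Spec (CommRingCat.of R)) := sp R (MonoidAlgebra R Γ)

variable {R Γ} {B : Type u} [CommRing B] [Algebra R B] {C : Type u} [CommRing C] [Algebra R C]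

variable (R Γ B) in
/-- The first projection from the product with a parameter algebra. -/
abbrev π₁ : sp R (MonoidAlgebra B Γ) ⟶ DR R Γ := spMap (MonoidAlgebra.mapAlgHom Γ (Algebra.ofId R B))

variable (R Γ B) in
/-- The second projection. -/
abbrev π₂ : sp R (MonoidAlgebra B Γ) ⟶ sp R B :=
  spMap (MonoidAlgebra.singleOneAlgHom : B →ₐ[R] MonoidAlgebra B Γ)

variable (R B) in
/-- The comparison with the tensor product. -/
abbrev tens (Γ : Type) [CommGroup Γ] : B ⊗[R] MonoidAlgebra R Γ ≃ₐ[R] MonoidAlgebra B Γ :=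
  (MonoidAlgebra.scalarTensorEquiv R B).restrictScalars R

theorem tens_includeLeft :
    (tens R B Γ).toAlgHom.comp Algebra.TensorProduct.includeLeft = MonoidAlgebra.singleOneAlgHom := by
  refine AlgHom.ext fun b => ?_
  simp [MonoidAlgebra.one_def]

theorem tens_includeRight :
    (tens R B Γ).toAlgHom.comp Algebra.TensorProduct.includeRight =
      MonoidAlgebra.mapAlgHom Γ (Algebra.ofId R B) := by
  refine AlgHom.ext fun p => ?_
  simp

theorem prod_ext {X : Over (Spec (CommRingCat.of R))} {k k' : X ⟶ sp R (MonoidAlgebra B Γ)}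
    (h₁ : k ≫ π₁ R Γ B = k' ≫ π₁ R Γ B) (h₂ : k ≫ π₂ R Γ B = k' ≫ π₂ R Γ B) : k = k' := by
  have h := pair_ext (k := k ≫ spMap (tens R B Γ).toAlgHom) (k' := k' ≫ spMap (tens R B Γ).toAlgHom)
    (by simpa only [Category.assoc, spMap_comp, tens_includeLeft] using h₂)
    (by simpa only [Category.assoc, spMap_comp, tens_includeRight] using h₁)
  have h' := congrArg (· ≫ spMap (tens R B Γ).symm.toAlgHom) h
  simp only [Category.assoc, spMap_comp] at h'
  rwa [show (tens R B Γ).toAlgHom.comp (tens R B Γ).symm.toAlgHom = AlgHom.id R _ from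
    AlgHom.ext fun x => (tens R B Γ).apply_symm_apply x, spMap_id, Category.comp_id, Category.comp_id] at h'

theorem prod_exists {X : Over (Spec (CommRingCat.of R))} (h : X ⟶ DR R Γ) (b : X ⟶ sp R B) :
    ∃ k : X ⟶ sp R (MonoidAlgebra B Γ), k ≫ π₁ R Γ B = h ∧ k ≫ π₂ R Γ B = b := by
  obtain ⟨k, hk₁, hk₂⟩ := exists_pair₂ b h
  refine ⟨k ≫ spMap (tens R B Γ).symm.toAlgHom, ?_, ?_⟩
  · rw [Category.assoc, spMap_comp, ← tens_includeRight, ← AlgHom.comp_assoc,
      show (tens R B Γ).symm.toAlgHom.comp (tens R B Γ).toAlgHom = AlgHom.id R _ from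
        AlgHom.ext fun x => (tens R B Γ).symm_apply_apply x, AlgHom.id_comp, hk₂]
  · rw [Category.assoc, spMap_comp, ← tens_includeLeft, ← AlgHom.comp_assoc,
      show (tens R B Γ).symm.toAlgHom.comp (tens R B Γ).toAlgHom = AlgHom.id R _ from
        AlgHom.ext fun x => (tens R B Γ).symm_apply_apply x, AlgHom.id_comp, hk₁]

variable (R Γ B) in
/-- The comparison of `Spec B[Γ]` with the product. -/
def θ : sp R (MonoidAlgebra B Γ) ⟶ DR R Γ ⊗ sp R B := lift (π₁ R Γ B) (π₂ R Γ B)

theorem θ_fst : θ R Γ B ≫ fst (DR R Γ) (sp R B) = π₁ R Γ B := lift_fst _ _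

theorem θ_snd : θ R Γ B ≫ snd (DR R Γ) (sp R B) = π₂ R Γ B := lift_snd _ _

instance isIso_θ : IsIso (θ R Γ B) := by
  obtain ⟨k, hk₁, hk₂⟩ := prod_exists (fst (DR R Γ) (sp R B)) (snd (DR R Γ) (sp R B))
  refine ⟨k, prod_ext ?_ ?_, ?_⟩
  · rw [Category.assoc, hk₁, θ, lift_fst, Category.id_comp]
  · rw [Category.assoc, hk₂, θ, lift_snd, Category.id_comp]
  · rw [θ, comp_lift, hk₁, hk₂, lift_fst_snd]

theorem θ_natural (φ : B →ₐ[R] C) :
    θ R Γ C ≫ (DR R Γ ◁ spMap φ) = spMap (MonoidAlgebra.mapAlgHom Γ φ) ≫ θ R Γ B := by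
  refine CartesianMonoidalCategory.hom_ext _ _ ?_ ?_
  · rw [Category.assoc, whiskerLeft_fst, θ_fst, Category.assoc, θ_fst]
    refine Eq.trans ?_ (spMap_comp _ _).symm
    exact congrArg (fun q : MonoidAlgebra R Γ →ₐ[R] MonoidAlgebra C Γ => spMap q)
      (MonoidAlgebra.algHom_ext (fun m => by simp) (Subsingleton.elim _ _))
  · rw [Category.assoc, whiskerLeft_snd, ← Category.assoc, θ_snd, Category.assoc, θ_snd]
    refine (spMap_comp _ _).trans (Eq.trans ?_ (spMap_comp _ _).symm)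
    exact congrArg (fun q : B →ₐ[R] MonoidAlgebra C Γ => spMap q) (AlgHom.ext fun b => by simp)

section Fam

variable {A : Type u} [CommRing A] [HopfAlgebra R A]

/-- The morphism of an algebra map. -/
def fam (f : A →ₐ[R] MonoidAlgebra B Γ) : DR R Γ ⊗ sp R B ⟶ sp R A := inv (θ R Γ B) ≫ spMap f

theorem θ_fam (f : A →ₐ[R] MonoidAlgebra B Γ) : θ R Γ B ≫ fam f = spMap f := IsIso.hom_inv_id_assoc _ _

theorem fam_injective {f g : A →ₐ[R] MonoidAlgebra B Γ} (h : fam f = fam g) : f = g :=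
  spMap_injective ((θ_fam f).symm.trans ((congrArg (θ R Γ B ≫ ·) h).trans (θ_fam g)))

theorem exists_fam (φ : DR R Γ ⊗ sp R B ⟶ sp R A) : ∃ f : A →ₐ[R] MonoidAlgebra B Γ, fam f = φ := by
  obtain ⟨f, hf⟩ := exists_eq_spMap (θ R Γ B ≫ φ)
  exact ⟨f, by rw [fam, ← hf, IsIso.inv_hom_id_assoc]⟩

theorem fam_natural (φ : B →ₐ[R] C) (f : A →ₐ[R] MonoidAlgebra B Γ) :
    (DR R Γ ◁ spMap φ) ≫ fam f = fam (push φ f) := by
  rw [← cancel_epi (θ R Γ C), ← Category.assoc, θ_natural, Category.assoc, θ_fam, θ_fam, spMap_comp]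

/-- The comparison `R[Γ × Γ] → R[Γ] ⊗ R[Γ]`. -/
def split (R : Type u) [CommRing R] (Γ : Type) [CommGroup Γ] :
    MonoidAlgebra R (Γ × Γ) →ₐ[R] MonoidAlgebra R Γ ⊗[R] MonoidAlgebra R Γ :=
  MonoidAlgebra.lift R (MonoidAlgebra R Γ ⊗[R] MonoidAlgebra R Γ) (Γ × Γ)
    { toFun := fun p => MonoidAlgebra.single p.1 1 ⊗ₜ MonoidAlgebra.single p.2 1
      map_one' := rfl
      map_mul' := fun p q => by simp [MonoidAlgebra.single_mul_single] }

theorem isFam_iff (f : A →ₐ[R] MonoidAlgebra B Γ) :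
    IsFam f ↔ AutFam.IsHomFamily (DR R Γ) (sp R A) (fam f) := by
  let p₁ : MonoidAlgebra B Γ →ₐ[R] MonoidAlgebra B (Γ × Γ) := MonoidAlgebra.mapDomainAlgHom R B (MonoidHom.inl Γ Γ)
  let p₂ : MonoidAlgebra B Γ →ₐ[R] MonoidAlgebra B (Γ × Γ) := MonoidAlgebra.mapDomainAlgHom R B (MonoidHom.inr Γ Γ)
  -- the three maps to the product
  have hm : (spMap p₁ ≫ π₁ R Γ B) * (spMap p₂ ≫ π₁ R Γ B) = spMap (Weights.dup R B Γ) ≫ π₁ R Γ B := by
    rw [spMap_comp, spMap_comp, spMap_comp, spMap_mul]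
    congr 1
    refine MonoidAlgebra.algHom_ext (fun g => ?_) (Subsingleton.elim _ _)
    simp [p₁, p₂, AlgHom.convMul_apply, Weights.dup, MonoidAlgebra.single_mul_single, MonoidAlgebra.mapDomainAlgHom_apply]
  have hs₁ : spMap p₁ ≫ π₂ R Γ B = spMap p₂ ≫ π₂ R Γ B := by
    rw [spMap_comp, spMap_comp]
    congr 1
    exact AlgHom.ext fun b => by simp [p₁, p₂, MonoidAlgebra.mapDomainAlgHom_apply, Prod.mk_one_one]
  have hsd : spMap (Weights.dup R B Γ) ≫ π₂ R Γ B = spMap p₁ ≫ π₂ R Γ B := by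
    rw [spMap_comp, spMap_comp]
    congr 1
    exact AlgHom.ext fun b => by simp [p₁, Weights.dup, MonoidAlgebra.mapDomainAlgHom_apply, Prod.mk_one_one]
  have hmerge : (toConv (p₁.comp f) * toConv (p₂.comp f)).ofConv =
      (Weights.merge R B Γ).comp ((Algebra.TensorProduct.map f f).comp (Bialgebra.comulAlgHom R A)) := by
    refine AlgHom.ext fun a => ?_
    rw [AlgHom.convMul_apply]
    simp only [AlgHom.comp_apply, Bialgebra.comulAlgHom_apply]
    generalize comul (R := R) a = z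
    induction z using TensorProduct.induction_on with
    | zero => simp
    | add p q hp hq => simp only [map_add, hp, hq]
    | tmul p q => simp [Weights.merge, p₁, p₂]
  have hlift : ∀ {X : Over (Spec (CommRingCat.of R))} (k : X ⟶ sp R (MonoidAlgebra B Γ)),
      lift (k ≫ π₁ R Γ B) (k ≫ π₂ R Γ B) ≫ fam f = k ≫ spMap f := fun k => by
    rw [← comp_lift, Category.assoc, ← θ, θ_fam]
  -- the unit section
  have haug : spMap (Weights.aug R B Γ) ≫ π₁ R Γ B = 1 := by
    rw [spMap_comp]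
    refine Eq.trans ?_ (CoactBr.one_eq_pt (R := R) (A := MonoidAlgebra R Γ) (K := B)).symm
    show spMap _ = spMap _
    congr 1
    exact MonoidAlgebra.algHom_ext (fun g => by simp [Weights.aug]) (Subsingleton.elim _ _)
  constructor
  · intro hf X g₁ g₂ t
    -- factor through the universal pair
    obtain ⟨k₂, hk₁, hk₂⟩ := exists_pair₂ g₁ g₂
    obtain ⟨k, hkg, hkt⟩ := prod_exists (Γ := Γ × Γ) (k₂ ≫ spMap (split R Γ)) t
    have key : ∀ (q : MonoidAlgebra B Γ →ₐ[R] MonoidAlgebra B (Γ × Γ)) (q₀ : Γ →* Γ × Γ),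
        q = MonoidAlgebra.mapDomainAlgHom R B q₀ →
        k ≫ spMap q ≫ π₁ R Γ B = k₂ ≫ spMap ((split R Γ).comp (MonoidAlgebra.mapDomainAlgHom R R q₀)) ∧
          k ≫ spMap q ≫ π₂ R Γ B = t := by
      intro q q₀ hq
      subst hq
      refine ⟨?_, ?_⟩
      · rw [← spMap_comp, ← Category.assoc k₂, ← hkg, Category.assoc, spMap_comp, spMap_comp]
        congr 2
        exact MonoidAlgebra.algHom_ext (fun g => by simp) (Subsingleton.elim _ _)
      · rw [← hkt, spMap_comp]
        congr 2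
        exact AlgHom.ext fun b => by simp
    obtain ⟨e₁, t₁⟩ := key p₁ _ rfl
    obtain ⟨e₂, t₂⟩ := key p₂ _ rfl
    have hg₁ : k ≫ spMap p₁ ≫ π₁ R Γ B = g₁ := by
      rw [e₁, ← hk₁]
      congr 2
      exact MonoidAlgebra.algHom_ext (fun g => by simp [split, MonoidAlgebra.one_def]) (Subsingleton.elim _ _)
    have hg₂ : k ≫ spMap p₂ ≫ π₁ R Γ B = g₂ := by
      rw [e₂, ← hk₂]
      congr 2
      exact MonoidAlgebra.algHom_ext (fun g => by simp [split, MonoidAlgebra.one_def]) (Subsingleton.elim _ _)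
    have E1 : lift g₁ t ≫ fam f = k ≫ spMap (p₁.comp f) := by
      rw [← spMap_comp, ← Category.assoc, ← hg₁]
      conv_lhs => rw [← t₁]
      rw [← Category.assoc, ← Category.assoc, hlift]
    have E2 : lift g₂ t ≫ fam f = k ≫ spMap (p₂.comp f) := by
      rw [← spMap_comp, ← Category.assoc, ← hg₂]
      conv_lhs => rw [← t₂]
      rw [← Category.assoc, ← Category.assoc, hlift]
    rw [E1, E2, ← MonObj.comp_mul, spMap_mul, hmerge, ← hf.dup, ← spMap_comp, ← Category.assoc, ← hlift]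
    congr 2
    · rw [Category.assoc, ← hm, MonObj.comp_mul, hg₁, hg₂]
    · rw [Category.assoc, hsd, t₁]
  · intro hφ
    refine ⟨spMap_injective ?_, spMap_injective ?_⟩
    · rw [← spMap_comp, ← hlift]
      have h1 := hφ _ (1 : sp R B ⟶ DR R Γ) 1 (spMap (Weights.aug R B Γ) ≫ π₂ R Γ B)
      rw [_root_.mul_one, left_eq_mul] at h1
      rw [haug, h1]
      exact CoactBr.one_eq_pt (R := R) (A := A) (K := B)
    · rw [← spMap_comp, ← hlift, ← hm, hsd, ← hmerge, ← spMap_mul, hφ, ← spMap_comp, ← spMap_comp,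
        ← hlift (spMap p₁), ← hlift (spMap p₂), hs₁]

end Fam

end Groth.Agent.MultDefLib.SplitHom

end
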