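import Groth.Agent.GrpSchLib.MultTypeBC
import Groth.Agent.GrpSchLib.AffineHopf
import Mathlib.AlgebraicGeometry.Sites.Fpqc
import Mathlib.AlgebraicGeometry.Morphisms.Finite

/-!
# Groups of multiplicative type split on fpqc coverings by affine schemes
-/

universe u

open CategoryTheory CategoryTheory.Limits MonoidalCategory CartesianMonoidalCategory AlgebraicGeometry

set_option backward.isDefEq.respectTransparency false
set_option linter.style.haveILetI false

noncomputable section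

namespace Groth.Agent.MultDefLib

open GrpSchLib

/-- A group of multiplicative type and finite type splits on an fpqc covering by affine schemes. -/
theorem exists_affine_splitting {S : Scheme.{u}} (H : Over S) [GrpObj H] (hH : SGA3x.IsMultTypeFT H) :
    ∃ (κ : Type u) (R : κ → CommRingCat.{u}) (q : ∀ w, Spec (R w) ⟶ S),
      Presieve.ofArrows (fun w => Spec (R w)) q ∈ Scheme.fpqcPrecoverage S ∧
      ∀ w, ∃ (M : Type) (_ : AddCommGroup M), AddGroup.FG M ∧
        Nonempty (Grp.mk (Red.bc (q w) H) ≅ Grp.mk (Red.DS (Spec (R w)) M)) := by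
  classical
  obtain ⟨S', f, hfl, hsur, hqc, hloc⟩ := hH
  choose Us hs Ms iMs hfg e using hloc
  let κ := {W : S'.Opens // IsAffineOpen W ∧ ∃ s, W ≤ Us s}
  let q : ∀ w : κ, Spec Γ(S', w.1) ⟶ S := fun w => w.2.1.fromSpec ≫ f
  have hcover : ∀ (x : S') (O : S'.Opens), x ∈ O → ∃ w : κ, x ∈ w.1 ∧ w.1 ≤ O := fun x O hx => by
    obtain ⟨W, hW, hxW, hWO⟩ := exists_isAffineOpen_mem_and_subset (show x ∈ O ⊓ Us x from ⟨hx, hs x⟩)
    exact ⟨⟨W, hW, x, fun y hy => (hWO hy).2⟩, hxW, fun y hy => (hWO hy).1⟩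
  have hmem : Presieve.ofArrows (fun w : κ => Spec Γ(S', w.1)) q ∈ Scheme.fpqcPrecoverage S := by
    refine ⟨?_, ?_⟩
    · let E : PreZeroHypercover.{u} S := ⟨κ, fun w => Spec Γ(S', w.1), q⟩
      show E.presieve₀ ∈ _
      rw [Scheme.presieve₀_mem_qcPrecoverage_iff]
      refine ⟨fun {V} hV => ?_⟩
      obtain ⟨W, hW, hWV⟩ := hqc V hV
      choose w hxw hwW using fun x : W => hcover x.1 W x.2
      obtain ⟨t, ht⟩ := hW.elim_finite_subcover (fun x : W => ((w x).1 : Set S')) (fun x => (w x).1.2)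
        fun x hx => Set.mem_iUnion.2 ⟨⟨x, hx⟩, hxw _⟩
      refine IsCompactOpenCovered.of_finite (κ := {x // x ∈ t}) (fun x => (w x.1 : E.I₀)) (fun x => ⊤)
        (fun x => ?_) ?_
      · show IsCompact (Set.univ : Set (Spec Γ(S', (w x.1).1)))
        exact isCompact_univ
      · rw [← hWV]
        refine Set.ext fun y => ⟨?_, ?_⟩
        · intro hy
          obtain ⟨x, p, -, hp⟩ := Set.mem_iUnion.1 hy
          refine ⟨(w x.1).2.1.fromSpec p, hwW x.1 ?_, hp⟩
          exact (w x.1).2.1.range_fromSpec.subset ⟨p, rfl⟩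
        · rintro ⟨z, hz, rfl⟩
          obtain ⟨x, hx, hzx⟩ := Set.mem_iUnion₂.1 (ht hz)
          obtain ⟨p, hp⟩ := (w x).2.1.range_fromSpec.superset hzx
          exact Set.mem_iUnion.2 ⟨⟨x, hx⟩, p, trivial, congrArg f.base hp⟩
    · rw [Scheme.ofArrows_mem_precoverage_iff]
      refine ⟨fun y => ?_, fun w => ?_⟩
      · obtain ⟨z, rfl⟩ := hsur.surj y
        obtain ⟨w, hzw, -⟩ := hcover z ⊤ trivial
        obtain ⟨p, hp⟩ := w.2.1.range_fromSpec.superset hzw
        exact ⟨w, p, congrArg f.base hp⟩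
      · exact inferInstanceAs (Flat (w.2.1.fromSpec ≫ f))
  refine ⟨κ, fun w => Γ(S', w.1), q, hmem, fun w => ?_⟩
  obtain ⟨s, hws⟩ := w.2.2
  letI := iMs s
  let l : Spec Γ(S', w.1) ⟶ Us s := w.2.1.isoSpec.inv ≫ S'.homOfLE hws
  have hl : l ≫ (Us s).ι ≫ f = q w := by
    show (w.2.1.isoSpec.inv ≫ S'.homOfLE hws) ≫ (Us s).ι ≫ f = w.2.1.fromSpec ≫ f
    rw [Category.assoc, Scheme.homOfLE_ι_assoc, ← w.2.1.isoSpec_inv_ι, Category.assoc]
  obtain ⟨e₁⟩ := MultTypeBC.bc_congr hl.symm H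
  obtain ⟨e₂⟩ := MultTypeBC.bc_bc l ((Us s).ι ≫ f) H
  obtain ⟨e₀⟩ := e s
  obtain ⟨e₃⟩ := MultTypeBC.bc_iso l e₀
  obtain ⟨e₄⟩ := MultTypeBC.bc_DS l (Ms s)
  exact ⟨Ms s, iMs s, hfg s, ⟨e₁ ≪≫ e₂.symm ≪≫ e₃ ≪≫ e₄⟩⟩

/-- A finite diagonalisable group over a ring has a finite group of characters. -/
theorem exists_finite_characters {R : Type u} [CommRing R] {H : Over (Spec (CommRingCat.of R))} [GrpObj H]
    [IsFinite H.hom] {M : Type} [AddCommGroup M]
    (e : Grp.mk H ≅ Grp.mk (Red.DS (Spec (CommRingCat.of R)) M)) :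
    ∃ (Δ : Type) (_ : CommGroup Δ), Finite Δ ∧
      Nonempty (Grp.mk H ≅ Grp.mk (AffineHopf.sp R (MonoidAlgebra R Δ))) := by
  obtain ⟨e₀⟩ := AffineHopf.nonempty_DS_iso R M
  let i := e ≪≫ e₀.symm
  rcases subsingleton_or_nontrivial R with hR | hR
  · refine ⟨PUnit, inferInstance, inferInstance, ⟨i ≪≫ AffineHopf.spIso ?_⟩⟩
    haveI := Module.subsingleton R (MonoidAlgebra R (Multiplicative M))
    haveI := Module.subsingleton R (MonoidAlgebra R PUnit)
    exact BialgEquiv.ofBialgHom (MonoidAlgebra.mapDomainBialgHom R 1) (MonoidAlgebra.mapDomainBialgHom R 1)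
      (DFunLike.ext _ _ fun _ => Subsingleton.elim _ _) (DFunLike.ext _ _ fun _ => Subsingleton.elim _ _)
  · refine ⟨Multiplicative M, inferInstance, ?_, ⟨i⟩⟩
    let g := ((Grp.forget _).mapIso i).inv
    haveI : IsIso g.left := inferInstanceAs (IsIso ((Over.forget _).map g))
    have hfin : IsFinite (AffineHopf.sp R (MonoidAlgebra R (Multiplicative M))).hom := by
      show IsFinite ((Grp.forget _).obj (Grp.mk (AffineHopf.sp R (MonoidAlgebra R (Multiplicative M))))).hom
      rw [← Over.w g]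
      haveI : IsFinite ((Grp.forget _).obj (Grp.mk H)).hom := ‹IsFinite H.hom›
      infer_instance
    haveI : Module.Finite R (MonoidAlgebra R (Multiplicative M)) :=
      RingHom.finite_algebraMap.1 ((IsFinite.SpecMap_iff
        (CommRingCat.ofHom (algebraMap R (MonoidAlgebra R (Multiplicative M))))).1 hfin)
    exact Module.Finite.finite_basis (MonoidAlgebra.basis (Multiplicative M) R)

end Groth.Agent.MultDefLib

end
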