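import Groth.Agent.MultDefLib.SplitLift
import Groth.Agent.MultDefLib.HopfComodModel
import Groth.Agent.MultDefLib.HomFam
import Groth.Agent.MultDefLib.Transp
import Groth.Agent.MorLib.IndQA
import Mathlib.AlgebraicGeometry.Gluing
import Mathlib.AlgebraicGeometry.Morphisms.Separated

/-!
# The scheme of homomorphisms from a diagonalisable group to a smooth affine group

Over an affine base it is the increasing union, over the finite sets `F` of characters, of the open
loci where only weights in `F` occur in a fixed finite comodule generating the coordinate ring.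
-/

universe u

open CategoryTheory CategoryTheory.Limits MonoidalCategory CartesianMonoidalCategory MonObj GrpObj AlgebraicGeometry
open TensorProduct Coalgebra WithConv

set_option backward.isDefEq.respectTransparency false
set_option linter.style.haveILetI false

noncomputable section

namespace Groth.Agent.MultDefLib.SplitHom

open GrpSchLib.AffineHopf (sp spMap spMap_comp spMap_id)
open Weights (IsFam push Small)

section General

variable {R : Type u} [CommRing R]

/-- A morphism of affine schemes over the base is the spectrum of an algebra map. -/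
theorem exists_algHom {B C : Type u} [CommRing B] [Algebra R B] [CommRing C] [Algebra R C] (t : sp R C ⟶ sp R B) :
    ∃ φ : B →ₐ[R] C, t = spMap φ := by
  obtain ⟨f, hf⟩ := Spec.map_surjective t.left
  have hw : CommRingCat.ofHom (algebraMap R B) ≫ f = CommRingCat.ofHom (algebraMap R C) := by
    refine Spec.map_injective ?_
    rw [Spec.map_comp, hf]
    exact Over.w t
  refine ⟨⟨f.hom, fun r => congrArg (fun m => m.hom r) hw⟩, Over.OverMorphism.ext ?_⟩
  rw [← hf]
  rfl

theorem spMap_inj {B C : Type u} [CommRing B] [Algebra R B] [CommRing C] [Algebra R C] {φ ψ : B →ₐ[R] C}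
    (h : spMap φ = spMap ψ) : φ = ψ :=
  AlgHom.coe_ringHom_injective (congrArg CommRingCat.Hom.hom (Spec.map_injective (congrArg (fun m => Over.Hom.left m) h)))

/-- Schemes over an affine base are covered by affine ones. -/
theorem exists_affine_isCover (T : Over (Spec (CommRingCat.of R))) :
    ∃ (κ : Type u) (C : κ → Type u) (_ : ∀ i, CommRing (C i)) (_ : ∀ i, Algebra R (C i)) (a : ∀ i, sp R (C i) ⟶ T),
      IsCover a ∧ (∀ i, IsOpenImmersion (a i).left) ∧ ∀ x : T.left, ∃ i y, (a i).left y = x := by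
  let 𝒰 := T.left.affineOpenCover
  let φ := fun i => Spec.preimage (𝒰.f i ≫ T.hom)
  letI : ∀ i, Algebra R (𝒰.X i) := fun i => (φ i).hom.toAlgebra
  let a : ∀ i, sp R (𝒰.X i) ⟶ T := fun i => Over.homMk (𝒰.f i) (Spec.map_preimage _).symm
  have h : ∀ x : T.left, ∃ i y, (a i).left y = x := fun x => ⟨𝒰.idx x, 𝒰.covers x⟩
  have ho : ∀ i, IsOpenImmersion (a i).left := fun i => 𝒰.map_prop i
  exact ⟨𝒰.I₀, fun i => 𝒰.X i, fun i => inferInstance, inferInstance, a, isCover_of_openCover ho h, ho, h⟩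

end General

section Cover

variable {S : Scheme.{u}} {H G : Over S}

theorem isCover_whiskerLeft {κ : Type u} {W : Over S} {P : κ → Over S} {q : ∀ i, P i ⟶ W} (hq : IsCover q) :
    IsCover (fun i => H ◁ q i) :=
  IsCover.of_isPullback hq _ (snd H W) (fun i => snd H (P i))
    fun i => GrpSchLib.isPullback_whiskerLeft (W := H) (q i)

/-- Being a family of homomorphisms is local on the parameter scheme. -/
theorem isHomFamily_of_isCover [GrpObj H] [GrpObj G] {κ : Type u} {W : Over S} {P : κ → Over S} {q : ∀ i, P i ⟶ W}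
    (hq : IsCover q) (φ : H ⊗ W ⟶ G) (h : ∀ i, AutFam.IsHomFamily H G ((H ◁ q i) ≫ φ)) :
    AutFam.IsHomFamily H G φ := by
  intro X g₁ g₂ t
  let Q : κ → Over S := fun i => Over.mk (pullback.fst t.left (q i).left ≫ X.hom)
  let c : ∀ i, Q i ⟶ X := fun i => Over.homMk (pullback.fst t.left (q i).left) rfl
  let d : ∀ i, Q i ⟶ P i := fun i => Over.homMk (pullback.snd t.left (q i).left) (by
    show pullback.snd t.left (q i).left ≫ (P i).hom = pullback.fst t.left (q i).left ≫ X.hom
    rw [← Over.w (q i), ← Over.w t, ← Category.assoc, ← pullback.condition, Category.assoc])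
  have hcov : IsCover c := IsCover.of_isPullback hq c t d fun i => IsPullback.of_hasPullback _ _
  refine hcov.hom_ext fun i => ?_
  have e : c i ≫ t = d i ≫ q i := Over.OverMorphism.ext pullback.condition
  have e1 : ∀ g : X ⟶ H, c i ≫ lift g t ≫ φ = lift (c i ≫ g) (d i) ≫ (H ◁ q i) ≫ φ := fun g => by
    rw [← Category.assoc, comp_lift, e, lift_whiskerLeft_assoc]
  rw [MonObj.comp_mul, e1, e1, e1, MonObj.comp_mul]
  exact h i _ _ _ _

end Cover

variable {R : Type u} [CommRing R] {Γ : Type} [CommGroup Γ] {A : Type u} [CommRing A] [HopfAlgebra R A]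

/-- Representing objects on affine parameter schemes represent on all. -/
theorem existsUnique_of_affine {U : Over (Spec (CommRingCat.of R))} (υ : DR R Γ ⊗ U ⟶ sp R A)
    (P : ∀ (C : Type u) [CommRing C] [Algebra R C], (A →ₐ[R] MonoidAlgebra C Γ) → Prop)
    (h : ∀ (C : Type u) [CommRing C] [Algebra R C] (f : A →ₐ[R] MonoidAlgebra C Γ), IsFam f → P C f →
      ∃! t : sp R C ⟶ U, (DR R Γ ◁ t) ≫ υ = fam f)
    {T : Over (Spec (CommRingCat.of R))} (φ : DR R Γ ⊗ T ⟶ sp R A) (hφ : AutFam.IsHomFamily (DR R Γ) (sp R A) φ)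
    (hP : ∀ (C : Type u) [CommRing C] [Algebra R C] (a : sp R C ⟶ T) (f : A →ₐ[R] MonoidAlgebra C Γ),
      (DR R Γ ◁ a) ≫ φ = fam f → P C f) :
    ∃! t : T ⟶ U, (DR R Γ ◁ t) ≫ υ = φ := by
  have agree : ∀ (Y : Over (Spec (CommRingCat.of R))) (b : Y ⟶ T) (t t' : Y ⟶ U),
      (DR R Γ ◁ t) ≫ υ = (DR R Γ ◁ b) ≫ φ → (DR R Γ ◁ t') ≫ υ = (DR R Γ ◁ b) ≫ φ → t = t' := by
    intro Y b t t' ht ht'
    obtain ⟨κ, C, _, _, c, hc, -, -⟩ := exists_affine_isCover Y
    refine hc.hom_ext fun i => ?_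
    obtain ⟨f, hf⟩ := exists_fam ((DR R Γ ◁ (c i ≫ b)) ≫ φ)
    refine (h (C i) f ((isFam_iff f).2 (hf ▸ isHomFamily_comp hφ _)) (hP _ _ f hf.symm)).unique ?_ ?_
    · rw [hf, MonoidalCategory.whiskerLeft_comp, Category.assoc, ht, MonoidalCategory.whiskerLeft_comp, Category.assoc]
    · rw [hf, MonoidalCategory.whiskerLeft_comp, Category.assoc, ht', MonoidalCategory.whiskerLeft_comp, Category.assoc]
  obtain ⟨κ, C, _, _, a, ha, -, -⟩ := exists_affine_isCover T
  choose f hf using fun i => exists_fam ((DR R Γ ◁ a i) ≫ φ)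
  choose s hs using fun i =>
    (h (C i) (f i) ((isFam_iff _).2 (hf i ▸ isHomFamily_comp hφ _)) (hP _ _ _ (hf i).symm)).exists
  obtain ⟨t, ht⟩ := ha.exists_glue s fun i j Y c d hcd => agree Y (c ≫ a i) _ _
    (by rw [MonoidalCategory.whiskerLeft_comp, Category.assoc, hs i, hf i, MonoidalCategory.whiskerLeft_comp,
      Category.assoc])
    (by rw [hcd, MonoidalCategory.whiskerLeft_comp, Category.assoc, hs j, hf j, MonoidalCategory.whiskerLeft_comp,
      Category.assoc])
  have hte : (DR R Γ ◁ t) ≫ υ = φ := (isCover_whiskerLeft ha).hom_ext fun i => by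
    rw [← Category.assoc, ← MonoidalCategory.whiskerLeft_comp, ht i, hs i, hf i]
  refine ⟨t, hte, fun t' ht' => agree T (𝟙 T) _ _ ?_ ?_⟩
  · rw [ht', MonoidalCategory.whiskerLeft_id, Category.id_comp]
  · rw [hte, MonoidalCategory.whiskerLeft_id, Category.id_comp]

section Weights

variable (V : Type u) [AddCommGroup V] [Module R V] [HopfRep.Comod R A V]

/-- Only weights in `F` occur at each affine point. -/
def AllSmall (F : Finset Γ) {T : Over (Spec (CommRingCat.of R))} (φ : DR R Γ ⊗ T ⟶ sp R A) : Prop :=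
  ∀ (C : Type u) [CommRing C] [Algebra R C] (a : sp R C ⟶ T) (f : A →ₐ[R] MonoidAlgebra C Γ),
    (DR R Γ ◁ a) ≫ φ = fam f → Small V F f

variable {V}

theorem AllSmall.comp {F : Finset Γ} {T T' : Over (Spec (CommRingCat.of R))} {φ : DR R Γ ⊗ T ⟶ sp R A}
    (h : AllSmall V F φ) (b : T' ⟶ T) : AllSmall V F ((DR R Γ ◁ b) ≫ φ) := fun C _ _ a f hf =>
  h C (a ≫ b) f (by rw [MonoidalCategory.whiskerLeft_comp, Category.assoc]; exact hf)

theorem AllSmall.mono {F F' : Finset Γ} {T : Over (Spec (CommRingCat.of R))} {φ : DR R Γ ⊗ T ⟶ sp R A}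
    (h : AllSmall V F φ) (hF : F ⊆ F') : AllSmall V F' φ := fun C _ _ a f hf => (h C a f hf).mono hF

variable (V) in
/-- `W` represents the families with weights in `F`, and is open in an affine scheme of finite presentation. -/
structure SmallRep (F : Finset Γ) (W : Over (Spec (CommRingCat.of R))) (υ : DR R Γ ⊗ W ⟶ sp R A) : Prop where
  hom : AutFam.IsHomFamily (DR R Γ) (sp R A) υ
  small : AllSmall V F υ
  univ : ∀ (C : Type u) [CommRing C] [Algebra R C] (f : A →ₐ[R] MonoidAlgebra C Γ), IsFam f → Small V F f →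
    ∃! t : sp R C ⟶ W, (DR R Γ ◁ t) ≫ υ = fam f
  chart : ∃ (B : Type u) (_ : CommRing B) (_ : Algebra R B) (i : W ⟶ sp R B) (fB : A →ₐ[R] MonoidAlgebra B Γ),
    IsOpenImmersion i.left ∧ Algebra.FinitePresentation R B ∧ IsFam fB ∧ (DR R Γ ◁ i) ≫ fam fB = υ

theorem SmallRep.existsUnique {F : Finset Γ} {W : Over (Spec (CommRingCat.of R))} {υ : DR R Γ ⊗ W ⟶ sp R A}
    (h : SmallRep V F W υ) {T : Over (Spec (CommRingCat.of R))} (φ : DR R Γ ⊗ T ⟶ sp R A)
    (hφ : AutFam.IsHomFamily (DR R Γ) (sp R A) φ) (hs : AllSmall V F φ) :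
    ∃! t : T ⟶ W, (DR R Γ ◁ t) ≫ υ = φ :=
  existsUnique_of_affine υ (fun _ _ _ f => Small V F f) h.univ φ hφ hs

theorem SmallRep.eq {F : Finset Γ} {W : Over (Spec (CommRingCat.of R))} {υ : DR R Γ ⊗ W ⟶ sp R A}
    (h : SmallRep V F W υ) {T : Over (Spec (CommRingCat.of R))} {t t' : T ⟶ W}
    (e : (DR R Γ ◁ t) ≫ υ = (DR R Γ ◁ t') ≫ υ) : t = t' :=
  (h.existsUnique _ (isHomFamily_comp h.hom t') (h.small.comp t')).unique e rfl

variable [Module.Finite R V] [Algebra.Smooth R A] {j : V →ₗ[R] A}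
  (hj : Coalgebra.comul ∘ₗ j = j.rTensor A ∘ₗ HopfRep.Comod.coact (k := R) (A := A))
  (hgen : Algebra.adjoin R (Set.range j) = ⊤)

include hj hgen in
theorem exists_smallRep (F : Finset Γ) : ∃ W υ, SmallRep (R := R) (A := A) V F W υ := by
  classical
  obtain ⟨n, s, hs⟩ := Module.Finite.exists_fin (R := R) (M := V)
  have hadj : Algebra.adjoin R (Set.range fun k => j (s k)) = ⊤ := by
    refine top_le_iff.1 (hgen ▸ Algebra.adjoin_le ?_)
    rintro _ ⟨v, rfl⟩
    have hv : v ∈ Submodule.span R (Set.range s) := hs ▸ Submodule.mem_top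
    induction hv using Submodule.span_induction with
    | zero => rw [map_zero]; exact zero_mem _
    | add a b _ _ ha hb => rw [map_add]; exact add_mem ha hb
    | smul r a _ ha => rw [map_smul]; exact Subalgebra.smul_mem _ ha r
    | mem w hw =>
      obtain ⟨k, rfl⟩ := hw
      exact Algebra.subset_adjoin ⟨k, rfl⟩
  obtain ⟨B, _, _, fB, hfp, hfB, -, huniv⟩ := Weights.exists_universal (Γ := Γ) F (fun k => j (s k)) hadj
  obtain ⟨O, hO⟩ := Weights.exists_small_open (V := V) hfB F
  let O' : (Spec (CommRingCat.of B)).Opens := ⟨O.1, O.2⟩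
  let W : Over (Spec (CommRingCat.of R)) := Over.mk (O'.ι ≫ (sp R B).hom)
  let i : W ⟶ sp R B := Over.homMk O'.ι rfl
  have hsmall : AllSmall V F ((DR R Γ ◁ i) ≫ fam fB) := fun C _ _ a f hf => by
    obtain ⟨φ, hφ⟩ := exists_algHom (a ≫ i)
    rw [← Category.assoc, ← MonoidalCategory.whiskerLeft_comp, hφ, fam_natural] at hf
    rw [← fam_injective hf, hO]
    intro q
    have e : (a ≫ i).left q = (spMap φ).left q := by rw [hφ]
    show (spMap φ).left q ∈ O'
    rw [← e]
    exact (a.left q).2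
  refine ⟨W, (DR R Γ ◁ i) ≫ fam fB, isHomFamily_comp ((isFam_iff fB).1 hfB) i, hsmall, fun C _ _ f hf hfs => ?_,
    B, inferInstance, inferInstance, i, fB, inferInstanceAs (IsOpenImmersion O'.ι), hfp, hfB, rfl⟩
  obtain ⟨φ, hφ, hφu⟩ := huniv C f hf fun k g hg => Weights.Small.coeff_eq_zero hj hfs hg (s k)
  have hran : Set.range (spMap φ).left ⊆ Set.range O'.ι := by
    rintro _ ⟨q, rfl⟩
    rw [Scheme.Opens.range_ι]
    exact (hO C φ).1 (hφ.symm ▸ hfs) q
  let t : sp R C ⟶ W := Over.homMk (IsOpenImmersion.lift O'.ι (spMap φ).left hran) (by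
    show IsOpenImmersion.lift O'.ι _ hran ≫ O'.ι ≫ (sp R B).hom = _
    rw [IsOpenImmersion.lift_fac_assoc]
    exact Over.w (spMap φ))
  have hti : t ≫ i = spMap φ := Over.OverMorphism.ext (IsOpenImmersion.lift_fac _ _ _)
  refine ⟨t, ?_, fun t' ht' => ?_⟩
  · show (DR R Γ ◁ t) ≫ (DR R Γ ◁ i) ≫ fam fB = fam f
    rw [← Category.assoc, ← MonoidalCategory.whiskerLeft_comp, hti, fam_natural, hφ]
  · obtain ⟨φ', hφ'⟩ := exists_algHom (t' ≫ i)
    change (DR R Γ ◁ t') ≫ (DR R Γ ◁ i) ≫ fam fB = fam f at ht'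
    rw [← Category.assoc, ← MonoidalCategory.whiskerLeft_comp, hφ', fam_natural] at ht'
    rw [hφu φ' (fam_injective ht'), ← hti] at hφ'
    exact Over.OverMorphism.ext ((cancel_mono O'.ι).1 (congrArg (fun m => Over.Hom.left m) hφ'))

omit [Algebra.Smooth R A] in
/-- A smaller weight bound cuts out an open subscheme. -/
theorem exists_trans {F F' : Finset Γ} (hF : F ⊆ F') {W W' : Over (Spec (CommRingCat.of R))}
    {υ : DR R Γ ⊗ W ⟶ sp R A} {υ' : DR R Γ ⊗ W' ⟶ sp R A} (h : SmallRep V F W υ) (h' : SmallRep V F' W' υ') :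
    ∃ t : W ⟶ W', (DR R Γ ◁ t) ≫ υ' = υ ∧ IsOpenImmersion t.left := by
  classical
  obtain ⟨t, ht, -⟩ := h'.existsUnique υ h.hom (h.small.mono hF)
  obtain ⟨B, _, _, i, fB, hi, -, hfB, hυ'⟩ := h'.chart
  obtain ⟨O, hO⟩ := Weights.exists_small_open (V := V) hfB F
  let O' : W'.left.Opens := i.left ⁻¹ᵁ ⟨O.1, O.2⟩
  let j : (Over.mk (O'.ι ≫ W'.hom) : Over (Spec (CommRingCat.of R))) ⟶ W' := Over.homMk O'.ι rfl
  have crit : ∀ (C : Type u) [CommRing C] [Algebra R C] (a : sp R C ⟶ W') (f : A →ₐ[R] MonoidAlgebra C Γ),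
      (DR R Γ ◁ a) ≫ υ' = fam f → (Small V F f ↔ ∀ q, a.left q ∈ O') := by
    intro C _ _ a f hf
    obtain ⟨φ, hφ⟩ := exists_algHom (a ≫ i)
    rw [← hυ', ← Category.assoc, ← MonoidalCategory.whiskerLeft_comp, hφ, fam_natural] at hf
    rw [← fam_injective hf, hO]
    have e : ∀ q, i.left (a.left q) = (spMap φ).left q := fun q => by rw [← hφ]; rfl
    refine ⟨fun hs q => ?_, fun hs q => ?_⟩
    · show i.left (a.left q) ∈ (⟨O.1, O.2⟩ : (Spec (CommRingCat.of B)).Opens)
      rw [e]
      exact hs q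
    · have := hs q
      show (spMap φ).left q ∈ (⟨O.1, O.2⟩ : (Spec (CommRingCat.of B)).Opens)
      rw [← e]
      exact this
  have hran : Set.range t.left ⊆ Set.range O'.ι := by
    rintro _ ⟨x, rfl⟩
    rw [Scheme.Opens.range_ι]
    obtain ⟨κ, C, _, _, a, -, -, hsurj⟩ := exists_affine_isCover W
    obtain ⟨k, y, rfl⟩ := hsurj x
    obtain ⟨f, hf⟩ := exists_fam ((DR R Γ ◁ a k) ≫ υ)
    exact (crit (C k) (a k ≫ t) f (by rw [MonoidalCategory.whiskerLeft_comp, Category.assoc, ht, hf])).1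
      (h.small _ _ f hf.symm) y
  let t' : W ⟶ Over.mk (O'.ι ≫ W'.hom) := Over.homMk (IsOpenImmersion.lift O'.ι t.left hran) (by
    show IsOpenImmersion.lift O'.ι t.left hran ≫ O'.ι ≫ W'.hom = W.hom
    rw [IsOpenImmersion.lift_fac_assoc, Over.w t])
  have htj : t' ≫ j = t := Over.OverMorphism.ext (IsOpenImmersion.lift_fac _ _ _)
  obtain ⟨s, hs, -⟩ := h.existsUnique ((DR R Γ ◁ j) ≫ υ') (isHomFamily_comp h'.hom j) fun C _ _ a f hf =>
    (crit C (a ≫ j) f (by rw [MonoidalCategory.whiskerLeft_comp, Category.assoc, hf])).2 fun q => (a.left q).2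
  have e1 : t' ≫ s = 𝟙 W := h.eq (by
    rw [MonoidalCategory.whiskerLeft_comp, Category.assoc, hs, ← Category.assoc, ← MonoidalCategory.whiskerLeft_comp,
      htj, ht, MonoidalCategory.whiskerLeft_id, Category.id_comp])
  have e2 : s ≫ t = j := h'.eq (by rw [MonoidalCategory.whiskerLeft_comp, Category.assoc, ht, hs])
  have e3 : s ≫ t' = 𝟙 _ := by
    refine Over.OverMorphism.ext ((cancel_mono O'.ι).1 ?_)
    exact (congrArg (fun m => Over.Hom.left m) ((Category.assoc s t' j).trans (by rw [htj, e2]))).trans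
      (Category.id_comp _).symm
  haveI : IsIso t'.left := ⟨s.left, congrArg (fun m => Over.Hom.left m) e1, congrArg (fun m => Over.Hom.left m) e3⟩
  refine ⟨t, ht, ?_⟩
  rw [show t.left = t'.left ≫ O'.ι from (congrArg (fun m => Over.Hom.left m) htj).symm]
  infer_instance

end Weights

set_option maxHeartbeats 1600000 in
/-- Homomorphisms from a diagonalisable group to a smooth affine group are represented by a smooth
separated ind-quasi-affine scheme. -/
theorem exists_representsHom_split (R : Type u) [CommRing R] (Γ : Type) [CommGroup Γ] (A : Type u) [CommRing A]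
    [HopfAlgebra R A] [Algebra.Smooth R A] :
    ∃ (U : Over (Spec (CommRingCat.of R))) (υ : DR R Γ ⊗ U ⟶ sp R A),
      AutFam.RepresentsHom (DR R Γ) (sp R A) U υ ∧ MoreMor.IsIndQuasiAffineHom U.hom ∧ Smooth U.hom ∧
        IsSeparated U.hom := by
  classical
  obtain ⟨V, _, _, _, _, j, hj, hgen⟩ := HopfComodModel.exists_gen_comod R A
  choose WF υF hWF using fun F : Finset Γ => exists_smallRep (R := R) (A := A) (V := V) hj hgen F
  choose tr htr htro using fun (F F' : Finset Γ) (h : F ⊆ F') => exists_trans h (hWF F) (hWF F')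
  have tr_refl : ∀ F h, tr F F h = 𝟙 _ := fun F h => (hWF F).eq (by
    rw [htr, MonoidalCategory.whiskerLeft_id, Category.id_comp])
  have tr_comp : ∀ F F' F'' h h' h'', tr F F' h ≫ tr F' F'' h' = tr F F'' h'' := fun F F' F'' h h' h'' =>
    (hWF F'').eq (by rw [MonoidalCategory.whiskerLeft_comp, Category.assoc, htr, htr, htr])
  let diag : Finset Γ ⥤ Scheme.{u} :=
    { obj := fun F => (WF F).left
      map := fun {F F'} f => (tr F F' (leOfHom f)).left
      map_id := fun F => congrArg (fun m => Over.Hom.left m) (tr_refl F _)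
      map_comp := fun f g => (congrArg (fun m => Over.Hom.left m) (tr_comp _ _ _ _ _ _)).symm }
  haveI : ∀ {F F' : Finset Γ} (f : F ⟶ F'), IsOpenImmersion (diag.map f) := fun f => htro _ _ _
  haveI : (diag ⋙ Scheme.forget).IsLocallyDirected := by
    refine ⟨fun {F₁ F₂ F₃} f₁ f₂ x₁ x₂ hx => ?_⟩
    let T₁ := tr F₁ F₃ (leOfHom f₁)
    let T₂ := tr F₂ F₃ (leOfHom f₂)
    haveI := htro F₁ F₃ (leOfHom f₁)
    haveI := htro F₂ F₃ (leOfHom f₂)
    change T₁.left x₁ = T₂.left x₂ at hx
    let O : (WF F₃).left.Opens := T₁.left.opensRange ⊓ T₂.left.opensRange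
    let WO : Over (Spec (CommRingCat.of R)) := Over.mk (O.ι ≫ (WF F₃).hom)
    let jO : WO ⟶ WF F₃ := Over.homMk O.ι rfl
    obtain ⟨κ, C, _, _, a, -, -, hsurj⟩ := exists_affine_isCover WO
    obtain ⟨k, y, hy⟩ := hsurj (⟨T₁.left x₁, ⟨x₁, rfl⟩, ⟨x₂, hx.symm⟩⟩ : O)
    have hfac : ∀ (F : Finset Γ) (h : F ⊆ F₃), (O : Set (WF F₃).left) ⊆ Set.range (tr F F₃ h).left →
        ∃ b : WO ⟶ WF F, b ≫ tr F F₃ h = jO := by
      intro F h hle
      haveI := htro F F₃ h
      have hr : Set.range O.ι ⊆ Set.range (tr F F₃ h).left := by rw [Scheme.Opens.range_ι]; exact hle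
      refine ⟨Over.homMk (IsOpenImmersion.lift (tr F F₃ h).left O.ι hr) ?_,
        Over.OverMorphism.ext (IsOpenImmersion.lift_fac _ _ _)⟩
      rw [← Over.w (tr F F₃ h), IsOpenImmersion.lift_fac_assoc]
      rfl
    obtain ⟨b₁, hb₁⟩ := hfac F₁ (leOfHom f₁) inf_le_left
    obtain ⟨b₂, hb₂⟩ := hfac F₂ (leOfHom f₂) inf_le_right
    obtain ⟨f, hf⟩ := exists_fam ((DR R Γ ◁ (a k ≫ jO)) ≫ υF F₃)
    have hsm : ∀ (F : Finset Γ) (h : F ⊆ F₃) (b : WO ⟶ WF F), b ≫ tr F F₃ h = jO → Small V F f :=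
      fun F h b hb => (hWF F).small (C k) (a k ≫ b) f (by
        rw [← htr F F₃ h, ← Category.assoc, ← MonoidalCategory.whiskerLeft_comp, Category.assoc, hb, hf])
    have hsm' : Small V (F₁ ∩ F₂) f := fun g hg => by
      by_cases h1 : g ∈ F₁
      · exact hsm F₂ _ b₂ hb₂ g fun h2 => hg (Finset.mem_inter.2 ⟨h1, h2⟩)
      · exact hsm F₁ _ b₁ hb₁ g h1
    obtain ⟨c, hc, -⟩ := (hWF (F₁ ∩ F₂)).univ (C k) f
      ((isFam_iff f).2 (hf ▸ isHomFamily_comp (hWF F₃).hom _)) hsm'
    refine ⟨F₁ ∩ F₂, homOfLE Finset.inter_subset_left, homOfLE Finset.inter_subset_right, c.left y, ?_, ?_⟩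
    · refine T₁.left.isOpenEmbedding.injective ?_
      have e : c ≫ tr (F₁ ∩ F₂) F₁ Finset.inter_subset_left ≫ T₁ = a k ≫ jO := (hWF F₃).eq (by
        rw [MonoidalCategory.whiskerLeft_comp, MonoidalCategory.whiskerLeft_comp, Category.assoc, Category.assoc,
          htr, htr, hc, hf])
      show T₁.left ((tr (F₁ ∩ F₂) F₁ Finset.inter_subset_left).left (c.left y)) = T₁.left x₁
      have e' : (c ≫ tr (F₁ ∩ F₂) F₁ Finset.inter_subset_left ≫ T₁).left y = (a k ≫ jO).left y := by rw [e]
      refine e'.trans ?_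
      show O.ι ((a k).left y) = _
      rw [hy]
      rfl
    · refine T₂.left.isOpenEmbedding.injective ?_
      have e : c ≫ tr (F₁ ∩ F₂) F₂ Finset.inter_subset_right ≫ T₂ = a k ≫ jO := (hWF F₃).eq (by
        rw [MonoidalCategory.whiskerLeft_comp, MonoidalCategory.whiskerLeft_comp, Category.assoc, Category.assoc,
          htr, htr, hc, hf])
      show T₂.left ((tr (F₁ ∩ F₂) F₂ Finset.inter_subset_right).left (c.left y)) = T₂.left x₂
      have e' : (c ≫ tr (F₁ ∩ F₂) F₂ Finset.inter_subset_right ≫ T₂).left y = (a k ≫ jO).left y := by rw [e]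
      refine e'.trans ?_
      show O.ι ((a k).left y) = _
      rw [hy]
      exact hx
  let cc : Cocone diag := ⟨Spec (CommRingCat.of R),
    { app := fun F => (WF F).hom
      naturality := fun F F' f => (Over.w (tr F F' (leOfHom f))).trans (Category.comp_id _).symm }⟩
  let U : Over (Spec (CommRingCat.of R)) := Over.mk (colimit.desc diag cc)
  let ιU : ∀ F : Finset Γ, WF F ⟶ U := fun F => Over.homMk (colimit.ι diag F) (colimit.ι_desc cc F)
  haveI hιo : ∀ F, IsOpenImmersion (ιU F).left := fun F => inferInstanceAs (IsOpenImmersion (colimit.ι diag F))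
  have ι_tr : ∀ F F' h, tr F F' h ≫ ιU F' = ιU F := fun F F' h =>
    Over.OverMorphism.ext (colimit.w diag (homOfLE h : F ⟶ F'))
  have hcov : IsCover (fun F : ULift.{u} (Finset Γ) => ιU F.down) :=
    isCover_of_openCover (fun F => hιo F.down) fun x => by
      obtain ⟨F, y, hy⟩ := Scheme.IsLocallyDirected.ι_jointly_surjective diag x
      exact ⟨⟨F⟩, y, hy⟩
  obtain ⟨υ, hυ⟩ := (isCover_whiskerLeft (H := DR R Γ) hcov).exists_glue (fun F => υF F.down) fun F F' T a b hab => by
    let H' := F.down ∪ F'.down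
    have h1 : a ≫ fst _ _ = b ≫ fst _ _ := by simpa using congrArg (fun m => m ≫ fst (DR R Γ) U) hab
    have h2 : (a ≫ snd _ _) ≫ tr F.down H' Finset.subset_union_left =
        (b ≫ snd _ _) ≫ tr F'.down H' Finset.subset_union_right := by
      refine Over.OverMorphism.ext ((cancel_mono (ιU H').left).1 ?_)
      have h3 : (a ≫ snd _ _) ≫ ιU F.down = (b ≫ snd _ _) ≫ ιU F'.down := by
        simpa using congrArg (fun m => m ≫ snd (DR R Γ) U) hab
      refine congrArg (fun m => Over.Hom.left m)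
        (show ((a ≫ snd _ _) ≫ tr F.down H' _) ≫ ιU H' = ((b ≫ snd _ _) ≫ tr F'.down H' _) ≫ ιU H' from ?_)
      rw [Category.assoc, ι_tr, Category.assoc (b ≫ snd _ _), ι_tr, h3]
    have e : ∀ (F₀ : Finset Γ) (h : F₀ ⊆ H') (c : T ⟶ DR R Γ ⊗ WF F₀),
        c ≫ υF F₀ = lift (c ≫ fst _ _) ((c ≫ snd _ _) ≫ tr F₀ H' h) ≫ υF H' := fun F₀ h c => by
      rw [← htr F₀ H' h, ← lift_whiskerLeft, Category.assoc, ← comp_lift, lift_fst_snd, Category.comp_id]
    rw [e F.down Finset.subset_union_left a, e F'.down Finset.subset_union_right b, h1, h2]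
  have hυF : ∀ F, (DR R Γ ◁ ιU F) ≫ υ = υF F := fun F => hυ ⟨F⟩
  have hfam : AutFam.IsHomFamily (DR R Γ) (sp R A) υ :=
    isHomFamily_of_isCover hcov υ fun F => by rw [hυF]; exact (hWF F.down).hom
  have hfactor : ∀ (K : Over (Spec (CommRingCat.of R))) [CompactSpace K.left] (t : K ⟶ U),
      ∃ H c, c ≫ ιU H = t := by
    intro K _ t
    obtain ⟨𝒮, h𝒮⟩ := CompactSpace.isCompact_univ.elim_finite_subcover (X := K.left)
      (fun F : Finset Γ => ((t.left ⁻¹ᵁ (ιU F).left.opensRange : K.left.Opens) : Set K.left))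
      (fun F => (t.left ⁻¹ᵁ (ιU F).left.opensRange).2) fun x _ => by
        obtain ⟨F, y, hy⟩ := Scheme.IsLocallyDirected.ι_jointly_surjective diag (t.left x)
        exact Set.mem_iUnion.2 ⟨F, y, hy⟩
    let H' := 𝒮.sup id
    have hr : Set.range t.left ⊆ Set.range (ιU H').left := by
      rintro _ ⟨x, rfl⟩
      obtain ⟨F, hF, y, hy⟩ := Set.mem_iUnion₂.1 (h𝒮 (Set.mem_univ x))
      have hle : F ⊆ H' := Finset.le_sup (f := id) hF
      refine ⟨(tr F H' hle).left y, ?_⟩
      show (tr F H' hle ≫ ιU H').left y = t.left x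
      rw [ι_tr F H' hle]
      exact hy
    refine ⟨H', Over.homMk (IsOpenImmersion.lift (ιU H').left t.left hr) ?_,
      Over.OverMorphism.ext (IsOpenImmersion.lift_fac _ _ _)⟩
    rw [← Over.w (ιU H'), IsOpenImmersion.lift_fac_assoc, Over.w t]
  have haff : ∀ (C : Type u) [CommRing C] [Algebra R C] (f : A →ₐ[R] MonoidAlgebra C Γ), IsFam f →
      ∃! t : sp R C ⟶ U, (DR R Γ ◁ t) ≫ υ = fam f := by
    intro C _ _ f hf
    obtain ⟨F, hF⟩ := Weights.exists_small (V := V) f
    obtain ⟨b, hb, hbu⟩ := (hWF F).univ C f hf hF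
    refine ⟨b ≫ ιU F, by simp [MonoidalCategory.whiskerLeft_comp, hυF, hb], fun t ht => ?_⟩
    haveI : CompactSpace (sp R C).left := inferInstanceAs (CompactSpace (Spec (CommRingCat.of C)))
    obtain ⟨G', c, rfl⟩ := hfactor (sp R C) t
    rw [MonoidalCategory.whiskerLeft_comp, Category.assoc, hυF] at ht
    have : c ≫ tr G' (F ∪ G') Finset.subset_union_right = b ≫ tr F (F ∪ G') Finset.subset_union_left :=
      (hWF _).eq (by simp only [MonoidalCategory.whiskerLeft_comp, Category.assoc, htr, ht, hb])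
    rw [← ι_tr G' (F ∪ G') Finset.subset_union_right, ← ι_tr F (F ∪ G') Finset.subset_union_left,
      ← Category.assoc, this, Category.assoc]
  have hrep : AutFam.RepresentsHom (DR R Γ) (sp R A) U υ :=
    ⟨hfam, fun T φ hφ => existsUnique_of_affine υ (fun _ _ _ _ => True) (fun C _ _ f hf _ => haff C f hf) φ hφ
      fun _ _ _ _ _ _ => trivial⟩
  have eqOf : ∀ {T : Over (Spec (CommRingCat.of R))} {t t' : T ⟶ U},
      (DR R Γ ◁ t) ≫ υ = (DR R Γ ◁ t') ≫ υ → t = t' := fun {T t t'} e =>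
    (hrep.2 T _ (isHomFamily_comp hfam t')).unique e rfl
  have hqa : MoreMor.IsIndQuasiAffineHom U.hom := by
    rw [MorLib.IQA.indQA_iff]
    intro _ _ O hO _
    let K : Over (Spec (CommRingCat.of R)) := Over.mk (O.ι ≫ U.hom)
    haveI : CompactSpace K.left := isCompact_iff_compactSpace.mp hO
    obtain ⟨H', c, hc⟩ := hfactor K (Over.homMk O.ι rfl)
    haveI := hιo H'
    haveI : IsOpenImmersion (c.left ≫ (ιU H').left) := by
      rw [show c.left ≫ (ιU H').left = O.ι from congrArg (fun m => Over.Hom.left m) hc]; infer_instance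
    haveI : IsOpenImmersion c.left := IsOpenImmersion.of_comp c.left (ιU H').left
    obtain ⟨B, _, _, i, fB, hi, -⟩ := (hWF H').chart
    haveI : IsAffine (sp R B).left := inferInstanceAs (IsAffine (Spec (CommRingCat.of B)))
    haveI : CompactSpace (O : Scheme.{u}) := isCompact_iff_compactSpace.mp hO
    exact Scheme.IsQuasiAffine.of_isImmersion (c.left ≫ i.left)
  haveI : LocallyOfFinitePresentation U.hom := by
    refine (IsZariskiLocalAtSource.iff_of_openCover (P := @LocallyOfFinitePresentation)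
      (Scheme.IsLocallyDirected.openCover diag)).2 fun F => ?_
    show LocallyOfFinitePresentation (colimit.ι diag F ≫ colimit.desc diag cc)
    rw [colimit.ι_desc]
    obtain ⟨B, _, _, i, fB, hi, hfp, -⟩ := (hWF F).chart
    haveI : LocallyOfFinitePresentation (sp R B).hom :=
      HasRingHomProperty.Spec_iff.2 (RingHom.finitePresentation_algebraMap.2 hfp)
    show LocallyOfFinitePresentation (WF F).hom
    rw [← Over.w i]
    infer_instance
  refine ⟨U, υ, hrep, hqa, smooth_of_isFormallySmoothHom U.hom ?_, ?_⟩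
  · intro C _ I hI a b hw
    letI : Algebra R C := (Spec.preimage b).hom.toAlgebra
    have hb : (sp R C).hom = b := Spec.map_preimage b
    let mk := Ideal.Quotient.mkₐ R I
    let a' : sp R (C ⧸ I) ⟶ U := Over.homMk a (by
      rw [← hw, ← hb]
      exact Over.w (spMap mk))
    obtain ⟨fb, hfb⟩ := exists_fam ((DR R Γ ◁ a') ≫ υ)
    obtain ⟨f, hf, hff⟩ := exists_lift_fam ⟨2, hI⟩ fb ((isFam_iff fb).2 (hfb ▸ isHomFamily_comp hfam a'))
    obtain ⟨t, ht, -⟩ := haff C f hf
    have e : spMap mk ≫ t = a' := eqOf (by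
      rw [MonoidalCategory.whiskerLeft_comp, Category.assoc, ht, fam_natural, hff, hfb])
    exact ⟨t.left, congrArg (fun m => Over.Hom.left m) e, (Over.w t).trans hb⟩
  · refine ⟨IsClosedImmersion.of_isPreimmersion _ ?_⟩
    let Δ : U ⟶ U ⊗ U := lift (𝟙 U) (𝟙 U)
    have hΔ : Δ.left = pullback.diagonal U.hom := by
      refine pullback.hom_ext ?_ ?_
      · exact (congrArg (fun m => Over.Hom.left m) (lift_fst (𝟙 U) (𝟙 U))).trans (pullback.diagonal_fst _).symm
      · exact (congrArg (fun m => Over.Hom.left m) (lift_snd (𝟙 U) (𝟙 U))).trans (pullback.diagonal_snd _).symm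
    rw [← hΔ]
    have key : ∀ (C : Type u) [CommRing C] [Algebra R C] (a : sp R C ⟶ U ⊗ U),
        IsClosed (a.left ⁻¹' Set.range Δ.left) := by
      intro C _ _ a
      obtain ⟨f, hf⟩ := exists_fam ((DR R Γ ◁ (a ≫ fst U U)) ≫ υ)
      obtain ⟨f', hf'⟩ := exists_fam ((DR R Γ ◁ (a ≫ snd U U)) ≫ υ)
      let D : Set C := Set.range fun p : A × Γ => (f p.1).coeff p.2 - (f' p.1).coeff p.2
      have hD : ∀ (K : Type u) [CommRing K] [Algebra R K] (ψ : C →ₐ[R] K),
          spMap ψ ≫ a ≫ fst U U = spMap ψ ≫ a ≫ snd U U ↔ ∀ d ∈ D, ψ d = 0 := by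
        intro K _ _ ψ
        have e : ∀ (f₀ : A →ₐ[R] MonoidAlgebra C Γ) (t : sp R C ⟶ U), fam f₀ = (DR R Γ ◁ t) ≫ υ →
            (DR R Γ ◁ (spMap ψ ≫ t)) ≫ υ = fam (push ψ f₀) := fun f₀ t h0 => by
          rw [MonoidalCategory.whiskerLeft_comp, Category.assoc, ← h0, fam_natural]
        constructor
        · rintro h _ ⟨⟨x, g⟩, rfl⟩
          have h1 := fam_injective ((e f _ hf).symm.trans
            ((congrArg (fun m => (DR R Γ ◁ m) ≫ υ) h).trans (e f' _ hf')))
          have h2 := congrArg (fun q => (q x).coeff g) h1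
          simp only [AlgHom.comp_apply, Weights.coeff_map] at h2
          rw [map_sub, sub_eq_zero]
          exact h2
        · intro h
          refine eqOf ((e f _ hf).trans (Eq.trans (congrArg fam (AlgHom.ext fun x => ?_)) (e f' _ hf').symm))
          refine MonoidAlgebra.ext (Finsupp.ext fun g => ?_)
          rw [AlgHom.comp_apply, AlgHom.comp_apply, Weights.coeff_map, Weights.coeff_map, ← sub_eq_zero, ← map_sub]
          exact h _ ⟨(x, g), rfl⟩
      suffices hset : a.left ⁻¹' Set.range Δ.left = PrimeSpectrum.zeroLocus D from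
        hset ▸ PrimeSpectrum.isClosed_zeroLocus D
      refine Set.ext fun q => ⟨?_, fun hq => ?_⟩
      · rintro ⟨y, hy⟩ d hd
        obtain ⟨z, -, hz⟩ := Scheme.Pullback.exists_preimage_pullback (f := Δ.left) (g := a.left) y q hy
        let P := pullback Δ.left a.left
        let ψ₀ := Spec.preimage (P.fromSpecResidueField z ≫ pullback.snd Δ.left a.left)
        letI : Algebra R (P.residueField z) := (ψ₀.hom.comp (algebraMap R C)).toAlgebra
        let ψ : C →ₐ[R] P.residueField z := ⟨ψ₀.hom, fun r => rfl⟩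
        have hψ : (spMap ψ).left = P.fromSpecResidueField z ≫ pullback.snd Δ.left a.left := Spec.map_preimage _
        have hcond : (P.fromSpecResidueField z ≫ pullback.fst Δ.left a.left) ≫ Δ.left = (spMap ψ ≫ a).left := by
          show _ = (spMap ψ).left ≫ a.left
          rw [hψ, Category.assoc, Category.assoc, pullback.condition]
        let e : sp R (P.residueField z) ⟶ U :=
          Over.homMk (P.fromSpecResidueField z ≫ pullback.fst Δ.left a.left) (by
            rw [← Over.w Δ, ← Category.assoc, hcond]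
            exact Over.w (spMap ψ ≫ a))
        have he : spMap ψ ≫ a = e ≫ Δ := (Over.OverMorphism.ext hcond).symm
        have h0 := (hD _ ψ).1 (by
          rw [reassoc_of% he, reassoc_of% he, lift_fst, lift_snd]) d hd
        let pt : PrimeSpectrum (P.residueField z) := ⟨⊥, Ideal.isPrime_bot⟩
        have hpt : (spMap ψ).left pt = q := by
          rw [hψ]
          show (pullback.snd Δ.left a.left) (P.fromSpecResidueField z pt) = q
          rw [show P.fromSpecResidueField z pt = z from P.fromSpecResidueField_apply z pt, hz]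
        rw [← hpt]
        show ψ d ∈ (⊥ : Ideal (P.residueField z))
        rw [h0]
        exact zero_mem _
      · let q' : PrimeSpectrum C := q
        let ψ : C →ₐ[R] q'.asIdeal.ResidueField := IsScalarTower.toAlgHom R C _
        have h1 := (hD _ ψ).2 fun d hd => by
          show algebraMap C q'.asIdeal.ResidueField d = 0
          rw [← RingHom.mem_ker, Ideal.ker_algebraMap_residueField]
          exact hq hd
        have h2 : spMap ψ ≫ a = (spMap ψ ≫ a ≫ fst U U) ≫ Δ := CartesianMonoidalCategory.hom_ext _ _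
          (by rw [Category.assoc, Category.assoc, Category.assoc, lift_fst, Category.comp_id])
          (by rw [Category.assoc, Category.assoc, Category.assoc, lift_snd, Category.comp_id, h1])
        let pt : PrimeSpectrum q'.asIdeal.ResidueField := ⟨⊥, Ideal.isPrime_bot⟩
        have hpt : (spMap ψ).left pt = q := by
          refine PrimeSpectrum.ext ?_
          show Ideal.comap (algebraMap C q'.asIdeal.ResidueField) ⊥ = q'.asIdeal
          exact Ideal.ker_algebraMap_residueField _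
        have h3 : (spMap ψ ≫ a).left pt = ((spMap ψ ≫ a ≫ fst U U) ≫ Δ).left pt := by rw [← h2]
        refine ⟨(spMap ψ ≫ a ≫ fst U U).left pt, ?_⟩
        rw [← hpt]
        exact h3.symm
    obtain ⟨κ, C, _, _, a, -, ho, hsurj⟩ := exists_affine_isCover (U ⊗ U)
    rw [← isOpen_compl_iff, isOpen_iff_forall_mem_open]
    intro x hx
    obtain ⟨k, y, rfl⟩ := hsurj x
    refine ⟨(a k).left '' (a k).left ⁻¹' (Set.range Δ.left)ᶜ, Set.image_preimage_subset _ _, ?_, ⟨y, hx, rfl⟩⟩
    exact (ho k).base_open.isOpenMap _ ((key (C k) (a k)).isOpen_compl)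

end Groth.Agent.MultDefLib.SplitHom

end
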