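import Groth.Agent.MultDefLib.SplitBridge
import Groth.Agent.MultDefLib.Hom
import Groth.Agent.MultDefLib.Lift
import Mathlib.RingTheory.Smooth.Basic
import Mathlib.RingTheory.Nilpotent.Basic

/-!
# Families of homomorphisms from a diagonalisable group to a smooth affine group lift modulo nilpotent ideals
-/

universe u

open CategoryTheory CategoryTheory.Limits MonoidalCategory CartesianMonoidalCategory MonObj GrpObj AlgebraicGeometry
open TensorProduct Coalgebra WithConv

set_option linter.style.haveILetI false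

noncomputable section

namespace Groth.Agent.MultDefLib.SplitHom

open GrpSchLib.AffineHopf (sp spMap spMap_comp spMap_id spMap_mul spMap_injective exists_eq_spMap exists_bialgHom)
open Weights (IsFam push)
open MultTypeLib (Mean)

/-- The constant coefficient. -/
def coeffOne (C : Type u) [CommRing C] (Γ : Type) [CommGroup Γ] : MonoidAlgebra C Γ →ₗ[C] C where
  toFun x := x.coeff 1
  map_add' a b := by simp
  map_smul' r a := by simp

theorem coeffOne_apply (C : Type u) [CommRing C] (Γ : Type) [CommGroup Γ] (x : MonoidAlgebra C Γ) :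
    coeffOne C Γ x = x.coeff 1 := rfl

/-- The invariant mean of a group algebra. -/
def monMean (C : Type u) [CommRing C] (Γ : Type) [CommGroup Γ] : Mean C (MonoidAlgebra C Γ) :=
  ⟨coeffOne C Γ, by simp [coeffOne_apply, MonoidAlgebra.one_def], fun y => by
    classical
    induction y using MonoidAlgebra.induction_linear with
    | zero => simp
    | add a b ha hb => simp only [map_add, ha, hb, add_smul]
    | single g c =>
      by_cases h : g = 1
      · simp [h, coeffOne_apply, MonoidAlgebra.one_def]
      · simp [h, coeffOne_apply]⟩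

variable {C : Type u} [CommRing C] {Γ : Type} [CommGroup Γ]

theorem split_merge (w : MonoidAlgebra C Γ ⊗[C] MonoidAlgebra C Γ) :
    split C Γ (Weights.merge C C Γ w) = w := by
  induction w using TensorProduct.induction_on with
  | zero => simp
  | add p q hp hq => simp only [map_add, hp, hq]
  | tmul x y =>
    induction x using MonoidAlgebra.induction_linear with
    | zero => simp
    | add a b ha hb => simp only [TensorProduct.add_tmul, map_add, ha, hb]
    | single g a =>
      induction y using MonoidAlgebra.induction_linear with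
      | zero => simp
      | add c d hc hd => simp only [TensorProduct.tmul_add, map_add, hc, hd]
      | single h b =>
        rw [Weights.merge_single, split, MonoidAlgebra.lift_single]
        simp only [MonoidHom.coe_mk, OneHom.coe_mk]
        rw [mul_smul, ← TensorProduct.tmul_smul, TensorProduct.smul_tmul', MonoidAlgebra.smul_single',
          MonoidAlgebra.smul_single', _root_.mul_one, _root_.mul_one]

theorem merge_comul (x : MonoidAlgebra C Γ) :
    Weights.merge C C Γ (comul x) = Weights.dup C C Γ x := by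
  induction x using MonoidAlgebra.induction_linear with
  | zero => simp
  | add a b ha hb => simp only [map_add, ha, hb]
  | single g c => simp [Weights.merge_single, Weights.dup_single]

/-- An element whose coefficients lie in an ideal lies in the extended ideal. -/
theorem mem_ext_of_coeff {Δ : Type} [CommGroup Δ] {K : Ideal C} {x : MonoidAlgebra C Δ}
    (h : ∀ g, x.coeff g ∈ K) : x ∈ ext K (MonoidAlgebra C Δ) := by
  rw [← MonoidAlgebra.sum_coeff_single x]
  refine Ideal.sum_mem _ fun g _ => ?_
  rw [show MonoidAlgebra.single g (x.coeff g) =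
      algebraMap C (MonoidAlgebra C Δ) (x.coeff g) * MonoidAlgebra.single g 1 by
    rw [← Algebra.smul_def, MonoidAlgebra.smul_single', _root_.mul_one]]
  exact Ideal.mul_mem_right _ _ (Ideal.mem_map_of_mem _ (h g))

theorem coeff_mem_of_mem_ext {Δ : Type} [CommGroup Δ] {K : Ideal C} {x : MonoidAlgebra C Δ}
    (h : x ∈ ext K (MonoidAlgebra C Δ)) (g : Δ) : x.coeff g ∈ K := by
  have hle : ext K (MonoidAlgebra C Δ) ≤ RingHom.ker (MonoidAlgebra.mapRingHom Δ (Ideal.Quotient.mk K)) := by
    refine Ideal.map_le_iff_le_comap.2 fun c hc => ?_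
    simp [Ideal.Quotient.eq_zero_iff_mem.2 hc]
  have h1 := congrArg (fun y => y.coeff g) (RingHom.mem_ker.1 (hle h))
  refine Ideal.Quotient.eq_zero_iff_mem.1 ?_
  simpa using h1

theorem sub_mem_ext_of_merge {K : Ideal C} {x y : MonoidAlgebra C Γ ⊗[C] MonoidAlgebra C Γ}
    (h : ∀ p, (Weights.merge C C Γ x - Weights.merge C C Γ y).coeff p ∈ K) : x - y ∈ ext K _ := by
  rw [← split_merge x, ← split_merge y, ← map_sub]
  exact (Ideal.map_le_iff_le_comap.2 (Ideal.map_le_iff_le_comap.2 fun c hc => by
      rw [Ideal.mem_comap, Ideal.mem_comap, AlgHom.commutes]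
      exact Ideal.mem_map_of_mem _ hc) :
    (ext K (MonoidAlgebra C (Γ × Γ))).map (split C Γ) ≤ ext K _) (Ideal.mem_map_of_mem _ (mem_ext_of_coeff h))

variable {R : Type u} [CommRing R] [Algebra R C] {A : Type u} [CommRing A] [HopfAlgebra R A]

set_option maxHeartbeats 1000000 in
/-- Families lift modulo nilpotent ideals. -/
theorem exists_lift_fam [Algebra.Smooth R A] {I : Ideal C} (hI : IsNilpotent I)
    (fb : A →ₐ[R] MonoidAlgebra (C ⧸ I) Γ) (hfb : IsFam fb) :
    ∃ f : A →ₐ[R] MonoidAlgebra C Γ, IsFam f ∧ push (Ideal.Quotient.mkₐ R I) f = fb := by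
  classical
  let Y := C ⊗[R] A
  let E := MonoidAlgebra C Γ
  let mkR : C →ₐ[R] C ⧸ I := Ideal.Quotient.mkₐ R I
  let π : MonoidAlgebra C Γ →ₐ[R] MonoidAlgebra (C ⧸ I) Γ := MonoidAlgebra.mapAlgHom Γ mkR
  have hπ : ∀ x, π x = 0 ↔ x ∈ ext I (MonoidAlgebra C Γ) := fun x => by
    refine ⟨fun h => mem_ext_of_coeff fun g => Ideal.Quotient.eq_zero_iff_mem.1 ?_, fun h => ?_⟩
    · have h1 := congrArg (fun y => y.coeff g) h
      simpa [π, mkR, Weights.coeff_map] using h1
    · refine MonoidAlgebra.ext (Finsupp.ext fun g => ?_)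
      simpa [π, mkR, Weights.coeff_map] using Ideal.Quotient.eq_zero_iff_mem.2 (coeff_mem_of_mem_ext h g)
  have hπs : Function.Surjective π := fun y => by
    induction y using MonoidAlgebra.induction_linear with
    | zero => exact ⟨0, map_zero _⟩
    | add a b ha hb =>
      obtain ⟨a', rfl⟩ := ha
      obtain ⟨b', rfl⟩ := hb
      exact ⟨a' + b', map_add _ _ _⟩
    | single g c =>
      obtain ⟨c', rfl⟩ := Ideal.Quotient.mk_surjective c
      exact ⟨MonoidAlgebra.single g c', by simp [π, mkR]⟩
  have hker : IsNilpotent (RingHom.ker (π : MonoidAlgebra C Γ →+* MonoidAlgebra (C ⧸ I) Γ)) := by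
    obtain ⟨n, hn⟩ := hI
    refine ⟨n, ?_⟩
    have hle : RingHom.ker (π : MonoidAlgebra C Γ →+* MonoidAlgebra (C ⧸ I) Γ) ≤ ext I (MonoidAlgebra C Γ) :=
      fun x hx => (hπ x).1 hx
    refine le_bot_iff.1 ((Ideal.pow_right_mono hle n).trans ?_)
    rw [← Ideal.map_pow, show I ^ n = ⊥ from hn, Ideal.map_bot]
  let f₀ : A →ₐ[R] MonoidAlgebra C Γ := Algebra.FormallySmooth.liftOfSurjective fb π hπs hker
  have hf₀ : π.comp f₀ = fb := Algebra.FormallySmooth.comp_liftOfSurjective fb π hπs hker
  let g₀ : C ⊗[R] A →ₐ[C] MonoidAlgebra C Γ :=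
    Algebra.TensorProduct.lift (Algebra.ofId C _) f₀ fun _ _ => .all _ _
  have hg₀ : ∀ a, g₀ (1 ⊗ₜ a) = f₀ a := fun a => by simp [g₀, ← MonoidAlgebra.one_def]
  have key : ∀ (g : C ⊗[R] A →ₐ[C] MonoidAlgebra C Γ) (f : A →ₐ[R] MonoidAlgebra C Γ),
      (∀ a, g (1 ⊗ₜ a) = f a) → ∀ a,
      Weights.merge C C Γ ((toConv ((Algebra.TensorProduct.includeLeft :
          MonoidAlgebra C Γ →ₐ[C] MonoidAlgebra C Γ ⊗[C] MonoidAlgebra C Γ).comp g) *
        toConv ((Algebra.TensorProduct.includeRight).comp g)).ofConv (1 ⊗ₜ a)) =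
      Weights.merge R C Γ (Algebra.TensorProduct.map f f (comul a)) := fun g f hgf a => by
    rw [AlgHom.convMul_apply, TensorProduct.comul_tmul]
    generalize comul (R := R) a = z
    induction z using TensorProduct.induction_on with
    | zero => simp
    | add p q hp hq => simp only [map_add, tmul_add, hp, hq]
    | tmul p q =>
      simp [show comul (R := C) (1 : C) = (1 : C) ⊗ₜ[C] (1 : C) from rfl, hgf, Weights.merge]
  -- the lift is a homomorphism modulo `I`
  have h0 : Congr I (spMap (Bialgebra.comulAlgHom C (MonoidAlgebra C Γ)) ≫ spMap g₀)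
      ((spMap Algebra.TensorProduct.includeLeft ≫ spMap g₀) * (spMap Algebra.TensorProduct.includeRight ≫ spMap g₀)) := by
    unfold Congr
    rw [spMap_comp, spMap_comp, spMap_comp, spMap_comp, spMap_mul, spMap_comp]
    congr 1
    refine Algebra.TensorProduct.ext (Subsingleton.elim _ _) (AlgHom.ext fun a => ?_)
    simp only [AlgHom.comp_apply, AlgHom.restrictScalars_apply, Algebra.TensorProduct.includeRight_apply]
    refine red_eq_iff.2 ?_
    rw [Bialgebra.comulAlgHom_apply]
    refine sub_mem_ext_of_merge ?_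
    rw [key g₀ f₀ hg₀, merge_comul, hg₀]
    have h1 : ∀ p, (Weights.dup C C Γ (f₀ a) - Weights.merge R C Γ (Algebra.TensorProduct.map f₀ f₀ (comul a))).coeff p ∈ I := by
      intro p
      refine Ideal.Quotient.eq_zero_iff_mem.1 ?_
      rw [show Ideal.Quotient.mk I _ = mkR _ from rfl, ← Weights.coeff_map, map_sub,
        show Weights.dup C C Γ (f₀ a) = Weights.dup R C Γ (f₀ a) from rfl, ← AlgHom.comp_apply,
        ← Weights.dup_natural, AlgHom.comp_apply, ← AlgHom.comp_apply π f₀, hf₀,
        ← AlgHom.comp_apply _ (Weights.merge R C Γ), ← Weights.merge_natural, AlgHom.comp_apply,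
        ← AlgHom.comp_apply (Algebra.TensorProduct.map _ _) (Algebra.TensorProduct.map f₀ f₀),
        ← Algebra.TensorProduct.map_comp, hf₀,
        show Weights.dup R (C ⧸ I) Γ (fb a) = Weights.merge R (C ⧸ I) Γ (Algebra.TensorProduct.map fb fb (comul a)) from
          AlgHom.congr_fun hfb.dup a, sub_self]
      simp
    exact h1
  obtain ⟨f', hf', hhom⟩ := exists_hom_nilpotent (monMean C Γ) hI
    (fun K hK => @canLift_of_smooth C _ (sp C Y)
      (HasRingHomProperty.Spec_iff.2 (RingHom.smooth_algebraMap.2 inferInstance)) K (isNilpotent_of_le hK hI)) h0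
  haveI : IsMonHom f' := isMonHom_of_isHom hhom
  obtain ⟨g, hg⟩ := exists_bialgHom f'
  let gA : C ⊗[R] A →ₐ[C] MonoidAlgebra C Γ := (g : C ⊗[R] A →ₐ[C] MonoidAlgebra C Γ)
  let f : A →ₐ[R] MonoidAlgebra C Γ := (gA.restrictScalars R).comp Algebra.TensorProduct.includeRight
  refine ⟨f, ⟨AlgHom.ext fun a => ?_, AlgHom.ext fun a => ?_⟩, ?_⟩
  · have h1 : counit (R := C) (g (1 ⊗ₜ[R] a)) = counit (R := C) ((1 : C) ⊗ₜ[R] a) :=
      CoalgHomClass.counit_comp_apply g _
    rw [TensorProduct.counit_tmul, Bialgebra.counit_one] at h1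
    refine Eq.trans ?_ (h1.trans (Algebra.algebraMap_eq_smul_one _).symm)
    show Weights.aug R C Γ (g (1 ⊗ₜ[R] a)) = _
    generalize g ((1 : C) ⊗ₜ[R] a) = y
    induction y using MonoidAlgebra.induction_linear with
    | zero => simp
    | add p q hp hq => simp only [map_add, hp, hq]
    | single m c => simp
  · show Weights.dup C C Γ (g (1 ⊗ₜ[R] a)) = _
    rw [← merge_comul, ← CoalgHomClass.map_comp_comul_apply g, AlgHom.comp_apply, AlgHom.comp_apply,
      Bialgebra.comulAlgHom_apply, TensorProduct.comul_tmul]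
    generalize comul (R := R) a = z
    induction z using TensorProduct.induction_on with
    | zero => simp
    | add p q hp hq => simp only [map_add, tmul_add, hp, hq]
    | tmul p q =>
      simp [show comul (R := C) (1 : C) = (1 : C) ⊗ₜ[C] (1 : C) from rfl, Weights.merge, f, gA]
  · refine AlgHom.ext fun a => ?_
    rw [← hf₀]
    unfold Congr at hf'
    rw [hg, spMap_comp, spMap_comp] at hf'
    have h1 := AlgHom.congr_fun (spMap_injective hf') (1 ⊗ₜ a)
    simp only [AlgHom.comp_apply] at h1
    have h2 := (hπ _).2 (red_eq_iff.1 h1)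
    rw [map_sub, sub_eq_zero, hg₀] at h2
    exact h2

end Groth.Agent.MultDefLib.SplitHom

end
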