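import Groth.Agent.MultDefLib.Conj
import Groth.Agent.MultDefLib.Flat
import Groth.Agent.MultDefLib.ImmThick
import Groth.Agent.MultTypeLib.NilLift
import Groth.Agent.MultTypeLib.QuasiIso
import Groth.Agent.DSPtsLib.Basic
import Groth.Agent.GrpSchLib.BCPoints

/-!
# Subgroups of multiplicative type lift along nilpotent ideals into smooth groups
-/

universe u

open CategoryTheory CategoryTheory.Limits MonoidalCategory CartesianMonoidalCategory MonObj GrpObj AlgebraicGeometry
open TensorProduct WithConv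

set_option backward.isDefEq.respectTransparency false
set_option linter.style.haveILetI false

noncomputable section

namespace Groth.Agent.MultDefLib

open GrpSchLib.AffineHopf (sp spMap spMap_comp spMap_id toBc toBc_fst toBc_comp_map spMap_comp_toBc toBc_mul exists_eq_toBc)

variable {R : Type u} [CommRing R]

section Down

variable {J : Ideal R}

local notation "i₀" => Spec.map (CommRingCat.ofHom (algebraMap R (R ⧸ J)))

variable {C : Type u} [CommRing C] [Algebra (R ⧸ J) C] [Algebra R C] [IsScalarTower R (R ⧸ J) C]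
  {G : Over (Spec (CommRingCat.of R))}

/-- The spectrum of an algebra over the quotient, over the base. -/
def tr : sp R C ⟶ (Over.map i₀).obj (sp (R ⧸ J) C) :=
  Over.homMk (𝟙 _) (by
    show 𝟙 _ ≫ Spec.map _ ≫ Spec.map _ = Spec.map _
    rw [Category.id_comp, ← Spec.map_comp, ← CommRingCat.ofHom_comp, ← IsScalarTower.algebraMap_eq])

/-- A point of the base change as a point over the base. -/
def down (w : sp (R ⧸ J) C ⟶ Red.bc i₀ G) : sp R C ⟶ G := tr ≫ DSPtsLib.theta i₀ w

theorem down_left (w : sp (R ⧸ J) C ⟶ Red.bc i₀ G) : (down w).left = w.left ≫ pullback.fst _ _ := by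
  show 𝟙 _ ≫ (DSPtsLib.theta i₀ w).left = _
  rw [Category.id_comp, DSPtsLib.theta_left]

theorem down_injective : Function.Injective (down (C := C) (G := G) (J := J)) := fun w w' h => by
  refine Over.OverMorphism.ext (pullback.hom_ext ?_ ?_)
  · rw [← down_left, ← down_left, h]
  · exact (Over.w w).trans (Over.w w').symm

theorem down_mul [GrpObj G] (w w' : sp (R ⧸ J) C ⟶ Red.bc i₀ G) : down (w * w') = down w * down w' := by
  rw [down, DSPtsLib.theta_mul, MonObj.comp_mul]
  rfl

theorem down_toBc {A : Type u} [CommRing A] [Algebra R A] (f : A →ₐ[R] C) (v : sp R A ⟶ G) :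
    down (toBc (S := R ⧸ J) f ≫ (Over.pullback i₀).map v) = spMap f ≫ v := by
  refine Over.OverMorphism.ext ?_
  rw [down_left, Over.comp_left, Category.assoc, Over.comp_left]
  show (toBc f).left ≫ pullback.lift (pullback.fst _ _ ≫ v.left) (pullback.snd _ _) _ ≫ pullback.fst _ _ = _
  rw [pullback.lift_fst, ← Category.assoc, toBc_fst]
  rfl

theorem down_comp {C' : Type u} [CommRing C'] [Algebra (R ⧸ J) C'] [Algebra R C'] [IsScalarTower R (R ⧸ J) C']
    (f : C →ₐ[R ⧸ J] C') (w : sp (R ⧸ J) C ⟶ Red.bc i₀ G) :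
    down (spMap f ≫ w) = spMap (f.restrictScalars R) ≫ down w := by
  refine Over.OverMorphism.ext ?_
  rw [down_left, Over.comp_left, Category.assoc, Over.comp_left, down_left]
  rfl

end Down

/-- The algebra structure of a reduction over the quotient of the base. -/
@[instance_reducible]
def algRed (J : Ideal R) (P : Type u) [CommRing P] [Algebra R P] : Algebra (R ⧸ J) (P ⧸ ext J P) :=
  (Ideal.Quotient.liftₐ J (Algebra.ofId R (P ⧸ ext J P)) (quotientToRed_aux J P)).toRingHom.toAlgebra

attribute [local instance] algRed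

instance (J : Ideal R) (P : Type u) [CommRing P] [Algebra R P] :
    IsScalarTower R (R ⧸ J) (P ⧸ ext J P) :=
  IsScalarTower.of_algebraMap_eq fun _ => rfl

/-- An almost bialgebra map on reductions, in terms of points. -/
theorem exists_reduction_hom {J : Ideal R} {A : Type u} [CommRing A] [HopfAlgebra R A]
    {G : Over (Spec (CommRingCat.of R))} [GrpObj G]
    (b : Red.bc (Spec.map (CommRingCat.ofHom (algebraMap R (R ⧸ J)))) (sp R A) ⟶
      Red.bc (Spec.map (CommRingCat.ofHom (algebraMap R (R ⧸ J)))) G) [IsMonHom b]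
    (q : sp R (A ⧸ ext J A) ⟶ G) (hq : q = down (toBc (S := R ⧸ J) (red J A) ≫ b))
    (f : sp R A ⟶ G) (hf : spMap (red J A) ≫ f = q) :
    Congr J (spMap (Bialgebra.comulAlgHom R A) ≫ f)
      ((spMap (Algebra.TensorProduct.includeLeft : A →ₐ[R] A ⊗[R] A) ≫ f) *
        (spMap (Algebra.TensorProduct.includeRight : A →ₐ[R] A ⊗[R] A) ≫ f)) := by
  have e : ∀ (a : A →ₐ[R] A ⊗[R] A), spMap (red J (A ⊗[R] A)) ≫ spMap a ≫ f =
      down (toBc (S := R ⧸ J) ((red J (A ⊗[R] A)).comp a) ≫ b) := fun a => by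
    rw [← pull_red, hf, hq]
    let a' : A ⧸ ext J A →ₐ[R ⧸ J] (A ⊗[R] A) ⧸ ext J (A ⊗[R] A) :=
      { (mkMap J a).toRingHom with
        commutes' := fun r => by
          obtain ⟨r, rfl⟩ := Ideal.Quotient.mk_surjective r
          exact (mkMap J a).commutes r }
    rw [show mkMap J a = a'.restrictScalars R from rfl, ← down_comp, ← Category.assoc, spMap_comp_toBc]
    rfl
  unfold Congr
  rw [MonObj.comp_mul, e, e, e, ← down_mul, ← MonObj.mul_comp, toBc_mul (R := R) (S := R ⧸ J)
    (toConv ((red J (A ⊗[R] A)).comp Algebra.TensorProduct.includeLeft))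
    (toConv ((red J (A ⊗[R] A)).comp Algebra.TensorProduct.includeRight))]
  congr 3
  refine AlgHom.ext fun a => ?_
  rw [AlgHom.convMul_apply]
  show red J _ (Coalgebra.comul a) = _
  generalize Coalgebra.comul (R := R) a = z
  induction z using TensorProduct.induction_on with
  | zero => simp
  | add p q hp hq => simp only [map_add, hp, hq]
  | tmul p q => simp [← map_mul]

/-- The reduction determines a morphism out of the base change. -/
theorem bc_hom_ext {J : Ideal R} {A : Type u} [CommRing A] [HopfAlgebra R A] {G : Over (Spec (CommRingCat.of R))}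
    {w w' : Red.bc (Spec.map (CommRingCat.ofHom (algebraMap R (R ⧸ J)))) (sp R A) ⟶
      Red.bc (Spec.map (CommRingCat.ofHom (algebraMap R (R ⧸ J)))) G}
    (h : down (toBc (S := R ⧸ J) (red J A) ≫ w) = down (toBc (S := R ⧸ J) (red J A) ≫ w')) : w = w' := by
  have h1 := down_injective h
  obtain ⟨k⟩ := GrpSchLib.AffineHopf.nonempty_bc_sp (R := R) (R ⧸ J) A
  obtain ⟨g, hg⟩ := exists_eq_toBc (overIso k).inv
  have hgk : ∀ x ∈ ext J A, g x = 0 := fun x hx => by
    have hx' := algHom_map_mem_ext g hx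
    rwa [show ext J ((R ⧸ J) ⊗[R] A) = ⊥ from (Ideal.map_eq_bot_iff_le_ker _).mpr fun r hr => by
      rw [RingHom.mem_ker, IsScalarTower.algebraMap_apply R (R ⧸ J) ((R ⧸ J) ⊗[R] A),
        Ideal.Quotient.algebraMap_eq, Ideal.Quotient.eq_zero_iff_mem.mpr hr, map_zero], Ideal.mem_bot] at hx'
  let g' : A ⧸ ext J A →ₐ[R ⧸ J] (R ⧸ J) ⊗[R] A :=
    { (Ideal.Quotient.liftₐ _ g hgk).toRingHom with
      commutes' := fun r => by
        obtain ⟨r, rfl⟩ := Ideal.Quotient.mk_surjective r
        exact g.commutes r }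
  have hk : (overIso k).inv = spMap g' ≫ toBc (red J A) := by
    rw [hg, spMap_comp_toBc]
    rfl
  rw [← cancel_epi (overIso k).inv, hk, Category.assoc, h1, Category.assoc]

variable {J : Ideal R}

/-- Lifting a subgroup of multiplicative type. -/
theorem exists_subgroup_lift (hJ : IsNilpotent J) (G : Over (Spec (CommRingCat.of R))) [GrpObj G] [Smooth G.hom]
    (H₀ : Over (Spec (CommRingCat.of (R ⧸ J)))) [GrpObj H₀] (hH₀ : MultLoc H₀)
    (j₀ : H₀ ⟶ Red.bc (Spec.map (CommRingCat.ofHom (algebraMap R (R ⧸ J)))) G) [IsMonHom j₀] [IsImmersion j₀.left] :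
    ∃ (H : Over (Spec (CommRingCat.of R))) (_ : GrpObj H) (j : H ⟶ G), IsMonHom j ∧ IsImmersion j.left ∧ Flat H.hom ∧
      ∃ φ : Red.bc (Spec.map (CommRingCat.ofHom (algebraMap R (R ⧸ J)))) H ≅ H₀,
        φ.hom ≫ j₀ = (Over.pullback (Spec.map (CommRingCat.ofHom (algebraMap R (R ⧸ J))))).map j := by
  obtain ⟨A₀, i₁, i₂, hA₀, ⟨e₀⟩⟩ := exists_hopf_multType hH₀
  -- finite type
  have hlft : LocallyOfFiniteType H₀.hom := by
    rw [← Over.w j₀]
    haveI : LocallyOfFiniteType (Red.bc (Spec.map (CommRingCat.ofHom (algebraMap R (R ⧸ J)))) G).hom :=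
      inferInstanceAs (LocallyOfFiniteType (pullback.snd _ _))
    infer_instance
  have hft : Algebra.FiniteType (R ⧸ J) A₀ := by
    haveI := hlft
    have h2 : LocallyOfFiniteType (sp (R ⧸ J) A₀).hom := by
      rw [← Over.w (overIso e₀).hom]
      haveI : IsIso (overIso e₀).hom.left := inferInstanceAs (IsIso ((Over.forget _).map (overIso e₀).hom))
      infer_instance
    exact RingHom.finiteType_algebraMap.mp ((HasRingHomProperty.Spec_iff (P := @LocallyOfFiniteType)).mp h2)
  -- the lift of the group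
  obtain ⟨A, i₃, i₄, hA, ⟨β⟩⟩ := MultTypeLib.exists_quasiIsotrivial_lift J
    (fun x hx => by
      obtain ⟨n, hn⟩ := hJ
      exact ⟨n, by simpa [hn] using Ideal.pow_mem_pow hx n⟩) A₀
    (MultTypeLib.isQuasiIsotrivial_of_isMultType hft hA₀)
  have hA' := isMultType_of_quasiIsotrivial hA
  obtain ⟨mn⟩ := MultTypeLib.exists_mean hA'
  obtain ⟨k⟩ := GrpSchLib.AffineHopf.nonempty_bc_sp (R := R) (R ⧸ J) A
  let Φ : Grp.mk (Red.bc (Spec.map (CommRingCat.ofHom (algebraMap R (R ⧸ J)))) (sp R A)) ≅ Grp.mk H₀ :=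
    k ≪≫ GrpSchLib.AffineHopf.spIso β.symm ≪≫ e₀
  let φ := overIso Φ
  haveI : IsMonHom φ.hom := Φ.hom.hom.isMonHom_hom
  let b := φ.hom ≫ j₀
  obtain ⟨f, hf⟩ := canLift_of_smooth (G := G) hJ A (down (toBc (S := R ⧸ J) (red J A) ≫ b))
  obtain ⟨j, hjf, hj⟩ := exists_hom_nilpotent mn hJ (fun K hK => canLift_of_smooth (isNilpotent_of_le hK hJ))
    (exists_reduction_hom b _ rfl f hf)
  have hjb : φ.hom ≫ j₀ = (Over.pullback (Spec.map (CommRingCat.ofHom (algebraMap R (R ⧸ J))))).map j := by
    refine bc_hom_ext ?_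
    rw [down_toBc, hjf, hf]
  refine ⟨sp R A, inferInstance, j, isMonHom_of_isHom hj, isImmersion_of_red hJ j ?_, ?_, φ, hjb⟩
  · rw [hjf, hf, down_left, Over.comp_left]
    haveI : IsImmersion b.left := by
      haveI : IsIso φ.hom.left := inferInstanceAs (IsIso ((Over.forget _).map φ.hom))
      exact inferInstanceAs (IsImmersion (φ.hom.left ≫ j₀.left))
    haveI : IsClosedImmersion (Spec.map (CommRingCat.ofHom (algebraMap R (R ⧸ J)))) :=
      IsClosedImmersion.spec_of_surjective _ Ideal.Quotient.mk_surjective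
    haveI : IsImmersion (toBc (S := R ⧸ J) (red J A)).left := by
      haveI : IsImmersion ((toBc (S := R ⧸ J) (red J A)).left ≫ pullback.fst _ _) := by
        rw [toBc_fst]
        haveI : IsClosedImmersion (Spec.map (CommRingCat.ofHom (red J A).toRingHom)) :=
          IsClosedImmersion.spec_of_surjective _ red_surjective
        infer_instance
      exact IsImmersion.of_comp _ (pullback.fst (sp R A).hom (Spec.map (CommRingCat.ofHom (algebraMap R (R ⧸ J)))))
    infer_instance
  · haveI := flat_of_isMultType hA'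
    exact Flat.SpecMap_iff.mpr (RingHom.flat_algebraMap_iff.mpr ‹_›)

end Groth.Agent.MultDefLib

end
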