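import Mathlib.RingTheory.Bialgebra.Convolution
import Mathlib.Algebra.MonoidAlgebra.Basic
import Mathlib.RingTheory.FinitePresentation
import Mathlib.RingTheory.Spectrum.Prime.Module
import Mathlib.RingTheory.LocalRing.Module
import Groth.Prelude.Def_HopfRep

/-!
# Gradings defined by homomorphisms from a diagonalisable group, and their weights

A family over `B` of homomorphisms `D(M) → Spec A` is an algebra map `A → B[M]`; its coefficients act
as orthogonal idempotents on a comodule `V`, and on a finite comodule only finitely many weights occur,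
in an open and closed fashion.
-/

universe u

open TensorProduct Coalgebra WithConv

set_option linter.style.haveILetI false

noncomputable section

namespace Groth.Agent.MultDefLib.Weights

variable {R : Type u} [CommRing R] {A : Type u} [CommRing A] [Bialgebra R A] {Γ : Type} [CommGroup Γ]
variable {B : Type u} [CommRing B] [Algebra R B] {C : Type u} [CommRing C] [Algebra R C]

/-- The sum of the coefficients. -/
def aug (R B : Type u) (Γ : Type) [CommRing R] [CommRing B] [Algebra R B] [CommGroup Γ] :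
    MonoidAlgebra B Γ →ₐ[R] B :=
  (MonoidAlgebra.lift B B Γ 1).restrictScalars R

@[simp] theorem aug_single (g : Γ) (b : B) : aug R B Γ (MonoidAlgebra.single g b) = b := by
  show MonoidAlgebra.lift B B Γ 1 (MonoidAlgebra.single g b) = b
  rw [MonoidAlgebra.lift_single, MonoidHom.one_apply, smul_eq_mul, mul_one]

/-- The diagonal. -/
def dup (R B : Type u) (Γ : Type) [CommRing R] [CommRing B] [Algebra R B] [CommGroup Γ] :
    MonoidAlgebra B Γ →ₐ[R] MonoidAlgebra B (Γ × Γ) :=
  MonoidAlgebra.mapDomainAlgHom R B ((MonoidHom.id Γ).prod (MonoidHom.id Γ))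

theorem dup_single (g : Γ) (b : B) : dup R B Γ (MonoidAlgebra.single g b) = MonoidAlgebra.single (g, g) b := by
  simp [dup]

/-- The exterior product. -/
def merge (R B : Type u) (Γ : Type) [CommRing R] [CommRing B] [Algebra R B] [CommGroup Γ] :
    MonoidAlgebra B Γ ⊗[R] MonoidAlgebra B Γ →ₐ[R] MonoidAlgebra B (Γ × Γ) :=
  Algebra.TensorProduct.lift (MonoidAlgebra.mapDomainAlgHom R B (MonoidHom.inl Γ Γ))
    (MonoidAlgebra.mapDomainAlgHom R B (MonoidHom.inr Γ Γ)) fun _ _ => .all _ _

theorem merge_single (g h : Γ) (a b : B) :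
    merge R B Γ (MonoidAlgebra.single g a ⊗ₜ MonoidAlgebra.single h b) = MonoidAlgebra.single (g, h) (a * b) := by
  simp [merge, MonoidAlgebra.single_mul_single]

theorem coeff_merge (x y : MonoidAlgebra B Γ) (g h : Γ) :
    (merge R B Γ (x ⊗ₜ y)).coeff (g, h) = x.coeff g * y.coeff h := by
  classical
  induction x using MonoidAlgebra.induction_linear with
  | zero => simp
  | add a b ha hb => simp [TensorProduct.add_tmul, add_mul, ha, hb]
  | single g' a =>
    induction y using MonoidAlgebra.induction_linear with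
    | zero => simp
    | add c d hc hd => simp only [TensorProduct.tmul_add, map_add, MonoidAlgebra.coeff_add, Finsupp.add_apply, mul_add, hc, hd]
    | single h' b =>
      rw [merge_single, MonoidAlgebra.coeff_single, MonoidAlgebra.coeff_single, MonoidAlgebra.coeff_single]
      by_cases h1 : g' = g <;> by_cases h2 : h' = h <;> simp [h1, h2]

theorem coeff_dup [DecidableEq Γ] (x : MonoidAlgebra B Γ) (g h : Γ) :
    (dup R B Γ x).coeff (g, h) = if g = h then x.coeff g else 0 := by
  induction x using MonoidAlgebra.induction_linear with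
  | zero => simp
  | add a b ha hb => simp only [map_add, MonoidAlgebra.coeff_add, Finsupp.add_apply, ha, hb]; split_ifs <;> simp
  | single g' a =>
    rw [dup_single, MonoidAlgebra.coeff_single, MonoidAlgebra.coeff_single]
    by_cases h1 : g = h
    · subst h1; by_cases h2 : g' = g <;> simp [h2]
    · have : (g', g') ≠ (g, h) := fun e => h1 ((Prod.ext_iff.1 e).1.symm.trans (Prod.ext_iff.1 e).2)
      simp [h1, this]

/-- A family of homomorphisms over `B`. -/
structure IsFam (f : A →ₐ[R] MonoidAlgebra B Γ) : Prop where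
  aug : (aug R B Γ).comp f = (Algebra.ofId R B).comp (Bialgebra.counitAlgHom R A)
  dup : (dup R B Γ).comp f = (merge R B Γ).comp ((Algebra.TensorProduct.map f f).comp (Bialgebra.comulAlgHom R A))

/-- Base change of a family. -/
abbrev push (φ : B →ₐ[R] C) (f : A →ₐ[R] MonoidAlgebra B Γ) : A →ₐ[R] MonoidAlgebra C Γ :=
  (MonoidAlgebra.mapAlgHom Γ φ).comp f

theorem coeff_map (φ : B →ₐ[R] C) (x : MonoidAlgebra B Γ) (g : Γ) :
    (MonoidAlgebra.mapAlgHom Γ φ x).coeff g = φ (x.coeff g) := by
  induction x using MonoidAlgebra.induction_linear with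
  | zero => simp
  | add a b ha hb => simp [ha, hb]
  | single g' a => classical simp [Finsupp.single_apply, apply_ite φ]

theorem aug_natural (φ : B →ₐ[R] C) :
    (aug R C Γ).comp (MonoidAlgebra.mapAlgHom Γ φ) = φ.comp (aug R B Γ) := by
  refine AlgHom.ext fun x => ?_
  induction x using MonoidAlgebra.induction_linear with
  | zero => simp
  | add a b ha hb => simp only [map_add, ha, hb]
  | single g a => simp

theorem dup_natural (φ : B →ₐ[R] C) :
    (dup R C Γ).comp (MonoidAlgebra.mapAlgHom Γ φ) = (MonoidAlgebra.mapAlgHom (Γ × Γ) φ).comp (dup R B Γ) := by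
  refine AlgHom.ext fun x => ?_
  induction x using MonoidAlgebra.induction_linear with
  | zero => simp
  | add a b ha hb => simp only [map_add, ha, hb]
  | single g a => simp [dup_single]

theorem merge_natural (φ : B →ₐ[R] C) :
    (merge R C Γ).comp (Algebra.TensorProduct.map (MonoidAlgebra.mapAlgHom Γ φ) (MonoidAlgebra.mapAlgHom Γ φ)) =
      (MonoidAlgebra.mapAlgHom (Γ × Γ) φ).comp (merge R B Γ) := by
  refine AlgHom.ext fun x => ?_
  induction x using TensorProduct.induction_on with
  | zero => simp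
  | add a b ha hb => simp only [map_add, ha, hb]
  | tmul x y =>
    induction x using MonoidAlgebra.induction_linear with
    | zero => simp
    | add a b ha hb => simp only [TensorProduct.add_tmul, map_add, ha, hb]
    | single g a =>
      induction y using MonoidAlgebra.induction_linear with
      | zero => simp
      | add c d hc hd => simp only [TensorProduct.tmul_add, map_add, hc, hd]
      | single h b => simp [merge_single]

theorem IsFam.push {f : A →ₐ[R] MonoidAlgebra B Γ} (hf : IsFam f) (φ : B →ₐ[R] C) : IsFam (push φ f) := by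
  refine ⟨?_, ?_⟩
  · rw [← AlgHom.comp_assoc, aug_natural, AlgHom.comp_assoc, hf.aug, ← AlgHom.comp_assoc]
    congr 1
    exact Subsingleton.elim _ _
  · rw [← AlgHom.comp_assoc, dup_natural, AlgHom.comp_assoc, hf.dup, Algebra.TensorProduct.map_comp,
      ← AlgHom.comp_assoc, ← merge_natural]
    rfl

/-- The coefficient functional. -/
def coef (f : A →ₐ[R] MonoidAlgebra B Γ) (g : Γ) : WithConv (A →ₗ[R] B) :=
  toConv
    { toFun := fun a => (f a).coeff g
      map_add' := fun a b => by simp
      map_smul' := fun r a => by simp }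

theorem coef_apply (f : A →ₐ[R] MonoidAlgebra B Γ) (g : Γ) (a : A) : (coef f g).ofConv a = (f a).coeff g := rfl

theorem coef_push (φ : B →ₐ[R] C) (f : A →ₐ[R] MonoidAlgebra B Γ) (g : Γ) (a : A) :
    (coef (push φ f) g).ofConv a = φ ((coef f g).ofConv a) :=
  coeff_map φ (f a) g

theorem IsFam.coef_mul [DecidableEq Γ] {f : A →ₐ[R] MonoidAlgebra B Γ} (hf : IsFam f) (g h : Γ) :
    coef f g * coef f h = if g = h then coef f g else 0 := by
  refine WithConv.ext (LinearMap.ext fun a => ?_)
  have h1 := congrArg (fun (F : A →ₐ[R] MonoidAlgebra B (Γ × Γ)) => (F a).coeff (g, h)) hf.dup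
  simp only [AlgHom.comp_apply, coeff_dup, Bialgebra.comulAlgHom_apply] at h1
  rw [LinearMap.convMul_apply, apply_ite (fun (z : WithConv (A →ₗ[R] B)) => z.ofConv a)]
  refine Eq.trans ?_ h1.symm
  generalize comul (R := R) a = z
  induction z using TensorProduct.induction_on with
  | zero => simp
  | add p q hp hq => simp only [map_add, MonoidAlgebra.coeff_add, Finsupp.add_apply, hp, hq]
  | tmul p q => simp [coeff_merge, coef_apply]

section Act

variable {V : Type u} [AddCommGroup V] [Module R V] [HopfRep.Comod R A V]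

/-- The operator of a functional on a comodule. -/
def act (c : WithConv (A →ₗ[R] B)) : B ⊗[R] V →ₗ[B] B ⊗[R] V :=
  LinearMap.liftBaseChange B
    (c.ofConv.rTensor V ∘ₗ (TensorProduct.comm R V A).toLinearMap ∘ₗ HopfRep.Comod.coact (k := R) (A := A))

theorem act_one_tmul (c : WithConv (A →ₗ[R] B)) (v : V) :
    act c ((1 : B) ⊗ₜ[R] v) =
      c.ofConv.rTensor V (TensorProduct.comm R V A (HopfRep.Comod.coact (k := R) (A := A) v)) := by
  simp [act]

theorem act_ext {φ ψ : B ⊗[R] V →ₗ[B] B ⊗[R] V} (h : ∀ v, φ ((1 : B) ⊗ₜ v) = ψ ((1 : B) ⊗ₜ v)) : φ = ψ := by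
  refine LinearMap.ext fun x => ?_
  induction x using TensorProduct.induction_on with
  | zero => simp
  | add a b ha hb => simp only [map_add, ha, hb]
  | tmul b v =>
    rw [show (b ⊗ₜ[R] v : B ⊗[R] V) = b • ((1 : B) ⊗ₜ v) by rw [TensorProduct.smul_tmul', smul_eq_mul, mul_one],
      map_smul, map_smul, h]

theorem act_mul (c d : WithConv (A →ₗ[R] B)) : act (V := V) c ∘ₗ act d = act (c * d) := by
  refine act_ext fun v => ?_
  rw [LinearMap.comp_apply, act_one_tmul, act_one_tmul]
  have hco := LinearMap.congr_fun (HopfRep.Comod.coassoc (k := R) (A := A) (V := V)) v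
  simp only [LinearMap.comp_apply, LinearEquiv.coe_coe] at hco
  let Φ : V ⊗[R] (A ⊗[R] A) →ₗ[R] B ⊗[R] V :=
    (TensorProduct.comm R V B).toLinearMap ∘ₗ
      (LinearMap.mul' R B ∘ₗ TensorProduct.map c.ofConv d.ofConv).lTensor V
  have h1 : ∀ z : V ⊗[R] A, act c (d.ofConv.rTensor V (TensorProduct.comm R V A z)) =
      Φ (TensorProduct.assoc R V A A ((HopfRep.Comod.coact (k := R) (A := A)).rTensor A z)) := by
    intro z
    induction z using TensorProduct.induction_on with
    | zero => simp
    | add p q hp hq => simp only [map_add, hp, hq]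
    | tmul w a =>
      rw [TensorProduct.comm_tmul, LinearMap.rTensor_tmul, LinearMap.rTensor_tmul,
        show (d.ofConv a ⊗ₜ[R] w : B ⊗[R] V) = d.ofConv a • ((1 : B) ⊗ₜ w) by
          rw [TensorProduct.smul_tmul', smul_eq_mul, mul_one], map_smul, act_one_tmul]
      generalize HopfRep.Comod.coact (k := R) (A := A) w = y
      induction y using TensorProduct.induction_on with
      | zero => simp
      | add p q hp hq => simp only [TensorProduct.add_tmul, map_add, smul_add, hp, hq]
      | tmul x y => simp [Φ, TensorProduct.smul_tmul', mul_comm]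
  rw [h1, hco]
  generalize HopfRep.Comod.coact (k := R) (A := A) v = z
  induction z using TensorProduct.induction_on with
  | zero => simp
  | add p q hp hq => simp only [map_add, hp, hq]
  | tmul w a => simp [Φ, LinearMap.convMul_apply]

theorem act_zero : act (V := V) (0 : WithConv (A →ₗ[R] B)) = 0 := act_ext fun v => by simp [act_one_tmul]

theorem act_natural (φ : B →ₐ[R] C) (c : WithConv (A →ₗ[R] B)) (d : WithConv (A →ₗ[R] C))
    (h : ∀ a, d.ofConv a = φ (c.ofConv a)) (x : B ⊗[R] V) :
    act d (φ.toLinearMap.rTensor V x) = φ.toLinearMap.rTensor V (act c x) := by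
  induction x using TensorProduct.induction_on with
  | zero => simp
  | add p q hp hq => simp only [map_add, hp, hq]
  | tmul b v =>
    rw [LinearMap.rTensor_tmul, show (φ.toLinearMap b ⊗ₜ[R] v : C ⊗[R] V) = φ b • ((1 : C) ⊗ₜ v) by
        rw [TensorProduct.smul_tmul', smul_eq_mul, mul_one]; rfl,
      show (b ⊗ₜ[R] v : B ⊗[R] V) = b • ((1 : B) ⊗ₜ v) by rw [TensorProduct.smul_tmul', smul_eq_mul, mul_one],
      map_smul, map_smul, act_one_tmul, act_one_tmul]
    generalize TensorProduct.comm R V A (HopfRep.Comod.coact (k := R) (A := A) v) = z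
    induction z using TensorProduct.induction_on with
    | zero => simp
    | add p q hp hq => simp only [map_add, smul_add, hp, hq]
    | tmul a w => simp [TensorProduct.smul_tmul', h]

variable (V) in
/-- Only weights in `F` occur. -/
def Small (F : Finset Γ) (f : A →ₐ[R] MonoidAlgebra B Γ) : Prop := ∀ g ∉ F, act (V := V) (coef f g) = 0

theorem Small.mono {F F' : Finset Γ} {f : A →ₐ[R] MonoidAlgebra B Γ} (h : Small V F f) (hF : F ⊆ F') :
    Small V F' f := fun g hg => h g fun hg' => hg (hF hg')

theorem act_coef_push (φ : B →ₐ[R] C) (f : A →ₐ[R] MonoidAlgebra B Γ) (g : Γ) (v : V) :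
    act (coef (push φ f) g) ((1 : C) ⊗ₜ v) = φ.toLinearMap.rTensor V (act (coef f g) ((1 : B) ⊗ₜ v)) := by
  have := act_natural φ (coef f g) (coef (push φ f) g) (coef_push φ f g) ((1 : B) ⊗ₜ v)
  simpa using this

theorem Small.push {F : Finset Γ} {f : A →ₐ[R] MonoidAlgebra B Γ} (h : Small V F f) (φ : B →ₐ[R] C) :
    Small V F (push φ f) := fun g hg => act_ext fun v => by
  rw [act_coef_push, h g hg, LinearMap.zero_apply, LinearMap.zero_apply, map_zero]

theorem exists_small [Module.Finite R V] (f : A →ₐ[R] MonoidAlgebra B Γ) : ∃ F, Small V F f := by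
  classical
  obtain ⟨s, hs⟩ := Module.Finite.fg_top (R := R) (M := V)
  choose Z hZ using fun v : V => TensorProduct.exists_finset (HopfRep.Comod.coact (k := R) (A := A) v)
  refine ⟨(s.biUnion fun v => (Z v).biUnion fun p => (f p.2).coeff.support), fun g hg => act_ext fun v => ?_⟩
  have hv : v ∈ Submodule.span R (s : Set V) := hs ▸ Submodule.mem_top
  induction hv using Submodule.span_induction with
  | zero => simp
  | add a b _ _ ha hb => simp only [TensorProduct.tmul_add, map_add, ha, hb]
  | smul r a _ ha => rw [TensorProduct.tmul_smul, LinearMap.map_smul_of_tower, LinearMap.map_smul_of_tower, ha]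
  | mem w hw =>
    rw [act_one_tmul, LinearMap.zero_apply, hZ w, map_sum, map_sum]
    refine Finset.sum_eq_zero fun p hp => ?_
    rw [TensorProduct.comm_tmul, LinearMap.rTensor_tmul, coef_apply,
      Finsupp.notMem_support_iff.1 fun h => hg (Finset.mem_biUnion.2 ⟨w, hw, Finset.mem_biUnion.2 ⟨p, hp, h⟩⟩),
      TensorProduct.zero_tmul]

variable {j : V →ₗ[R] A}
  (hj : Coalgebra.comul ∘ₗ j = j.rTensor A ∘ₗ HopfRep.Comod.coact (k := R) (A := A))

include hj in
theorem coef_eq_of_act (c : WithConv (A →ₗ[R] B)) (v : V) :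
    c.ofConv (j v) = TensorProduct.rid R B ((Coalgebra.counit ∘ₗ j).lTensor B (act c ((1 : B) ⊗ₜ v))) := by
  rw [act_one_tmul]
  conv_lhs => rw [← one_smul R (j v), ← TensorProduct.lid_tmul (j v) (1 : R), ← Coalgebra.rTensor_counit_comul,
    show comul (R := R) (j v) = j.rTensor A (HopfRep.Comod.coact (k := R) (A := A) v) from LinearMap.congr_fun hj v]
  generalize HopfRep.Comod.coact (k := R) (A := A) v = z
  induction z using TensorProduct.induction_on with
  | zero => simp
  | add p q hp hq => simp only [map_add, hp, hq]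
  | tmul w a => simp

include hj in
theorem Small.coeff_eq_zero {F : Finset Γ} {f : A →ₐ[R] MonoidAlgebra B Γ} (h : Small V F f) {g : Γ} (hg : g ∉ F)
    (v : V) : (f (j v)).coeff g = 0 := by
  rw [← coef_apply, coef_eq_of_act hj, h g hg]
  simp

/-- The weights bound is open and detected pointwise. -/
theorem exists_small_open [DecidableEq Γ] [Module.Finite R V] {f : A →ₐ[R] MonoidAlgebra B Γ} (hf : IsFam f)
    (F : Finset Γ) :
    ∃ O : TopologicalSpace.Opens (PrimeSpectrum B), ∀ (C : Type u) [CommRing C] [Algebra R C] (φ : B →ₐ[R] C),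
      Small V F (push φ f) ↔ ∀ q : PrimeSpectrum C, PrimeSpectrum.comap φ.toRingHom q ∈ O := by
  obtain ⟨F₀, hF₀⟩ := exists_small (V := V) f
  let Q : Γ → Submodule B (B ⊗[R] V) := fun g => LinearMap.range (act (coef f g))
  haveI : ∀ g, Module.Finite B (Q g) := fun g => Module.Finite.range _
  have hidem : ∀ g, ∀ q ∈ Q g, act (coef f g) q = q := by
    rintro g _ ⟨x, rfl⟩
    rw [← LinearMap.comp_apply, act_mul, hf.coef_mul, if_pos rfl]
  let Z : Set (PrimeSpectrum B) := ⋃ g ∈ F₀ \ F, Module.support B (Q g)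
  have hZ : IsClosed Z := Set.Finite.isClosed_biUnion (Finset.finite_toSet _) fun g _ => Module.isClosed_support (R := B) (M := Q g)
  refine ⟨⟨Zᶜ, hZ.isOpen_compl⟩, fun C _ _ φ => ?_⟩
  letI : Algebra B C := φ.toRingHom.toAlgebra
  haveI : IsScalarTower R B C := IsScalarTower.of_algebraMap_eq fun r => (φ.commutes r).symm
  let e := TensorProduct.AlgebraTensorModule.cancelBaseChange R B B C V
  have he : ∀ (a : C) (x : B ⊗[R] V), e (a ⊗ₜ x) = a • φ.toLinearMap.rTensor V x := by
    intro a x
    induction x using TensorProduct.induction_on with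
    | zero => simp
    | add p q hp hq => simp only [TensorProduct.tmul_add, map_add, smul_add, hp, hq]
    | tmul b v =>
      rw [TensorProduct.AlgebraTensorModule.cancelBaseChange_tmul, LinearMap.rTensor_tmul, TensorProduct.smul_tmul']
      congr 1
      show b • a = a * φ b
      rw [Algebra.smul_def, mul_comm]
      rfl
  constructor
  · intro hs q hq
    simp only [Z, Set.mem_iUnion, exists_prop] at hq
    obtain ⟨g, hgF, hgq⟩ := hq
    have hgF' : g ∉ F := (Finset.mem_sdiff.1 hgF).2
    let pr : B ⊗[R] V →ₗ[B] Q g := (act (coef f g)).rangeRestrict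
    have hC : ∀ x : Q g, (1 : C) ⊗ₜ[B] x = 0 := fun x => by
      obtain ⟨y, hy⟩ := x.2
      have h1 : φ.toLinearMap.rTensor V (x : B ⊗[R] V) = 0 := by
        rw [← hy, ← act_natural φ (coef f g) (coef (push φ f) g) (coef_push φ f g) y, hs g hgF', LinearMap.zero_apply]
      have h2 : (1 : C) ⊗ₜ[B] (x : B ⊗[R] V) = 0 := e.injective (by rw [he, h1, smul_zero, map_zero])
      have h3 := congrArg (pr.lTensor C) h2
      rwa [LinearMap.lTensor_tmul, map_zero, show pr x = x from Subtype.ext (hidem g _ x.2)] at h3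
    set p := PrimeSpectrum.comap φ.toRingHom q
    let κmap : p.asIdeal.ResidueField →+* q.asIdeal.ResidueField :=
      Ideal.ResidueField.map p.asIdeal q.asIdeal φ.toRingHom rfl
    letI : Algebra p.asIdeal.ResidueField q.asIdeal.ResidueField := κmap.toAlgebra
    haveI : IsScalarTower B p.asIdeal.ResidueField q.asIdeal.ResidueField := IsScalarTower.of_algebraMap_eq fun b => by
      rw [IsScalarTower.algebraMap_apply B C q.asIdeal.ResidueField]
      show algebraMap C q.asIdeal.ResidueField (φ b) = κmap (algebraMap B p.asIdeal.ResidueField b)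
      simp [κmap]
    obtain ⟨r, hr⟩ := LinearMap.exists_leftInverse_of_injective
      (Algebra.linearMap p.asIdeal.ResidueField q.asIdeal.ResidueField) (LinearMap.ker_eq_bot.2 κmap.injective)
    have hnt : Nontrivial (p.asIdeal.ResidueField ⊗[B] Q g) :=
      (Module.mem_support_iff_nontrivial_residueField_tensorProduct (R := B) (M := Q g) p).1 hgq
    obtain ⟨z, hz⟩ := exists_ne (0 : p.asIdeal.ResidueField ⊗[B] Q g)
    refine hz ?_
    have hzero : ∀ w : q.asIdeal.ResidueField ⊗[B] Q g, w = 0 := fun w => by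
      induction w using TensorProduct.induction_on with
      | zero => rfl
      | add a b ha hb => rw [ha, hb, add_zero]
      | tmul a x =>
        let ev : C →ₗ[B] q.asIdeal.ResidueField :=
          { toFun := fun c => a * algebraMap C q.asIdeal.ResidueField c
            map_add' := fun c d => by rw [map_add, mul_add]
            map_smul' := fun b c => by
              rw [RingHom.id_apply, Algebra.smul_def b c, map_mul, Algebra.smul_def b (a * _),
                ← IsScalarTower.algebraMap_apply, mul_left_comm] }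
        have h := congrArg (ev.rTensor (Q g)) (hC x)
        simpa [ev] using h
    have h4 : ((r.restrictScalars B) ∘ₗ (Algebra.linearMap p.asIdeal.ResidueField q.asIdeal.ResidueField).restrictScalars B).rTensor (Q g) z = z := by
      rw [show (r.restrictScalars B) ∘ₗ (Algebra.linearMap p.asIdeal.ResidueField q.asIdeal.ResidueField).restrictScalars B =
        (r ∘ₗ Algebra.linearMap p.asIdeal.ResidueField q.asIdeal.ResidueField).restrictScalars B from rfl, hr]
      exact LinearMap.congr_fun (LinearMap.rTensor_id _ _) z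
    rw [LinearMap.rTensor_comp_apply, hzero ((LinearMap.rTensor (Q g) _) z), map_zero] at h4
    exact h4.symm
  · intro h g hg
    refine act_ext fun v => ?_
    rw [LinearMap.zero_apply, act_coef_push]
    by_cases hg₀ : g ∈ F₀
    swap
    · rw [hF₀ g hg₀]; simp
    let y := φ.toLinearMap.rTensor V (act (coef f g) ((1 : B) ⊗ₜ v))
    show y = 0
    by_contra hy
    let Iy : Ideal C := (Submodule.span C {y}).annihilator
    obtain ⟨m, hm, hle⟩ := Ideal.exists_le_maximal Iy fun htop => hy (by
      have h1 : (1 : C) ∈ Iy := htop ▸ Submodule.mem_top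
      rw [Submodule.mem_annihilator_span_singleton, one_smul] at h1
      exact h1)
    haveI := hm.isPrime
    have hns : PrimeSpectrum.comap φ.toRingHom ⟨m, inferInstance⟩ ∉ Module.support B (Q g) := fun hq =>
      h ⟨m, inferInstance⟩ (Set.mem_iUnion₂.2 ⟨g, Finset.mem_sdiff.2 ⟨hg₀, hg⟩, hq⟩)
    rw [Module.mem_support_iff_of_finite, SetLike.not_le_iff_exists] at hns
    obtain ⟨s, hs, hsm⟩ := hns
    refine hsm (hle ?_)
    show φ s ∈ Iy
    rw [Submodule.mem_annihilator_span_singleton]
    have h5 : s • act (coef f g) ((1 : B) ⊗ₜ v) = 0 :=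
      congrArg Subtype.val (Module.mem_annihilator.1 hs ⟨_, LinearMap.mem_range_self _ _⟩)
    have h6 := congrArg (fun x => e ((1 : C) ⊗ₜ[B] x)) h5
    simp only [TensorProduct.tmul_smul, TensorProduct.smul_tmul', TensorProduct.tmul_zero, map_zero, he] at h6
    rwa [Algebra.smul_def, mul_one] at h6

end Act

set_option maxHeartbeats 1000000 in
/-- The affine scheme of families with bounded supports on generators. -/
theorem exists_universal [Algebra.FinitePresentation R A] (F : Finset Γ) {n : ℕ} (gen : Fin n → A)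
    (hgen : Algebra.adjoin R (Set.range gen) = ⊤) :
    ∃ (B : Type u) (_ : CommRing B) (_ : Algebra R B) (f : A →ₐ[R] MonoidAlgebra B Γ),
      Algebra.FinitePresentation R B ∧ IsFam f ∧ (∀ k, ∀ g ∉ F, (f (gen k)).coeff g = 0) ∧
      ∀ (C : Type u) [CommRing C] [Algebra R C] (f' : A →ₐ[R] MonoidAlgebra C Γ), IsFam f' →
        (∀ k, ∀ g ∉ F, (f' (gen k)).coeff g = 0) → ∃! φ : B →ₐ[R] C, push φ f = f' := by
  classical
  obtain ⟨π, hπdef⟩ : ∃ π : MvPolynomial (Fin n) R →ₐ[R] A, π = MvPolynomial.aeval gen := ⟨_, rfl⟩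
  have hπ : Function.Surjective π := by
    rw [hπdef, ← AlgHom.range_eq_top, ← Algebra.adjoin_range_eq_range_aeval]
    exact hgen
  obtain ⟨s, hs⟩ := Algebra.FinitePresentation.ker_fG_of_surjective π hπ
  let P := MvPolynomial (Fin n × F) R
  obtain ⟨θ, hθdef⟩ : ∃ θ : MvPolynomial (Fin n) R →ₐ[R] MonoidAlgebra P Γ,
      θ = MvPolynomial.aeval fun k => ∑ g : F, MonoidAlgebra.single (g : Γ) (MvPolynomial.X (k, g) : P) := ⟨_, rfl⟩
  choose z hz using fun k => Algebra.TensorProduct.map_surjective π π hπ hπ (comul (R := R) (gen k))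
  let d₁ : Fin n → P := fun k => aug R P Γ (θ (MvPolynomial.X k)) - algebraMap R P (counit (gen k))
  let d₂ : Fin n → MonoidAlgebra P (Γ × Γ) := fun k =>
    dup R P Γ (θ (MvPolynomial.X k)) - merge R P Γ (Algebra.TensorProduct.map θ θ (z k))
  let co : ∀ {Δ : Type}, MonoidAlgebra P Δ → Finset P := fun x => x.coeff.support.image x.coeff
  obtain ⟨gs, hgs⟩ : ∃ gs : Finset P, ∀ c, c ∈ gs ↔ (∃ q ∈ s, c ∈ co (θ q)) ∨ (∃ k, d₁ k = c) ∨ ∃ k, c ∈ co (d₂ k) :=
    ⟨(s.biUnion fun q => co (θ q)) ∪ Finset.univ.image d₁ ∪ Finset.univ.biUnion fun k => co (d₂ k), fun c => by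
      simp only [Finset.mem_union, Finset.mem_biUnion, Finset.mem_image, Finset.mem_univ, true_and, or_assoc]⟩
  let I : Ideal P := Ideal.span (gs : Set P)
  obtain ⟨B, _, _, mk, hmks, hmkk⟩ : ∃ (B : Type u) (_ : CommRing B) (_ : Algebra R B) (mk : P →ₐ[R] B),
      Function.Surjective mk ∧ RingHom.ker mk.toRingHom = I :=
    ⟨P ⧸ I, inferInstance, inferInstance, Ideal.Quotient.mkₐ R I, Ideal.Quotient.mk_surjective, Ideal.Quotient.mkₐ_ker R I⟩
  have hkill : ∀ {Δ : Type} [CommGroup Δ] (x : MonoidAlgebra P Δ) (C : Type u) [CommRing C] [Algebra R C]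
      (φ : P →ₐ[R] C), (∀ c ∈ co x, φ c = 0) ↔ MonoidAlgebra.mapAlgHom Δ φ x = 0 := by
    intro Δ _ x C _ _ φ
    refine ⟨fun h => ?_, fun h c hc => ?_⟩
    · refine MonoidAlgebra.ext (Finsupp.ext fun g => ?_)
      rw [coeff_map]
      by_cases hg : g ∈ x.coeff.support
      · simp [h _ (Finset.mem_image_of_mem _ hg)]
      · simp [Finsupp.notMem_support_iff.1 hg]
    · obtain ⟨g, -, rfl⟩ := Finset.mem_image.1 hc
      have := congrArg (fun y => y.coeff g) h
      rwa [coeff_map] at this
  have hmk : ∀ c ∈ gs, mk c = 0 := fun c hc =>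
    RingHom.mem_ker.1 (show c ∈ RingHom.ker mk.toRingHom from hmkk ▸ Ideal.subset_span hc)
  have hker : RingHom.ker π ≤ RingHom.ker ((MonoidAlgebra.mapAlgHom Γ mk).comp θ) := by
    change RingHom.ker π.toRingHom ≤ _
    rw [← hs, Ideal.span_le]
    exact fun q hq => (hkill (θ q) B mk).1 fun c hc =>
      hmk c ((hgs c).2 (Or.inl ⟨q, hq, hc⟩))
  obtain ⟨f, hfπ'⟩ : ∃ f : A →ₐ[R] MonoidAlgebra B Γ, f.comp π = (MonoidAlgebra.mapAlgHom Γ mk).comp θ :=
    ⟨AlgHom.liftOfSurjective π hπ _ hker, AlgHom.liftOfSurjective_comp π hπ _ hker⟩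
  have hfπ : ∀ q, f (π q) = MonoidAlgebra.mapAlgHom Γ mk (θ q) := fun q => AlgHom.congr_fun hfπ' q
  have hgenX : ∀ k, π (MvPolynomial.X k) = gen k := fun k => by rw [hπdef, MvPolynomial.aeval_X]
  have hf : IsFam f := by
    refine ⟨AlgHom.ext_of_adjoin_eq_top hgen ?_, AlgHom.ext_of_adjoin_eq_top hgen ?_⟩ <;> rintro _ ⟨k, rfl⟩
    · have h1 := hmk (d₁ k) ((hgs _).2 (Or.inr (Or.inl ⟨k, rfl⟩)))
      rw [map_sub, sub_eq_zero, AlgHom.commutes] at h1
      rw [AlgHom.comp_apply, ← hgenX, hfπ, hgenX, ← AlgHom.comp_apply, aug_natural, AlgHom.comp_apply, h1]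
      rfl
    · have h1 := (hkill (d₂ k) B mk).1 fun c hc =>
        hmk c ((hgs c).2 (Or.inr (Or.inr ⟨k, hc⟩)))
      rw [map_sub, sub_eq_zero] at h1
      have h2 := (AlgHom.congr_fun (dup_natural mk) (θ (MvPolynomial.X k))).trans
        (h1.trans (AlgHom.congr_fun (merge_natural mk) (Algebra.TensorProduct.map θ θ (z k))).symm)
      rw [AlgHom.comp_apply, ← hgenX, hfπ, hgenX]
      refine h2.trans ?_
      show merge R B Γ (Algebra.TensorProduct.map _ _ (Algebra.TensorProduct.map θ θ (z k))) =
        merge R B Γ (Algebra.TensorProduct.map f f (comul (gen k)))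
      rw [← hz k]
      congr 1
      rw [← AlgHom.comp_apply, ← Algebra.TensorProduct.map_comp, ← AlgHom.comp_apply,
        ← Algebra.TensorProduct.map_comp, hfπ']
  have hcoef : ∀ (C : Type u) [CommRing C] [Algebra R C] (φ : B →ₐ[R] C) (k : Fin n) (g : Γ),
      (push φ f (gen k)).coeff g = if h : g ∈ F then φ (mk (MvPolynomial.X (k, ⟨g, h⟩))) else 0 := by
    intro C _ _ φ k g
    rw [AlgHom.comp_apply, coeff_map, ← hgenX, hfπ, coeff_map, hθdef, MvPolynomial.aeval_X]
    simp only [MonoidAlgebra.coeff_sum, Finsupp.finsetSum_apply, MonoidAlgebra.coeff_single, Finsupp.single_apply]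
    split_ifs with h
    · rw [Finset.sum_eq_single ⟨g, h⟩]
      · simp
      · intro b _ hb
        rw [if_neg fun e => hb (Subtype.ext e)]
      · exact fun hn => absurd (Finset.mem_univ _) hn
    · rw [Finset.sum_eq_zero fun (b : F) _ => if_neg fun (e : (b : Γ) = g) => h (e ▸ b.2), map_zero, map_zero]
  refine ⟨B, inferInstance, inferInstance, f, Algebra.FinitePresentation.of_surjective hmks (hmkk ▸ ⟨gs, rfl⟩), hf, fun k g hg => ?_,
    fun C _ _ f' hf' hF' => ?_⟩
  · have h1 := hcoef B (AlgHom.id R B) k g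
    rw [dif_neg hg, AlgHom.comp_apply, coeff_map] at h1
    exact h1
  let φ₀ : P →ₐ[R] C := MvPolynomial.aeval fun p : Fin n × F => (f' (gen p.1)).coeff (p.2 : Γ)
  have hθ : (MonoidAlgebra.mapAlgHom Γ φ₀).comp θ = f'.comp π := MvPolynomial.algHom_ext fun k => by
    simp only [AlgHom.comp_apply, hθdef, hπdef, MvPolynomial.aeval_X, map_sum, MonoidAlgebra.mapAlgHom_single, φ₀]
    refine MonoidAlgebra.ext (Finsupp.ext fun g => ?_)
    simp only [MonoidAlgebra.coeff_sum, Finsupp.finsetSum_apply, MonoidAlgebra.coeff_single, Finsupp.single_apply]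
    by_cases h : g ∈ F
    · rw [Finset.sum_eq_single ⟨g, h⟩]
      · rw [if_pos rfl]
        exact MvPolynomial.aeval_X _ _
      · intro b _ hb
        rw [if_neg fun e => hb (Subtype.ext e)]
      · exact fun hn => absurd (Finset.mem_univ _) hn
    · rw [Finset.sum_eq_zero fun (b : F) _ => if_neg fun (e : (b : Γ) = g) => h (e ▸ b.2), hF' k g h]
  have hI : ∀ c ∈ I, φ₀ c = 0 := by
    intro c hc
    suffices h : I ≤ RingHom.ker φ₀ from RingHom.mem_ker.1 (h hc)
    refine Ideal.span_le.2 fun c hc => ?_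
    show φ₀ c = 0
    rcases (hgs c).1 hc with ⟨q, hq, hc⟩ | ⟨k, rfl⟩ | ⟨k, hc⟩
    · refine (hkill (θ q) C φ₀).2 ?_ c hc
      have hq' : π q = 0 := RingHom.mem_ker.1 (show q ∈ RingHom.ker π.toRingHom from hs ▸ Ideal.subset_span hq)
      rw [← AlgHom.comp_apply, hθ, AlgHom.comp_apply, hq', map_zero]
    · rw [map_sub, AlgHom.commutes, ← AlgHom.comp_apply, ← aug_natural, AlgHom.comp_apply, ← AlgHom.comp_apply _ θ, hθ,
        AlgHom.comp_apply, hgenX, sub_eq_zero]
      exact AlgHom.congr_fun hf'.aug (gen k)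
    · refine (hkill (d₂ k) C φ₀).2 ?_ c hc
      rw [map_sub, sub_eq_zero]
      refine (AlgHom.congr_fun (dup_natural φ₀) (θ (MvPolynomial.X k))).symm.trans
        (Eq.trans ?_ (AlgHom.congr_fun (merge_natural φ₀) (Algebra.TensorProduct.map θ θ (z k))))
      rw [AlgHom.comp_apply, ← AlgHom.comp_apply (MonoidAlgebra.mapAlgHom Γ φ₀) θ, hθ, AlgHom.comp_apply, hgenX]
      refine (AlgHom.congr_fun hf'.dup (gen k)).trans ?_
      show merge R C Γ (Algebra.TensorProduct.map f' f' (comul (gen k))) =
        merge R C Γ (Algebra.TensorProduct.map _ _ (Algebra.TensorProduct.map θ θ (z k)))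
      rw [← hz k]
      congr 1
      rw [← AlgHom.comp_apply, ← Algebra.TensorProduct.map_comp, ← AlgHom.comp_apply,
        ← Algebra.TensorProduct.map_comp, hθ]
  let φ₁ : B →ₐ[R] C := AlgHom.liftOfSurjective mk hmks φ₀ fun c hc =>
    RingHom.mem_ker.2 (hI c (hmkk ▸ hc))
  have hφ₁ : ∀ c, φ₁ (mk c) = φ₀ c := fun c => AlgHom.liftOfSurjective_apply _ _ _ _ c
  refine ⟨φ₁, ?_, fun φ hφ => ?_⟩
  · refine AlgHom.ext_of_adjoin_eq_top hgen ?_
    rintro _ ⟨k, rfl⟩
    refine MonoidAlgebra.ext (Finsupp.ext fun g => ?_)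
    rw [hcoef]
    split_ifs with h
    · exact (hφ₁ _).trans (MvPolynomial.aeval_X _ _)
    · exact (hF' k g h).symm
  · have h2 : φ.comp mk = φ₁.comp mk := MvPolynomial.algHom_ext fun p => by
      have h1 := hcoef C φ p.1 (p.2 : Γ)
      rw [dif_pos p.2.2, hφ] at h1
      exact h1.symm.trans ((MvPolynomial.aeval_X (R := R) (fun q : Fin n × F => (f' (gen q.1)).coeff (q.2 : Γ)) p).symm.trans (hφ₁ _).symm)
    refine AlgHom.ext fun b => ?_
    obtain ⟨c, rfl⟩ := hmks b
    exact AlgHom.congr_fun h2 c

end Groth.Agent.MultDefLib.Weights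

end
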